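import Cfsg.Agent.Lib.SuzukiRankOne.Coords
import Cfsg.Agent.Lib.SuzukiRankOne.Frame
import Cfsg.Agent.S1132
import Cfsg.Agent.S1137
import Cfsg.Agent.S1138
/-!
# A nonabelian 2-group kernel

* `isSuzuki_kernel` : `Q` is a Suzuki 2-group;
* `Coords.central_iff`, `Coords.sq_eq`, `Coords.comm_eq`, `Coords.card_cases` : `Z(Q) = z '' F`,
  squares and commutators lie in it, `|Q| = q² or q³`.
-/

set_option autoImplicit false

namespace Cfsg.Agent.SuzukiRankOne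

open MulAction Cfsg.Agent.RankOne.Setup

universe u v w

variable {G : Type u} {Ω : Type v} [Group G] [Finite G] [MulAction G Ω] [FaithfulSMul G Ω]
  {a : Ω} {t : G} {Q : Subgroup G} {F : Type w} [Field F]

/-- A nonabelian 2-group kernel is a Suzuki 2-group up to isomorphism. -/
theorem isSuzuki_kernel (h : Cfsg.IsRankOneSetup G Ω a t Q) (h2 : TwoInvolutions G) (hQ2 : IsPGroup 2 Q)
    (hna : ¬ IsMulCommutative Q) :
    ∃ S : Subgroup ↥Q, S = ⊤ ∧ Cfsg.IsSuzukiTwoGroup ↥S := by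
  obtain ⟨P, hP⟩ := IsPGroup.exists_le_sylow (hQ2.to_subgroup (⊤ : Subgroup ↥Q))
  refine ⟨P, top_le_iff.1 hP, (S1132.result h h2 P).resolve_left fun hc => hna ⟨⟨fun x y => ?_⟩⟩⟩
  exact congrArg Subtype.val (hc.is_comm.comm ⟨x, hP (Subgroup.mem_top x)⟩ ⟨y, hP (Subgroup.mem_top y)⟩)

namespace Coords

variable (C : Coords a t Q F) (h : Cfsg.IsRankOneSetup G Ω a t Q) (h2 : TwoInvolutions G)
  (hQ2 : IsPGroup 2 Q) (hna : ¬ IsMulCommutative Q)
include C h h2 hQ2 hna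

/-- The centre of `Q`. -/
theorem central_iff {u : G} (hu : u ∈ Q) : (∀ v ∈ Q, u * v = v * u) ↔ u * u = 1 := by
  constructor
  · intro hc
    obtain ⟨S, hS, hSz⟩ := isSuzuki_kernel h h2 hQ2 hna
    have := (S1137.result hSz).2 ⟨⟨u, hu⟩, hS ▸ Subgroup.mem_top _⟩ (Subgroup.mem_center_iff.2 fun g =>
      Subtype.ext (Subtype.ext (hc _ g.1.2).symm))
    exact congrArg (fun x : ↥S => ((x : ↥Q) : G)) this
  · intro he v hv
    obtain ⟨x, rfl⟩ := C.z_surj u (h.le hu) he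
    exact C.z_commute h h2 x hv

theorem sq_eq {u : G} (hu : u ∈ Q) : ∃ x, C.z x = u * u := by
  obtain ⟨S, hS, hSz⟩ := isSuzuki_kernel h h2 hQ2 hna
  refine C.z_surj _ (h.le (mul_mem hu hu)) ((C.central_iff h h2 hQ2 hna (mul_mem hu hu)).1 fun v hv => ?_)
  have := Subgroup.mem_center_iff.1 ((S1138.result hSz).1 ⟨⟨u, hu⟩, hS ▸ Subgroup.mem_top _⟩)
    ⟨⟨v, hv⟩, hS ▸ Subgroup.mem_top _⟩
  exact (congrArg (fun x : ↥S => ((x : ↥Q) : G)) this).symm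

theorem comm_eq {u v : G} (hu : u ∈ Q) (hv : v ∈ Q) : ∃ x, C.z x = u⁻¹ * v⁻¹ * u * v := by
  obtain ⟨S, hS, hSz⟩ := isSuzuki_kernel h h2 hQ2 hna
  have hm : u⁻¹ * v⁻¹ * u * v ∈ Q := mul_mem (mul_mem (mul_mem (inv_mem hu) (inv_mem hv)) hu) hv
  refine C.z_surj _ (h.le hm) ((C.central_iff h h2 hQ2 hna hm).1 fun w hw => ?_)
  have := Subgroup.mem_center_iff.1 ((S1138.result hSz).2.1 ⟨⟨u, hu⟩, hS ▸ Subgroup.mem_top _⟩
    ⟨⟨v, hv⟩, hS ▸ Subgroup.mem_top _⟩) ⟨⟨w, hw⟩, hS ▸ Subgroup.mem_top _⟩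
  exact (congrArg (fun x : ↥S => ((x : ↥Q) : G)) this).symm

theorem card_cases [Finite F] :
    Nat.card Q = Nat.card F ^ 2 ∨ Nat.card Q = Nat.card F ^ 3 := by
  obtain ⟨S, hS, hSz⟩ := isSuzuki_kernel h h2 hQ2 hna
  have hc := (S1138.result hSz).2.2.1
  have e1 : Nat.card ↥S = Nat.card Q := by rw [hS]; exact Nat.card_congr Subgroup.topEquiv.toEquiv
  have e2 : Nat.card (Subgroup.center ↥S) = Nat.card F := by
    refine (Nat.card_congr (Equiv.ofBijective (fun x : F => (⟨⟨⟨C.z x, C.z_mem_Q h x⟩,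
      hS ▸ Subgroup.mem_top _⟩, Subgroup.mem_center_iff.2 fun g => Subtype.ext (Subtype.ext
        (C.z_commute h h2 x g.1.2).symm)⟩ : Subgroup.center ↥S)) ⟨fun x y e => ?_, fun g => ?_⟩)).symm
    · exact C.z_inj (congrArg (fun x : Subgroup.center ↥S => (((x : ↥S) : ↥Q) : G)) e)
    · have hg := (S1137.result hSz).2 g.1 g.2
      obtain ⟨x, hx⟩ := C.z_surj ((g.1 : ↥Q) : G) (h.le g.1.1.2)
        (congrArg (fun x : ↥S => ((x : ↥Q) : G)) hg)
      exact ⟨x, Subtype.ext (Subtype.ext (Subtype.ext hx))⟩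
  rw [e1, e2] at hc
  exact hc

end Coords

end Cfsg.Agent.SuzukiRankOne
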