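import Cfsg.Agent.Lib.SuzukiRankOne.Unitary.Normal
import Cfsg.Agent.Lib.SuzukiRankOne.Elementary
/-!
# `|Q| = q³`: the group generated by `Q` and `t` is determined by `qr`

* `LFrame.kernelEquiv` : the bijection of the kernels respecting labels is multiplicative;
* `LFrame.iso_closure` : `⟨Q, t⟩ ≅ ⟨Q', t'⟩`;
* `Frame.closure_normal` : `⟨Q, t⟩` is normal of odd index.
-/

set_option autoImplicit false

namespace Cfsg.Agent.SuzukiRankOne

open MulAction Cfsg.Agent.RankOne Cfsg.Agent.RankOne.Setup Unitary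
open scoped MatrixGroups

universe u v w u' v'

variable {G : Type u} {Ω : Type v} [Group G] [Finite G] [MulAction G Ω] [FaithfulSMul G Ω]
  {a : Ω} {t : G} {Q : Subgroup G} {F : Type w} [Field F] [Finite F] [CharP F 2]
  {G' : Type u'} {Ω' : Type v'} [Group G'] [Finite G'] [MulAction G' Ω'] [FaithfulSMul G' Ω']
  {a' : Ω'} {t' : G'} {Q' : Subgroup G'}

namespace LFrame

variable (P : LFrame a t Q F) (P' : LFrame a' t' Q' F)

open Classical in
/-- The bijection of kernels respecting labels. -/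
noncomputable def beta (u : G) : G' :=
  if hz : ∃ x, P.co.z x = u then P'.co.z (Classical.choose hz)
  else if hl : ∃ g, P.elt g = u then P'.elt (Classical.choose hl) else 1

theorem beta_z (x : F) : beta P P' (P.co.z x) = P'.co.z x := by
  have hz : ∃ y, P.co.z y = P.co.z x := ⟨x, rfl⟩
  rw [beta, dif_pos hz, P.co.z_inj (Classical.choose_spec hz)]

theorem beta_elt (g : SL(2, F)) : beta P P' (P.elt g) = P'.elt g := by
  have hz : ¬ ∃ y, P.co.z y = P.elt g := fun ⟨y, hy⟩ => P.elt_sq_ne g (by rw [← hy, P.co.z_sq])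
  have hl : ∃ g', P.elt g' = P.elt g := ⟨g, rfl⟩
  rw [beta, dif_neg hz, dif_pos hl, P.elt_inj (Classical.choose_spec hl)]

theorem beta_phi (T R : F × F) : beta P P' (P.phi T R) = P'.phi T R := beta_elt P P' _

theorem kernel_cases {u : G} (hu : u ∈ Q) :
    (∃ x, P.co.z x = u) ∨ ∃ T R, det₂ T R = 1 ∧ P.phi T R = u := by
  by_cases h2 : u * u = 1
  · exact Or.inl (P.co.z_surj u (P.setup.le hu) h2)
  · exact Or.inr (P.exists_phi hu h2)

theorem beta_z_mul (x : F) {u : G} (hu : u ∈ Q) : beta P P' (P.co.z x * u) = P'.co.z x * beta P P' u := by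
  rcases P.kernel_cases hu with ⟨y, rfl⟩ | ⟨T, R, h, rfl⟩
  · rw [← P.co.z_add, beta_z, beta_z, P'.co.z_add]
  · rw [P.z_mul_phi h, beta_phi, beta_phi, P'.z_mul_phi h]

variable (hqr : ∀ R, R ≠ 0 → P'.qr R = P.qr R)
include hqr

theorem beta_inv {u : G} (hu : u ∈ Q) : beta P P' u⁻¹ = (beta P P' u)⁻¹ := by
  rcases P.kernel_cases hu with ⟨y, rfl⟩ | ⟨T, R, h, rfl⟩
  · rw [P.co.z_inv, beta_z, P'.co.z_inv]
  · rw [P.phi_inv h, beta_phi, beta_phi, P'.phi_inv h,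
      hqr R (right_ne_zero (x := T) (by rw [h]; exact one_ne_zero))]

/-- `X⁻¹ * Y` for labels with independent second rows. -/
theorem beta_div {T₁ R₁ T₂ R₂ : F × F} (h1 : det₂ T₁ R₁ = 1) (h2 : det₂ T₂ R₂ = 1) (hd : det₂ R₁ R₂ ≠ 0) :
    beta P P' ((P.phi T₁ R₁)⁻¹ * P.phi T₂ R₂) = (P'.phi T₁ R₁)⁻¹ * P'.phi T₂ R₂ := by
  obtain ⟨ζ, hζdef⟩ : ∃ ζ, ζ = det₂ R₁ R₂ := ⟨_, rfl⟩
  have hζ : ζ ≠ 0 := hζdef ▸ hd
  obtain ⟨R, hR⟩ : ∃ R, R = ζ⁻¹ • (R₁ + R₂) := ⟨_, rfl⟩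
  have h : det₂ R₁ R = 1 := by
    rw [hR, det₂_smul_right, det₂_add_right, det₂_self, zero_add, ← hζdef, inv_mul_cancel₀ hζ]
  have hR2 : R₂ = R₁ + ζ • R := by
    have : R₁ + R₁ = 0 := by rw [← two_smul F, CharTwo.two_eq_zero, zero_smul]
    rw [hR, smul_smul, mul_inv_cancel₀ hζ, one_smul, ← add_assoc, this, zero_add]
  obtain ⟨x, hx⟩ := exists_shift (det_swap h) h1
  have h' : det₂ R R₂ = 1 := by rw [hR2]; exact det_swap (LData.det_line h ζ)
  obtain ⟨y, hy⟩ := exists_shift h' h2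
  obtain ⟨T, hT⟩ : ∃ T, T = T₂ := ⟨_, rfl⟩
  obtain ⟨Y₁, hY₁⟩ : ∃ Y, Y = R + P.qr R₁ • R₁ := ⟨_, rfl⟩
  obtain ⟨Y₂, hY₂⟩ : ∃ Y, Y = R₁ + (ζ⁻¹ * (P.qr R / P.qr R₁)) • (R + P.qr R₁ • R₁) := ⟨_, rfl⟩
  have e := P.mul_label h hζ
  have e' := P'.mul_label h hζ
  have hne : R ≠ 0 := right_ne_zero (x := R₁) (by rw [h]; exact one_ne_zero)
  have hne1 : R₁ ≠ 0 := left_ne_zero (y := R) (by rw [h]; exact one_ne_zero)
  rw [hqr R hne, hqr R₁ hne1] at e'
  rw [← hY₂, ← hY₁, ← hR2] at e e'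
  have key : (P.phi T₁ R₁)⁻¹ * P.phi T₂ R₂ = P.co.z (x + y) * P.phi Y₁ Y₂ := by
    rw [hx, hy, ← P.z_mul_phi (det_swap h), ← P.z_mul_phi h', ← e, P.co.z_add, mul_inv_rev, P.co.z_inv]
    calc (P.phi R R₁)⁻¹ * P.co.z x * (P.co.z y * (P.phi R R₁ * P.phi Y₁ Y₂))
        = (P.phi R R₁)⁻¹ * (P.co.z x * P.co.z y * P.phi R R₁) * P.phi Y₁ Y₂ := by group
      _ = _ := by
        rw [← P.co.z_add, P.co.z_commute P.setup P.two (x + y) (P.phi_mem R R₁)]
        group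
  have key' : (P'.phi T₁ R₁)⁻¹ * P'.phi T₂ R₂ = P'.co.z (x + y) * P'.phi Y₁ Y₂ := by
    rw [hx, hy, ← P'.z_mul_phi (det_swap h), ← P'.z_mul_phi h', ← e', P'.co.z_add, mul_inv_rev, P'.co.z_inv]
    calc (P'.phi R R₁)⁻¹ * P'.co.z x * (P'.co.z y * (P'.phi R R₁ * P'.phi Y₁ Y₂))
        = (P'.phi R R₁)⁻¹ * (P'.co.z x * P'.co.z y * P'.phi R R₁) * P'.phi Y₁ Y₂ := by group
      _ = _ := by
        rw [← P'.co.z_add, P'.co.z_commute P'.setup P'.two (x + y) (P'.phi_mem R R₁)]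
        group
  rw [key, key', beta_z_mul P P' (x + y) (P.phi_mem Y₁ Y₂), beta_phi]

theorem beta_mul_indep {T₁ R₁ T₂ R₂ : F × F} (h1 : det₂ T₁ R₁ = 1) (h2 : det₂ T₂ R₂ = 1)
    (hd : det₂ R₁ R₂ ≠ 0) : beta P P' (P.phi T₁ R₁ * P.phi T₂ R₂) = P'.phi T₁ R₁ * P'.phi T₂ R₂ := by
  have h1' := LData.det_line h1 (P.qr R₁)
  have hR₁ : R₁ ≠ 0 := right_ne_zero (x := T₁) (by rw [h1]; exact one_ne_zero)
  have e := beta_div P P' hqr h1' h2 hd
  rw [← P.phi_inv h1, inv_inv, ← hqr R₁ hR₁, ← P'.phi_inv h1, inv_inv] at e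
  exact e

theorem beta_mul {u v : G} (hu : u ∈ Q) (hv : v ∈ Q) :
    beta P P' (u * v) = beta P P' u * beta P P' v := by
  rcases P.kernel_cases hu with ⟨x, rfl⟩ | ⟨T₁, R₁, h1, rfl⟩
  · rw [beta_z_mul P P' x hv, beta_z]
  rcases P.kernel_cases hv with ⟨x, rfl⟩ | ⟨T₂, R₂, h2, rfl⟩
  · rw [P.phi_mul_z h1, beta_phi, beta_phi, beta_z, P'.phi_mul_z h1]
  rw [beta_phi, beta_phi]
  have hR₁ : R₁ ≠ 0 := right_ne_zero (x := T₁) (by rw [h1]; exact one_ne_zero)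
  have hR₂ : R₂ ≠ 0 := right_ne_zero (x := T₂) (by rw [h2]; exact one_ne_zero)
  by_cases hd : det₂ R₁ R₂ = 0
  swap
  · exact beta_mul_indep P P' hqr h1 h2 hd
  obtain ⟨c, hc⟩ : ∃ c : F, R₂ = c • R₁ := by
    refine ⟨det₂ R₂ T₁, ?_⟩
    conv_lhs => rw [eq_comb h1 R₂]
    rw [det₂_comm R₂ R₁, hd, zero_smul, zero_add]
  have hc0 : c ≠ 0 := fun e => hR₂ (by rw [hc, e, zero_smul])
  by_cases hc1 : c = 1
  · subst hc1
    rw [one_smul] at hc
    obtain ⟨x, hx⟩ := exists_shift h1 (hc ▸ h2)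
    rw [hc, hx, ← P.phi_mul_z h1, ← P'.phi_mul_z h1, ← mul_assoc, P.phi_sq h1, ← P.co.z_add,
      beta_z, ← mul_assoc, P'.phi_sq h1, ← P'.co.z_add, hqr R₁ hR₁]
  -- an intermediate label
  obtain ⟨W, hW⟩ : ∃ W, W = T₁ := ⟨_, rfl⟩
  have hw : det₂ R₁ W = 1 := hW ▸ det_swap h1
  have hW0 : W ≠ 0 := right_ne_zero (x := R₁) (by rw [hw]; exact one_ne_zero)
  obtain ⟨U, hU⟩ : ∃ U, U = W + P.qr W • R₁ := ⟨_, rfl⟩
  have hd1 : det₂ R₁ W ≠ 0 := by rw [hw]; exact one_ne_zero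
  have hd2 : det₂ W R₂ ≠ 0 := by rw [hc, det₂_smul_right, det₂_comm, hw, mul_one]; exact hc0
  obtain ⟨r₅, hr₅, hs₅, hq₅⟩ := P.cls_add hd1
  obtain ⟨r₆, hr₆, hs₆, hq₆⟩ := P.cls_add hd2
  have hlab : ∀ {Ta Ra Tb Rb r : F × F}, det₂ Ta Ra = 1 → det₂ Tb Rb = 1 → r ≠ 0 →
      P.cls Ra + P.cls Rb = P.cls r → ∃ T, det₂ T r = 1 ∧ P.phi T r = P.phi Ta Ra * P.phi Tb Rb := by
    intro Ta Ra Tb Rb r ha hb hr e
    have hm := mul_mem (P.phi_mem Ta Ra) (P.phi_mem Tb Rb)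
    have hcl : cl (⟨_, hm⟩ : ↥Q) = P.cls r := by
      rw [← e, P.cls_eq ha, P.cls_eq hb, ← cl_mul]; rfl
    rcases P.kernel_cases hm with ⟨y, hy⟩ | ⟨T, R, hTR, hTR'⟩
    · refine absurd ?_ (P.cls_ne hr)
      rw [← hcl, show (⟨_, hm⟩ : ↥Q) = ⟨P.co.z y, P.co.z_mem_Q P.setup y⟩ from Subtype.ext hy.symm, P.cl_z]
    · have : P.cls R = P.cls r := by
        rw [← hcl, P.cls_eq hTR]; exact congrArg cl (Subtype.ext hTR')
      obtain rfl := P.cls_inj (right_ne_zero (x := T) (by rw [hTR]; exact one_ne_zero)) hr this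
      exact ⟨T, hTR, hTR'⟩
  have hdW : det₂ (R₁ + P.qr W • W) W = 1 := LData.det_line hw _
  obtain ⟨T₅, h5, e5⟩ := hlab h1 hw hr₅ hs₅
  obtain ⟨T₆, h6, e6⟩ := hlab hdW h2 hr₆ hs₆
  have hd56 : det₂ r₅ r₆ ≠ 0 := by
    intro e0
    have e1 : det₂ (P.qr r₅ • r₅) (P.qr r₆ • r₆) = 0 := by
      rw [det₂_smul_left, det₂_smul_right, e0, mul_zero, mul_zero]
    rw [hq₅, hq₆, hc] at e1
    simp only [det₂_add_left, det₂_add_right, det₂_smul_left, det₂_smul_right, det₂_self, det₂_comm W R₁,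
      hw, mul_zero, mul_one, add_zero, zero_add] at e1
    have e2 := P.qr_smul hc0 hR₁
    have n1 := P.qr_ne hR₁
    have n2 := P.qr_ne hW0
    have e3 : P.qr R₁ * P.qr W * (c + 1) = 0 := by linear_combination c * e1 - P.qr W * e2
    rcases mul_eq_zero.1 e3 with e4 | e4
    · exact mul_ne_zero n1 n2 e4
    · exact hc1 (CharTwo.add_eq_zero.1 e4)
  have hWi : (P.phi R₁ W)⁻¹ = P.phi (R₁ + P.qr W • W) W := P.phi_inv hw
  have hWi' : (P'.phi R₁ W)⁻¹ = P'.phi (R₁ + P.qr W • W) W := by rw [P'.phi_inv hw, hqr W hW0]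
  rw [show P.phi T₁ R₁ * P.phi T₂ R₂ = P.phi T₅ r₅ * P.phi T₆ r₆ by rw [e5, e6, ← hWi]; group,
    beta_mul_indep P P' hqr h5 h6 hd56]
  have f5 : P'.phi T₅ r₅ = P'.phi T₁ R₁ * P'.phi R₁ W := by
    rw [← beta_phi P P' T₅ r₅, e5, beta_mul_indep P P' hqr h1 hw hd1]
  have f6 : P'.phi T₆ r₆ = P'.phi (R₁ + P.qr W • W) W * P'.phi T₂ R₂ := by
    rw [← beta_phi P P' T₆ r₆, e6, beta_mul_indep P P' hqr hdW h2 hd2]
  rw [f5, f6, ← hWi']
  group

omit hqr in
theorem beta_mem {u : G} (hu : u ∈ Q) : beta P P' u ∈ Q' := by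
  rcases P.kernel_cases hu with ⟨x, rfl⟩ | ⟨T, R, h, rfl⟩
  · rw [beta_z]; exact P'.co.z_mem_Q P'.setup x
  · rw [beta_phi]; exact P'.phi_mem T R

omit hqr in
theorem beta_beta {u : G} (hu : u ∈ Q) : beta P' P (beta P P' u) = u := by
  rcases P.kernel_cases hu with ⟨x, rfl⟩ | ⟨T, R, h, rfl⟩
  · rw [beta_z, beta_z]
  · rw [beta_phi, beta_phi]

/-- The isomorphism of kernels. -/
noncomputable def kernelEquiv : ↥Q ≃* ↥Q' where
  toFun u := ⟨beta P P' u, beta_mem P P' u.2⟩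
  invFun u := ⟨beta P' P u, beta_mem P' P u.2⟩
  left_inv u := Subtype.ext (beta_beta P P' u.2)
  right_inv u := Subtype.ext (beta_beta P' P u.2)
  map_mul' u v := Subtype.ext (beta_mul P P' hqr u.2 v.2)

omit hqr in
/-- The points as `Option Q`. -/
noncomputable def pts : Option ↥Q ≃ Ω :=
  Equiv.ofBijective (fun o => o.elim a fun u => (u : G) • (t • a))
    ⟨fun o o' e => by
      cases o <;> cases o' <;> simp only [Option.elim_none, Option.elim_some] at e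
      · rfl
      · exact absurd e.symm (smul_ne_self P.setup (Subtype.prop _) (t_smul_ne P.setup))
      · exact absurd e (smul_ne_self P.setup (Subtype.prop _) (t_smul_ne P.setup))
      · exact congrArg some ((regular P.setup (t_smul_ne P.setup)
          (smul_ne_self P.setup (Subtype.prop _) (t_smul_ne P.setup))).unique rfl e.symm),
    fun x => by
      by_cases hx : x = a
      · exact ⟨none, hx.symm⟩
      · obtain ⟨u, hu, e⟩ := exists_smul_eq P.setup hx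
        exact ⟨some ⟨u, hu⟩, e⟩⟩

omit hqr in
theorem pts_none : P.pts none = a := rfl

omit hqr in
theorem pts_some (u : ↥Q) : P.pts (some u) = (u : G) • (t • a) := rfl

/-- The bijection of points. -/
noncomputable def ptsEquiv : Ω ≃ Ω' :=
  P.pts.symm.trans ((Equiv.optionCongr (kernelEquiv P P' hqr).toEquiv).trans P'.pts)

theorem ptsEquiv_a : ptsEquiv P P' hqr a = a' := by
  have : P.pts.symm a = none := by rw [Equiv.symm_apply_eq]; rfl
  simp [ptsEquiv, this, pts_none]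

theorem ptsEquiv_smul {u : G} (hu : u ∈ Q) :
    ptsEquiv P P' hqr (u • (t • a)) = beta P P' u • (t' • a') := by
  have : P.pts.symm (u • (t • a)) = some ⟨u, hu⟩ := by rw [Equiv.symm_apply_eq]; rfl
  simp [ptsEquiv, this, pts_some, kernelEquiv]

theorem ptsEquiv_b : ptsEquiv P P' hqr (t • a) = t' • a' := by
  have := ptsEquiv_smul P P' hqr (one_mem Q)
  rw [one_smul] at this
  rw [this, show beta P P' 1 = 1 by rw [← P.co.z_zero, beta_z, P'.co.z_zero], one_smul]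

omit hqr in
theorem t_z_smul {x : F} (hx : x ≠ 0) : t • (P.co.z x • (t • a)) = P.co.z x⁻¹ • (t • a) := by
  have e := (P.toFrame.weyl (Units.mk0 x⁻¹ (inv_ne_zero hx))).1
  rw [Units.val_mk0, inv_inv] at e
  have e' : t * P.co.z x * t = P.co.z x⁻¹ * P.co.k (Units.mk0 x⁻¹ (inv_ne_zero hx)) * t * P.co.z x⁻¹ := by
    calc t * P.co.z x * t
        = P.co.z x⁻¹ * (P.co.z x⁻¹ * (t * P.co.z x * t) * P.co.z x⁻¹) * P.co.z x⁻¹ := by
          simp [← mul_assoc, P.co.z_sq]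
          simp [mul_assoc, P.co.z_sq]
      _ = _ := by rw [e]; group
  rw [← mul_smul, ← mul_smul, e', mul_smul, mul_smul, mul_smul, P.co.z_smul_a,
    (mem_dd.1 (P.co.k_mem_dd _)).2]

theorem ptsEquiv_t (x : Ω) : ptsEquiv P P' hqr (t • x) = t' • ptsEquiv P P' hqr x := by
  obtain ⟨o, rfl⟩ := P.pts.surjective x
  cases o with
  | none => rw [pts_none, ptsEquiv_b, ptsEquiv_a]
  | some u =>
    rw [pts_some, ptsEquiv_smul P P' hqr u.2]
    rcases P.kernel_cases u.2 with ⟨y, hy⟩ | ⟨T, R, h, hT⟩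
    · rw [← hy, beta_z]
      rcases eq_or_ne y 0 with rfl | hy0
      · rw [P.co.z_zero, P'.co.z_zero, one_smul, one_smul, ← mul_smul, P.setup.mul_self, one_smul,
          ptsEquiv_a, ← mul_smul, P'.setup.mul_self, one_smul]
      · rw [P.t_z_smul hy0, P'.t_z_smul hy0, ptsEquiv_smul P P' hqr (P.co.z_mem_Q P.setup _), beta_z]
    · rw [← hT, beta_phi, ← mul_smul, P.t_phi_smul h, ← mul_smul t', P'.t_phi_smul h,
        ptsEquiv_smul P P' hqr (P.phi_mem R T), beta_phi]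

theorem ptsEquiv_q {v : G} (hv : v ∈ Q) (x : Ω) :
    ptsEquiv P P' hqr (v • x) = beta P P' v • ptsEquiv P P' hqr x := by
  obtain ⟨o, rfl⟩ := P.pts.surjective x
  cases o with
  | none =>
    rw [pts_none, show v • a = a from P.setup.le hv, ptsEquiv_a]
    exact (P'.setup.le (beta_mem P P' hv)).symm
  | some u =>
    rw [pts_some, ← mul_smul, ptsEquiv_smul P P' hqr (Q.mul_mem hv u.2), ptsEquiv_smul P P' hqr u.2,
      beta_mul P P' hqr hv u.2, mul_smul]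

/-- `⟨Q, t⟩ ≅ ⟨Q', t'⟩`. -/
theorem iso_closure :
    Nonempty (↥(Subgroup.closure ((Q : Set G) ∪ {t})) ≃* ↥(Subgroup.closure ((Q' : Set G') ∪ {t'}))) := by
  let f : G →* Equiv.Perm Ω' :=
    (ptsEquiv P P' hqr).permCongrHom.toMonoidHom.comp (MulAction.toPermHom G Ω)
  let f' : G' →* Equiv.Perm Ω' := MulAction.toPermHom G' Ω'
  have hf : Function.Injective f := fun g g' e =>
    MulAction.toPerm_injective ((ptsEquiv P P' hqr).permCongr.injective e)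
  have hf' : Function.Injective f' := MulAction.toPerm_injective
  have hfe : ∀ g x, f g (ptsEquiv P P' hqr x) = ptsEquiv P P' hqr (g • x) := fun g x => by
    show (ptsEquiv P P' hqr).permCongr (MulAction.toPerm g) _ = _
    simp [Equiv.permCongr_apply]
  have ht : f t = f' t' := Equiv.ext fun x => by
    obtain ⟨x, rfl⟩ := (ptsEquiv P P' hqr).surjective x
    rw [hfe, ptsEquiv_t]; rfl
  have hq : ∀ v ∈ Q, f v = f' (beta P P' v) := fun v hv => Equiv.ext fun x => by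
    obtain ⟨x, rfl⟩ := (ptsEquiv P P' hqr).surjective x
    rw [hfe, ptsEquiv_q P P' hqr hv]; rfl
  have himg : f '' ((Q : Set G) ∪ {t}) = f' '' ((Q' : Set G') ∪ {t'}) := by
    ext y
    constructor
    · rintro ⟨v, hv | hv, rfl⟩
      · exact ⟨_, Or.inl (beta_mem P P' hv), (hq v hv).symm⟩
      · exact ⟨t', Or.inr rfl, by rw [Set.mem_singleton_iff.1 hv, ht]⟩
    · rintro ⟨v, hv | hv, rfl⟩
      · refine ⟨beta P' P v, Or.inl (beta_mem P' P hv), ?_⟩
        rw [hq _ (beta_mem P' P hv), beta_beta P' P hv]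
      · exact ⟨t, Or.inr rfl, by rw [Set.mem_singleton_iff.1 hv, ht]⟩
  have hmap : (Subgroup.closure ((Q : Set G) ∪ {t})).map f =
      (Subgroup.closure ((Q' : Set G') ∪ {t'})).map f' := by
    rw [MonoidHom.map_closure, MonoidHom.map_closure, himg]
  exact ⟨((Subgroup.equivMapOfInjective _ f hf).trans (MulEquiv.subgroupCongr hmap)).trans
    (Subgroup.equivMapOfInjective _ f' hf').symm⟩

end LFrame

namespace Frame

omit [FaithfulSMul G Ω] in
/-- `⟨Q, t⟩` is normal of odd index. -/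
theorem closure_normal [FaithfulSMul G Ω] (P : Frame a t Q F) :
    (Subgroup.closure ((Q : Set G) ∪ {t})).Normal ∧ Odd (Subgroup.closure ((Q : Set G) ∪ {t})).index := by
  obtain ⟨S, hS⟩ : ∃ S, S = Subgroup.closure ((Q : Set G) ∪ {t}) := ⟨_, rfl⟩
  rw [← hS]
  have hQ : ∀ v ∈ Q, v ∈ S := fun v hv => hS ▸ Subgroup.subset_closure (Or.inl hv)
  have ht : t ∈ S := hS ▸ Subgroup.subset_closure (Or.inr rfl)
  have hk : ∀ b, P.co.k b ∈ S := fun b => by
    have e := (P.weyl b).1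
    have hz := fun x => hQ _ (P.co.z_mem_Q P.setup x)
    have e' : P.co.k b = P.co.z (b : F) * (t * P.co.z (b : F)⁻¹ * t) * P.co.z (b : F) * t := by
      rw [e, mul_assoc, P.setup.mul_self, mul_one]
    rw [e']
    exact S.mul_mem (S.mul_mem (S.mul_mem (hz _) (S.mul_mem (S.mul_mem ht (hz _)) ht)) (hz _)) ht
  have hgen : ∀ g : G, ∃ l ∈ S, ∃ d ∈ (stabilizer G a ⊓ stabilizer G (t • a) : Subgroup G), g = l * d := by
    intro g
    by_cases hg : g ∈ stabilizer G a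
    · obtain ⟨x, hx, d, hd, rfl⟩ := exists_decomp P.setup hg
      exact ⟨x, hQ x hx, d, hd, rfl⟩
    · obtain ⟨⟨g1, f⟩, ⟨hg1, hf, e⟩, -⟩ := existsUnique_canonical P.setup hg
      obtain ⟨x, hx, d, hd, rfl⟩ := exists_decomp P.setup hg1
      have hd' := t_conj_mem P.setup hd
      refine ⟨x * t * ((t * d * t) * f * (t * d * t)⁻¹),
        S.mul_mem (S.mul_mem (hQ x hx) ht) (hQ _ (P.setup.conj_mem _ hd'.1 f hf)), _, hd', ?_⟩
      have htt : ∀ x : G, t * (t * x) = x := fun x => by rw [← mul_assoc, P.setup.mul_self, one_mul]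
      rw [e]
      simp [mul_assoc, htt, t_inv P.setup, P.setup.mul_self]
  have hnorm : ∀ d ∈ (stabilizer G a ⊓ stabilizer G (t • a) : Subgroup G), ∀ l ∈ S, d * l * d⁻¹ ∈ S := by
    intro d hd l hl
    suffices S ≤ S.comap (MulAut.conj d).toMonoidHom from this hl
    conv_lhs => rw [hS]
    rw [Subgroup.closure_le]
    rintro v (hv | hv)
    · exact hQ _ (P.setup.conj_mem d hd.1 v hv)
    · show d * v * d⁻¹ ∈ S
      obtain ⟨b, hb⟩ := P.co.k_surj _ (dd_conj_t P.setup hd)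
      rw [Set.mem_singleton_iff.1 hv, show d * t * d⁻¹ = (d * t * d⁻¹ * t) * t by
        rw [mul_assoc _ t t, P.setup.mul_self, mul_one], ← hb]
      exact S.mul_mem (hk b) ht
  have hN : S.Normal := ⟨fun l hl g => by
    obtain ⟨l', hl', d, hd, rfl⟩ := hgen g
    have := S.mul_mem (S.mul_mem hl' (hnorm d hd l hl)) (S.inv_mem hl')
    simpa [mul_assoc] using this⟩
  haveI := hN
  refine ⟨hN, P.setup.odd_card.of_dvd_nat ?_⟩
  rw [Subgroup.index_eq_card]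
  refine Subgroup.card_dvd_of_surjective
    ((QuotientGroup.mk' S).comp (stabilizer G a ⊓ stabilizer G (t • a)).subtype) fun x => ?_
  obtain ⟨g, rfl⟩ := QuotientGroup.mk'_surjective S x
  obtain ⟨l, hl, d, hd, rfl⟩ := hgen g
  refine ⟨⟨d, hd⟩, ?_⟩
  rw [map_mul, show (QuotientGroup.mk' S) l = 1 from (QuotientGroup.eq_one_iff l).2 hl, one_mul]
  rfl

end Frame

end Cfsg.Agent.SuzukiRankOne
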