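import Cfsg.Agent.Lib.RankOne.SetupTwoRank
import Cfsg.Agent.Lib.SuzukiRankOne.Interface
/-!
# Sub- and quotient set-ups

* `faithful_quotient` : a set-up modulo the kernel of the action;
* `centralizer_setup` : `C(d)` on the fixed points of `d ∈ C_D(t)`.
-/

set_option autoImplicit false

namespace Cfsg.Agent.SuzukiRankOne

open MulAction Cfsg.Agent.RankOne.Setup

universe u v

/-- A set-up modulo the kernel of the action. -/
theorem faithful_quotient {H : Type u} {Ω : Type v} [Group H] [Finite H] [MulAction H Ω] {a : Ω} {t : H}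
    {Q : Subgroup H} (h : Cfsg.IsRankOneSetup H Ω a t Q) :
    ∃ (H' : Type u) (_ : Group H') (_ : Finite H') (_ : MulAction H' Ω) (_ : FaithfulSMul H' Ω)
      (π : H →* H'), Cfsg.IsRankOneSetup H' Ω a (π t) (Q.map π) ∧ Nat.card H' ≤ Nat.card H ∧
        Set.InjOn π Q ∧ (∀ (g : H) (x : Ω), π g • x = g • x) ∧ param H' a = param H a := by
  classical
  let N := (MulAction.toPermHom H Ω).ker
  letI : MulAction (H ⧸ N) Ω := MulAction.compHom Ω (QuotientGroup.kerLift (MulAction.toPermHom H Ω))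
  let π : H →* H ⧸ N := QuotientGroup.mk' N
  have hπ : ∀ (g : H) (x : Ω), π g • x = g • x := fun g x => rfl
  haveI : FaithfulSMul (H ⧸ N) Ω := ⟨fun {x y} e =>
    QuotientGroup.kerLift_injective (MulAction.toPermHom H Ω) (Equiv.ext e)⟩
  have hs : ∀ g, π g ∈ stabilizer (H ⧸ N) a ↔ g ∈ stabilizer H a := fun g => by
    rw [mem_stabilizer_iff, mem_stabilizer_iff, hπ]
  have hinj : Set.InjOn π Q := fun x hx y hy e => by
    refine (inv_mul_eq_one.1 (eq_one_of_fix h (Q.mul_mem (Q.inv_mem hx) hy) (t_smul_ne h) ?_))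
    rw [mul_smul, ← hπ y, ← e, hπ, inv_smul_smul]
  have hset : Cfsg.IsRankOneSetup (H ⧸ N) Ω a (π t) (Q.map π) := by
    refine
      { two_transitive := is_two_pretransitive_iff.2 fun {b c b' c'} hb hb' => by
          obtain ⟨g, e1, e2⟩ := is_two_pretransitive_iff.1 h.two_transitive hb hb'
          exact ⟨π g, (hπ g b).trans e1, (hπ g c).trans e2⟩
        mul_self := by rw [← map_mul, h.mul_self, map_one]
        ne_one := fun e => t_smul_ne h (by rw [← hπ, e, one_smul])
        not_mem := fun e => h.not_mem ((hs t).1 e)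
        le := Subgroup.map_le_iff_le_comap.2 fun x hx => (hs x).2 (h.le hx)
        conj_mem := ?_
        inf_eq_bot := ?_
        sup_eq := ?_
        even_card := ?_
        odd_card := ?_ }
    · intro g hg x hx
      obtain ⟨g, rfl⟩ := QuotientGroup.mk'_surjective N g
      obtain ⟨x, hx', rfl⟩ := Subgroup.mem_map.1 hx
      exact ⟨g * x * g⁻¹, h.conj_mem g ((hs g).1 hg) x hx', by simp [π]⟩
    · rw [Subgroup.eq_bot_iff_forall]
      rintro _ ⟨⟨x, hx, rfl⟩, hx'⟩
      have hx' : π x • π t • a = π t • a := hx'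
      rw [hπ, hπ] at hx'
      rw [eq_one_of_fix h hx (t_smul_ne h) hx', map_one]
    · refine le_antisymm (sup_le (Subgroup.map_le_iff_le_comap.2 fun x hx => (hs x).2 (h.le hx))
        inf_le_left) fun g hg => ?_
      obtain ⟨g, rfl⟩ := QuotientGroup.mk'_surjective N g
      obtain ⟨x, hx, d, hd, rfl⟩ := exists_decomp h ((hs g).1 hg)
      rw [map_mul]
      refine Subgroup.mul_mem_sup (Subgroup.mem_map_of_mem π hx) ⟨(hs d).2 hd.1, ?_⟩
      show π d • π t • a = π t • a
      rw [hπ, hπ]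
      exact hd.2
    · rw [show Nat.card ↥(Q.map π) = Nat.card ↥Q from (Nat.card_congr (Equiv.ofBijective
        (fun x : Q => (⟨π x, Subgroup.mem_map_of_mem π x.2⟩ : ↥(Q.map π)))
        ⟨fun x y e => Subtype.ext (hinj x.2 y.2 (congrArg Subtype.val e)),
         fun y => by obtain ⟨x, hx, e⟩ := Subgroup.mem_map.1 y.2; exact ⟨⟨x, hx⟩, Subtype.ext e⟩⟩)).symm]
      exact h.even_card
    · refine h.odd_card.of_dvd_nat (Subgroup.card_dvd_of_surjective
        ((π.comp (stabilizer H a ⊓ stabilizer H (t • a)).subtype).codRestrict _ fun d =>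
          ⟨(hs _).2 d.2.1, show π (d : H) • π t • a = π t • a by rw [hπ, hπ]; exact d.2.2⟩) ?_)
      rintro ⟨g, hg1, hg2⟩
      obtain ⟨g, rfl⟩ := QuotientGroup.mk'_surjective N g
      refine ⟨⟨g, (hs g).1 hg1, ?_⟩, rfl⟩
      have : π g • π t • a = π t • a := hg2
      rw [hπ, hπ] at this
      exact this
  refine ⟨H ⧸ N, inferInstance, inferInstance, inferInstance, inferInstance, π, hset,
    Nat.card_le_card_of_surjective π (QuotientGroup.mk'_surjective N), hinj, hπ, ?_⟩
  unfold param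
  congr 1
  refine (Nat.card_eq_of_bijective (fun u : Cfsg.involutionsIn (stabilizer H a : Set H) =>
    (⟨π u.1, (hs _).2 u.2.1, fun e => u.2.2.1 (hinj (mem_Q_of_ii h u.2) (one_mem Q) (e.trans (map_one π).symm)),
      by rw [← map_mul, u.2.2.2, map_one]⟩ : Cfsg.involutionsIn (stabilizer (H ⧸ N) a : Set (H ⧸ N))))
    ⟨fun u u' e => Subtype.ext (hinj (mem_Q_of_ii h u.2) (mem_Q_of_ii h u'.2) (congrArg Subtype.val e)),
      fun v => ?_⟩).symm
  obtain ⟨x, hx, hxv⟩ := Subgroup.mem_map.1 (mem_Q_of_ii hset v.2)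
  refine ⟨⟨x, h.le hx, fun e => v.2.2.1 (by rw [← hxv, e, map_one]), hinj (Q.mul_mem hx hx) (one_mem Q) ?_⟩,
    Subtype.ext hxv⟩
  rw [map_mul, map_one, hxv, v.2.2.2]

/-- The centraliser of `d ∈ C_D(t)` on the fixed points of `d`. -/
theorem centralizer_setup {G : Type u} {Ω : Type v} [Group G] [Finite G] [MulAction G Ω] {a : Ω} {t : G}
    {Q : Subgroup G} (h : Cfsg.IsRankOneSetup G Ω a t Q) {d : G}
    (hd : d ∈ stabilizer G a ⊓ stabilizer G (t • a)) (hdt : t * d = d * t) :
    ∃ (Ω' : Type v) (_ : MulAction (Subgroup.centralizer ({d} : Set G)) Ω') (a' : Ω')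
      (ι : Ω' → Ω) (t' : Subgroup.centralizer ({d} : Set G)),
      Function.Injective ι ∧ ι a' = a ∧ (t' : G) = t ∧
      (∀ (g : Subgroup.centralizer ({d} : Set G)) (x : Ω'), ι (g • x) = (g : G) • ι x) ∧
      Cfsg.IsRankOneSetup (Subgroup.centralizer ({d} : Set G)) Ω' a' t'
        (Q.subgroupOf (Subgroup.centralizer ({d} : Set G))) := by
  classical
  have hcm : ∀ g : Subgroup.centralizer ({d} : Set G), d * (g : G) = g * d := fun g =>
    Subgroup.mem_centralizer_iff.1 g.2 d rfl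
  letI : MulAction (Subgroup.centralizer ({d} : Set G)) {x : Ω // d • x = x} :=
    { smul := fun g x => ⟨(g : G) • x.1, by rw [← mul_smul, hcm, mul_smul, x.2]⟩
      one_smul := fun x => Subtype.ext (one_smul G x.1)
      mul_smul := fun g g' x => Subtype.ext (mul_smul (g : G) g' x.1) }
  have htC : t ∈ Subgroup.centralizer ({d} : Set G) :=
    Subgroup.mem_centralizer_iff.2 fun x hx => by rw [Set.mem_singleton_iff.1 hx]; exact hdt.symm
  have h3 : ∃ b c e : Ω, b ≠ c ∧ b ≠ e ∧ c ≠ e ∧ ∀ x ∈ ({d} : Set G), x • b = b ∧ x • c = c ∧ x • e = e :=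
    three_points_of_commute h fun x hx => by rw [Set.mem_singleton_iff.1 hx]; exact ⟨hd, hdt⟩
  refine ⟨{x : Ω // d • x = x}, inferInstance, ⟨a, hd.1⟩, Subtype.val, ⟨t, htC⟩, Subtype.val_injective,
    rfl, rfl, fun g x => rfl, ?_⟩
  have hmem : ∀ (g : Subgroup.centralizer ({d} : Set G)) (x : {x : Ω // d • x = x}),
      g ∈ stabilizer (Subgroup.centralizer ({d} : Set G)) x ↔ (g : G) ∈ stabilizer G x.1 := fun g x =>
    ⟨fun e => congrArg Subtype.val e, fun e => Subtype.ext e⟩
  refine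
    { two_transitive := is_two_pretransitive_iff.2 fun {b c b' c'} hb hb' => ?_
      mul_self := Subtype.ext h.mul_self
      ne_one := fun e => h.ne_one (congrArg Subtype.val e)
      not_mem := fun e => h.not_mem ((hmem _ _).1 e)
      le := fun x hx => (hmem _ _).2 (h.le hx)
      conj_mem := fun g hg x hx => h.conj_mem g ((hmem _ _).1 hg) x hx
      inf_eq_bot := ?_
      sup_eq := ?_
      even_card := ?_
      odd_card := ?_ }
  · obtain ⟨g, hg, e1, e2⟩ := centralizer_two_transitive h h3 (b₁ := b.1) (b₂ := c.1) (c₁ := b'.1)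
      (c₂ := c'.1) (fun x hx => by rw [Set.mem_singleton_iff.1 hx]; exact ⟨b.2, c.2, b'.2, c'.2⟩)
      (fun e => hb (Subtype.ext e)) (fun e => hb' (Subtype.ext e))
    exact ⟨⟨g, hg⟩, Subtype.ext e1, Subtype.ext e2⟩
  · rw [Subgroup.eq_bot_iff_forall]
    rintro x ⟨hx, hx'⟩
    exact Subtype.ext (eq_one_of_fix h hx (t_smul_ne h) ((hmem _ _).1 hx'))
  · refine le_antisymm (sup_le (fun x hx => (hmem _ _).2 (h.le hx)) inf_le_left) fun g hg => ?_
    obtain ⟨x, hx, c, hc, he⟩ := exists_decomp h ((hmem _ _).1 hg)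
    obtain ⟨e1, e2⟩ := decomp_unique h (h.conj_mem d hd.1 x hx) hx
      (mul_mem (mul_mem hd hc) (inv_mem hd)) hc (by
        calc d * x * d⁻¹ * (d * c * d⁻¹) = d * (x * c) * d⁻¹ := by group
          _ = x * c := by rw [he, hcm g, mul_inv_cancel_right])
    have hx1 : x ∈ Subgroup.centralizer ({d} : Set G) := Subgroup.mem_centralizer_iff.2 fun y hy => by
      rw [Set.mem_singleton_iff.1 hy]; exact mul_inv_eq_iff_eq_mul.1 e1
    have hc1 : c ∈ Subgroup.centralizer ({d} : Set G) := Subgroup.mem_centralizer_iff.2 fun y hy => by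
      rw [Set.mem_singleton_iff.1 hy]; exact mul_inv_eq_iff_eq_mul.1 e2
    rw [show g = ⟨x, hx1⟩ * ⟨c, hc1⟩ from Subtype.ext he.symm]
    exact Subgroup.mul_mem_sup hx ⟨(hmem _ _).2 hc.1, (hmem _ _).2 hc.2⟩
  · obtain ⟨s, hs, hsX⟩ := exists_ii_centralizer h h3
      (X := ({d} : Set G)) (Set.singleton_subset_iff.2 hd)
    have : orderOf (⟨⟨s, hsX⟩, mem_Q_of_ii h hs⟩ :
        ↥(Q.subgroupOf (Subgroup.centralizer ({d} : Set G)))) = 2 := by
      rw [← Subgroup.orderOf_coe, ← Subgroup.orderOf_coe]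
      exact Involution.orderOf_of_sq hs.2.2 hs.2.1
    rw [even_iff_two_dvd, ← this]
    exact orderOf_dvd_natCard _
  · refine h.odd_card.of_dvd_nat (Subgroup.card_dvd_of_injective
      (((Subgroup.centralizer ({d} : Set G)).subtype.comp (Subgroup.subtype _)).codRestrict _ fun c =>
        ⟨(hmem _ _).1 c.2.1, (hmem _ _).1 c.2.2⟩) fun c c' e => ?_)
    exact Subtype.ext (Subtype.ext (congrArg Subtype.val e :))

end Cfsg.Agent.SuzukiRankOne
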