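import Cfsg.Agent.Lib.SuzukiRankOne.Unitary.TwoGroup
import Cfsg.Agent.Lib.SuzukiZass.Cube
import Cfsg.Agent.Lib.SuzukiZass.Main
import Cfsg.Agent.S1120
/-!
# `C_D(t) = 1`: a simple Zassenhaus group

* `Coords.kk_eq_dd`, `Coords.dd_eq`, `Coords.isSimple`, `Coords.zass_setup`;
* `Coords.false_of_cube` : `|Q| = q³` is impossible.
-/

set_option autoImplicit false

namespace Cfsg.Agent.SuzukiRankOne

open MulAction Cfsg.Agent.RankOne.Setup

universe u v w

variable {G : Type u} {Ω : Type v} [Group G] [Finite G] [MulAction G Ω] [FaithfulSMul G Ω]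
  {a : Ω} {t : G} {Q : Subgroup G} {F : Type w} [Field F]

local notation "DD" => (stabilizer G a ⊓ stabilizer G (t • a) : Subgroup G)
local notation "II" => Cfsg.involutionsIn (stabilizer G a : Set G)
local notation "KK" => Cfsg.invertedBy (stabilizer G a ⊓ stabilizer G (t • a)) t

/-- A normal subgroup fixing `a` is trivial. -/
theorem eq_bot_of_normal_le (h : Cfsg.IsRankOneSetup G Ω a t Q) {N : Subgroup G} (hN : N.Normal)
    (hle : N ≤ stabilizer G a) : N = ⊥ := by
  refine (Subgroup.eq_bot_iff_forall N).2 fun n hn => eq_of_smul_eq_smul fun x : Ω => ?_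
  obtain ⟨g, rfl⟩ := exists_smul_a h x
  rw [one_smul, ← mul_smul]
  have := hle (hN.conj_mem n hn g⁻¹)
  rw [mem_stabilizer_iff, inv_inv] at this
  calc (n * g) • a = (g * (g⁻¹ * n * g)) • a := by group
    _ = g • a := by rw [mul_smul, this]

namespace Coords

variable (C : Coords a t Q F) (h : Cfsg.IsRankOneSetup G Ω a t Q) (h2 : TwoInvolutions G)
  [Finite F] [CharP F 2] (hD : ∀ d ∈ stabilizer G a ⊓ stabilizer G (t • a), t * d = d * t → d = 1)
include C h h2 hD

/-- `D = K`. -/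
theorem dd_eq {d : G} (hd : d ∈ DD) : ∃ b, C.k b = d := by
  obtain ⟨c, σ, hz, -⟩ := C.exists_semilinear h h2 hd
  obtain ⟨r, hr, he⟩ := C.dist
  letI := Fintype.ofFinite F
  obtain ⟨b, hb⟩ := FiniteField.isSquare_of_char_two (ringChar.eq F 2) (c : F)
  have hb0 : b ≠ 0 := left_ne_zero_of_mul (hb ▸ c.ne_zero)
  refine ⟨Units.mk0 b hb0, ?_⟩
  set e := (C.k (Units.mk0 b hb0))⁻¹ * d with he'
  have heD : e ∈ DD := mul_mem (inv_mem (C.k_mem_dd _)) hd
  have hcs : C.z 1 * e = e * C.z 1 := by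
    have h1 : e * C.z 1 * e⁻¹ = C.z 1 := by
      rw [he', mul_inv_rev, inv_inv, show (C.k (Units.mk0 b hb0))⁻¹ * d * C.z 1 * (d⁻¹ * C.k (Units.mk0 b hb0))
        = (C.k (Units.mk0 b hb0))⁻¹ * (d * C.z 1 * d⁻¹) * C.k (Units.mk0 b hb0) by group, hz, map_one,
        mul_one, show C.z (c : F) = C.k (Units.mk0 b hb0) * C.z 1 * (C.k (Units.mk0 b hb0))⁻¹ by
          rw [C.k_conj, mul_one, Units.val_mk0, hb]]
      group
    exact (mul_inv_eq_iff_eq_mul.1 h1).symm
  exact inv_mul_eq_one.1 (hD e heD ((commute_iff h (C.z_mem_ii one_ne_zero) hr he heD).2 hcs))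

theorem card_dd : Nat.card ↥DD = Nat.card F - 1 := by
  rw [← Nat.card_units]
  exact (Nat.card_eq_of_bijective (fun b : Fˣ => (⟨C.k b, C.k_mem_dd b⟩ : ↥DD))
    ⟨fun b b' e => C.k_inj (congrArg Subtype.val e), fun d => by
      obtain ⟨b, hb⟩ := C.dd_eq h h2 hD d.2
      exact ⟨b, Subtype.ext hb⟩⟩).symm

/-- The group is simple. -/
theorem isSimple : IsSimpleGroup G := by
  haveI : Nontrivial G := ⟨⟨t, 1, h.ne_one⟩⟩
  refine ⟨fun N hN => or_iff_not_imp_left.2 fun hne => ?_⟩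
  by_cases hev : ∃ u ∈ N, u ≠ 1 ∧ u * u = 1
  · obtain ⟨u, hu, hu1, hu2⟩ := hev
    have hinv : ∀ v : G, v ≠ 1 → v * v = 1 → v ∈ N := fun v hv1 hv2 => by
      obtain ⟨g, hg⟩ := (S1121.result h).2 u v hu1 hu2 hv1 hv2
      exact hg ▸ hN.conj_mem u hu g
    have ht : t ∈ N := hinv t h.ne_one h.mul_self
    have hk : ∀ d ∈ DD, d ∈ N := fun d hd => by
      obtain ⟨b, rfl⟩ := C.dd_eq h h2 hD hd
      obtain ⟨e1, e2, -⟩ := kk_mul_t h (C.k_mem b)
      have := N.mul_mem (hinv _ e1 e2) ht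
      rwa [mul_assoc, h.mul_self, mul_one] at this
    have hQ : ∀ x ∈ Q, x ∈ N := by
      obtain ⟨b, hb⟩ : ∃ b : F, b ≠ 0 ∧ b ≠ 1 := by
        by_contra hcon
        push Not at hcon
        have hII : ∀ v ∈ II, v = C.z 1 := fun v hv => by
          obtain ⟨w, rfl⟩ := C.z_surj v hv.1 hv.2.2
          rcases eq_or_ne w 0 with rfl | hw
          · exact absurd C.z_zero hv.2.1
          · rw [hcon w hw]
        obtain ⟨n, hn, hn', ⟨C'⟩⟩ := exists_coords h h2
        have : Nat.card II ≤ 1 := Finite.card_le_one_iff_subsingleton.2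
          ⟨fun v w => Subtype.ext ((hII v v.2).trans (hII w w.2).symm)⟩
        have : 4 ≤ 2 ^ n := Nat.pow_le_pow_right (by norm_num : 1 ≤ 2) hn
        rw [param] at hn'
        omega
      intro x hx
      let f : Q → Q := fun u => ⟨C.k (Units.mk0 b hb.1) * u * (C.k (Units.mk0 b hb.1))⁻¹ * u.1⁻¹,
        mul_mem (h.conj_mem _ (C.k_mem_dd _).1 u u.2) (inv_mem u.2)⟩
      have hf : Function.Injective f := fun u v e => by
        have e' : C.k (Units.mk0 b hb.1) * (u : G) * (C.k (Units.mk0 b hb.1))⁻¹ * (u : G)⁻¹ =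
            C.k (Units.mk0 b hb.1) * v * (C.k (Units.mk0 b hb.1))⁻¹ * (v : G)⁻¹ := congrArg Subtype.val e
        have hkne : C.k (Units.mk0 b hb.1) ≠ 1 := fun e => hb.2 (congrArg Units.val
          (C.k_inj (e.trans (map_one C.k).symm)))
        have := kk_fpf h (C.k_mem _) hkne (mul_mem (inv_mem v.2) u.2) (by
          calc C.k (Units.mk0 b hb.1) * ((v : G)⁻¹ * u) = (C.k (Units.mk0 b hb.1) * v *
                (C.k (Units.mk0 b hb.1))⁻¹)⁻¹ * (C.k (Units.mk0 b hb.1) * u *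
                (C.k (Units.mk0 b hb.1))⁻¹ * (u : G)⁻¹) * u * C.k (Units.mk0 b hb.1) := by group
            _ = _ := by rw [e']; group)
        exact Subtype.ext (inv_mul_eq_one.1 this).symm
      obtain ⟨u, hu⟩ := (Finite.injective_iff_surjective.1 hf) ⟨x, hx⟩
      rw [← show ((f u : Q) : G) = x from congrArg Subtype.val hu]
      show C.k (Units.mk0 b hb.1) * (u : G) * (C.k (Units.mk0 b hb.1))⁻¹ * (u : G)⁻¹ ∈ N
      rw [mul_assoc, mul_assoc, ← mul_assoc (u : G)]
      exact N.mul_mem (hk _ (C.k_mem_dd _)) (hN.conj_mem _ (N.inv_mem (hk _ (C.k_mem_dd _))) u)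
    rw [eq_top_iff]
    intro g _
    have hst : ∀ g ∈ stabilizer G a, g ∈ N := fun g hg => by
      obtain ⟨x, hx, d, hd, rfl⟩ := exists_decomp h hg
      exact N.mul_mem (hQ x hx) (hk d hd)
    by_cases hg : g ∈ stabilizer G a
    · exact hst g hg
    · obtain ⟨⟨g1, f⟩, ⟨hg1, hf, e⟩, -⟩ := existsUnique_canonical h hg
      exact e ▸ N.mul_mem (N.mul_mem (hst g1 hg1) ht) (hQ f hf)
  · refine absurd (eq_bot_of_normal_le h hN ?_) hne
    have hco : (Nat.card N).Coprime 2 := by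
      rw [Nat.coprime_comm, Nat.prime_two.coprime_iff_not_dvd]
      intro hdvd
      obtain ⟨u, hu⟩ := exists_prime_orderOf_dvd_card' 2 hdvd
      refine hev ⟨u, u.2, fun e => ?_, ?_⟩
      · rw [show u = 1 from Subtype.ext e, orderOf_one] at hu; norm_num at hu
      · have := pow_orderOf_eq_one u
        rw [hu, pow_two] at this
        exact congrArg Subtype.val this
    calc N ≤ Cfsg.pPrimeCore 2 G := le_sSup ⟨hN, hco⟩
      _ = (stabilizer G a).normalCore := S1120.result h h2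
      _ ≤ _ := Subgroup.normalCore_le _

/-- `|Q| = q³` is impossible when `C_D(t) = 1`. -/
theorem false_of_cube (hQ2 : IsPGroup 2 Q) (hna : ¬ IsMulCommutative Q)
    (hQ3 : Nat.card Q = Nat.card F ^ 3) : False := by
  classical
  haveI := C.isSimple h h2 hD
  haveI := finite_omega h
  have hk1 : ∃ b : F, b ≠ 0 ∧ b ≠ 1 := by
    by_contra hcon
    push Not at hcon
    have hle : Nat.card F ≤ 2 := by
      have hi : Function.Injective (fun x : F => if x = 0 then (0 : Fin 2) else 1) := fun x y e => by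
        by_cases hx : x = 0 <;> by_cases hy : y = 0 <;> simp [hx, hy] at e ⊢
        rw [hcon x hx, hcon y hy]
      simpa using Nat.card_le_card_of_injective _ hi
    have h1 := C.card_dd h h2 hD
    have hc := card_group h
    obtain ⟨n, hn, hn', -⟩ := exists_coords h h2
    have : 4 ≤ 2 ^ n := Nat.pow_le_pow_right (by norm_num : 1 ≤ 2) hn
    have : Nat.card II ≤ Nat.card F - 1 := by
      rw [← Nat.card_units]
      refine Nat.card_le_card_of_surjective (fun b : Fˣ => (⟨C.z (b : F), C.z_mem_ii b.ne_zero⟩ : II)) ?_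
      rintro ⟨v, hv⟩
      obtain ⟨x, rfl⟩ := C.z_surj v hv.1 hv.2.2
      exact ⟨Units.mk0 x (fun e => hv.2.1 (by rw [e, C.z_zero])), rfl⟩
    rw [param] at hn'
    omega
  have hZ : Cfsg.IsZassenhausGroup G Ω := by
    refine ⟨inferInstance, h.two_transitive, ?_, ?_, ?_⟩
    · intro g b c e hbc hce hbe hb hc he
      obtain ⟨g0, hgb, hgc⟩ := is_two_pretransitive_iff.1 h.two_transitive hbc (t_smul_ne h).symm
      have hd : g0 * g * g0⁻¹ ∈ DD := mem_dd.2
        ⟨by rw [mul_smul, mul_smul, ← hgb, inv_smul_smul, hb],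
          by rw [mul_smul, mul_smul, ← hgc, inv_smul_smul, hc]⟩
      obtain ⟨i, hi⟩ := C.dd_eq h h2 hD hd
      by_contra hg
      have hk : C.k i ≠ 1 := fun e' => hg (conj_eq_one_iff.1 (hi.symm.trans e'))
      have hne : g0 • e ≠ a := fun e' => hbe (smul_left_cancel g0 (hgb.trans e'.symm))
      obtain ⟨y, hy, hye⟩ := exists_smul_eq h hne
      have hfix : C.k i • (g0 • e) = g0 • e := by
        rw [hi, mul_smul, mul_smul, inv_smul_smul, he]
      have hky : C.k i * y = y * C.k i := by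
        have := (regular h (t_smul_ne h) hne).unique
          (y₁ := ⟨C.k i * y * (C.k i)⁻¹, h.conj_mem _ (C.k_mem_dd i).1 y hy⟩) (y₂ := ⟨y, hy⟩)
          (by rw [mul_smul, mul_smul,
            show (C.k i)⁻¹ • (t • a) = t • a from (inv_mem (C.k_mem_dd i)).2, hye, hfix]) hye
        exact mul_inv_eq_iff_eq_mul.1 (congrArg Subtype.val this)
      rw [kk_fpf h (C.k_mem i) hk hy hky, one_smul] at hye
      exact hce (smul_left_cancel g0 (hgc.trans hye))
    · obtain ⟨b, hb0, hb1⟩ := hk1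
      exact ⟨C.k (Units.mk0 b hb0), fun e => hb1 (congrArg Units.val (C.k_inj (e.trans (map_one C.k).symm))),
        a, t • a, (t_smul_ne h).symm, (C.k_mem_dd _).1, (C.k_mem_dd _).2⟩
    · intro N hN hNt
      refine ⟨a, fun hbot => ?_⟩
      rcases hN.eq_bot_or_eq_top with rfl | rfl
      · obtain ⟨n, hn⟩ := MulAction.exists_smul_eq (⊥ : Subgroup G) a (t • a)
        rw [show (n : (⊥ : Subgroup G)) = 1 from Subsingleton.elim _ _, one_smul] at hn
        exact t_smul_ne h hn.symm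
      · have : (⟨C.z 1, Subgroup.mem_top _⟩ : (⊤ : Subgroup G)) ∈ stabilizer (⊤ : Subgroup G) a :=
          C.z_smul_a 1
        rw [hbot, Subgroup.mem_bot] at this
        exact one_ne_zero (C.z_eq_one.1 (congrArg Subtype.val this))
  obtain ⟨S, hSa, hSb, hSU⟩ := SuzukiZass.setup_of_reg hZ (t_smul_ne h).symm Q h.le h.conj_mem
    (fun c e hc he => regular h hc he) hQ2 (by
      by_contra hcon
      push Not at hcon
      exact hna ⟨⟨fun x y => Subtype.ext (hcon x x.2 y y.2)⟩⟩)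
  refine SuzukiZass.not_cube S ?_
  have hcF : 0 < Nat.card F := Nat.card_pos
  rw [SuzukiZass.Setup.h, SuzukiZass.Setup.q, SuzukiZass.Setup.e, SuzukiZass.Setup.E, hSa, hSb, hSU,
    C.card_dd h h2 hD, hQ3, Nat.sub_add_cancel hcF]

end Coords

end Cfsg.Agent.SuzukiRankOne
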