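import Cfsg.Agent.Lib.SuzukiRankOne.Unitary.DescentTwo
import Cfsg.Agent.Lib.SuzukiRankOne.Unitary.Zass
import Cfsg.Agent.Lib.SuzukiRankOne.Unitary.Sub
import Cfsg.Agent.Lib.SuzukiRankOne.Elementary
/-!
# `|Q| = q³`: the element `r` is an involution

* `r_sq` : if `Q` is a nonabelian 2-group with `|Q| = q³` and `t * s * t = r⁻¹ * t * r` then `r * r = 1`;
* `exists_frame_of_cube` : hence a frame exists.
-/

set_option autoImplicit false

namespace Cfsg.Agent.SuzukiRankOne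

open MulAction Cfsg.Agent.RankOne.Setup

universe u v w

/-- The statement proved by induction on the order. -/
def SplitAt (G : Type u) (Ω : Type v) [Group G] [MulAction G Ω] : Prop :=
  ∀ (a : Ω) (t : G) (Q : Subgroup G), Cfsg.IsRankOneSetup G Ω a t Q → TwoInvolutions G →
    IsPGroup 2 Q → ¬ IsMulCommutative Q → Nat.card Q = param G a ^ 3 →
    ∀ s r : G, s ∈ Cfsg.involutionsIn (stabilizer G a : Set G) → r ∈ Q → t * s * t = r⁻¹ * t * r →
      r * r = 1

variable {G : Type u} {Ω : Type v} [Group G] [Finite G] [MulAction G Ω] [FaithfulSMul G Ω]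
  {a : Ω} {t : G} {Q : Subgroup G} {F : Type w} [Field F] [Finite F] [CharP F 2]

namespace DData

variable {C : Coords a t Q F} {d : G} {σ : F ≃+* F} {p : ℕ} (P : DData C d σ p)
  (h : Cfsg.IsRankOneSetup G Ω a t Q) (h2 : TwoInvolutions G) (hQ2 : IsPGroup 2 Q)
  (hna : ¬ IsMulCommutative Q) (hQ3 : Nat.card Q = Nat.card F ^ 3)
include P h h2 hQ2 hna hQ3

theorem not_dvd_fixOrder : ¬ p ∣ fixOrder σ := by
  intro hdvd
  let A : AddSubgroup F :=
    { carrier := {x | σ x = x}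
      zero_mem' := map_zero σ
      add_mem' := fun {x y} hx hy => (map_add σ x y).trans (congrArg₂ (· + ·) hx hy)
      neg_mem' := fun {x} hx => (map_neg σ x).trans (congrArg Neg.neg hx) }
  have h1 : p ∣ Nat.card F := hdvd.trans (show fixOrder σ ∣ Nat.card F from A.card_addSubgroup_dvd_card)
  letI := Fintype.ofFinite F
  obtain ⟨k, -, hk⟩ := FiniteField.card F 2
  rw [Nat.card_eq_fintype_card, hk] at h1
  have := (Nat.prime_dvd_prime_iff_eq P.prime Nat.prime_two).1 (P.prime.dvd_of_dvd_pow h1)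
  exact Nat.not_even_iff_odd.2 (P.p_odd h h2 hQ2 hna) (by rw [this]; exact even_two)

theorem fixRoots_ne : fixRoots C d ≠ fixOrder σ := by
  intro e
  have hm := P.card_mod h h2 hQ2 hna hQ3
  rw [e, Nat.modEq_iff_dvd' (Nat.le_mul_of_pos_right _ (by omega))] at hm
  rw [mul_add, mul_one, Nat.add_sub_cancel] at hm
  exact P.not_dvd_fixOrder h h2 hQ2 hna hQ3 ((P.prime.dvd_mul.1 hm).elim id id)

/-- The induction step. -/
theorem r_sq_step (IH : ∀ (G' : Type u) (Ω' : Type v) [Group G'] [Finite G'] [MulAction G' Ω']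
    [FaithfulSMul G' Ω'], Nat.card G' < Nat.card G → SplitAt G' Ω') {r : G} (hr : r ∈ Q)
    (he : t * C.z 1 * t = r⁻¹ * t * r) : r * r = 1 := by
  classical
  by_cases hq2 : fixOrder σ = 2
  · exact P.r_sq_of_fixed_two h h2 hQ2 hna hQ3 hr he hq2
  by_contra hr2
  have hds : d * C.z 1 = C.z 1 * d := P.comm_z h h2 hQ2 hna (map_one σ)
  obtain ⟨-, hdr⟩ := C.r_commute h hr he P.mem hds
  obtain ⟨y, hy⟩ := C.sq_eq h h2 hQ2 hna hr
  have hy0 : y ≠ 0 := fun e => hr2 (by rw [← hy, e, C.z_zero])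
  have hfy : σ y = y := P.fixed_of_comm h h2 hQ2 hna (by
    rw [hy]; exact ((show Commute d r from hdr).mul_right hdr).eq)
  have hq3 : 3 ≤ fixOrder σ := by
    have : 2 ≤ fixOrder σ := Finite.one_lt_card_iff_nontrivial.2
      ⟨⟨⟨0, map_zero σ⟩, ⟨1, map_one σ⟩, fun e => zero_ne_one (congrArg Subtype.val e)⟩⟩
    omega
  -- the roots contain a coset
  obtain ⟨b, hb⟩ : ∃ b : F, b ^ 2 = y⁻¹ := ⟨_, frobeniusEquiv_symm_pow_p F 2 y⁻¹⟩
  have hb0 : b ≠ 0 := fun e => inv_ne_zero hy0 (by rw [← hb, e]; simp)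
  have hbf : σ b = b := frobenius_inj F 2 (by
    rw [frobenius_def, frobenius_def, ← map_pow, hb, map_inv₀, hfy])
  have hdk : d * C.k (Units.mk0 b hb0) = C.k (Units.mk0 b hb0) * d :=
    mul_inv_eq_iff_eq_mul.1 ((P.conj_k _).trans (congrArg C.k (Units.ext hbf)))
  obtain ⟨u0, hu0⟩ : ∃ u0, u0 = C.k (Units.mk0 b hb0) * r * (C.k (Units.mk0 b hb0))⁻¹ := ⟨_, rfl⟩
  have hu0Q : u0 ∈ Q := hu0 ▸ h.conj_mem _ (C.k_mem_dd _).1 r hr
  have hu0d : d * u0 = u0 * d := hu0 ▸ (((show Commute d _ from hdk).mul_right hdr).mul_right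
    (show Commute d _ from hdk).inv_right).eq
  have hu02 : u0 * u0 = C.z 1 := by
    rw [hu0, C.sq_conj_k h h2 hQ2 hna hy, Units.val_mk0, ← pow_two, hb, inv_mul_cancel₀ hy0]
  have hge : fixOrder σ ≤ fixRoots C d := Nat.card_le_card_of_injective
    (fun x => (⟨u0 * C.z x.1, mul_mem hu0Q (C.z_mem_Q h _),
      ((show Commute d u0 from hu0d).mul_right (P.comm_z h h2 hQ2 hna x.2)).eq,
      (C.sq_eq_of_coset h h2 hQ2 hna hu0Q rfl).trans hu02⟩ :
        {u : G // u ∈ Q ∧ d * u = u * d ∧ u * u = C.z 1}))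
    fun x x' e => Subtype.ext (C.z_inj (mul_left_cancel (congrArg Subtype.val e)))
  have hlt : fixOrder σ < fixRoots C d := lt_of_le_of_ne hge (P.fixRoots_ne h h2 hQ2 hna hQ3).symm
  have hcard := P.card_centralizer h h2 hQ2 hna
  have hbig : fixOrder σ * fixOrder σ < Nat.card {u : G // u ∈ Q ∧ d * u = u * d} := by
    obtain ⟨m, hm⟩ : ∃ m, fixOrder σ = m + 1 := ⟨fixOrder σ - 1, by omega⟩
    rw [hcard, hm, Nat.add_sub_cancel]
    rw [hm] at hlt hq3
    have := Nat.mul_lt_mul_of_pos_right hlt (show 0 < m by omega)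
    nlinarith
  -- the set-up of `C(d)`
  obtain ⟨Ω', act, a', ι, t', hι, hιa, ht', hιs, hset⟩ := centralizer_setup h P.mem P.comm_t
  obtain ⟨H', i1, i2, i3, i4, π, hset', hle, hinj, hπs, hparam⟩ := faithful_quotient hset
  have hCmem : ∀ g : G, g ∈ Subgroup.centralizer ({d} : Set G) ↔ d * g = g * d := fun g => by
    rw [Subgroup.mem_centralizer_iff]
    exact ⟨fun e => e d rfl, fun e x hx => by rw [Set.mem_singleton_iff.1 hx]; exact e⟩
  have hlt' : Nat.card H' < Nat.card G := by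
    refine lt_of_le_of_lt hle ((Subgroup.card_le_card_group _).lt_of_ne fun e => P.ne_one ?_)
    have htop := Subgroup.card_eq_iff_eq_top _ |>.1 e
    refine eq_of_smul_eq_smul fun x : Ω => ?_
    rw [one_smul]
    obtain ⟨g, rfl⟩ := exists_smul_a h x
    rw [← mul_smul, (hCmem g).1 (htop ▸ Subgroup.mem_top g), mul_smul, P.mem.1]
  have hstab : ∀ g : Subgroup.centralizer ({d} : Set G),
      g ∈ stabilizer (Subgroup.centralizer ({d} : Set G)) a' ↔ (g : G) ∈ stabilizer G a := fun g => by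
    rw [mem_stabilizer_iff, mem_stabilizer_iff]
    exact ⟨fun e => by rw [← hιa, ← hιs, e], fun e => hι (by rw [hιs, hιa, e])⟩
  have hpar : param H' a' = fixOrder σ := by
    rw [hparam, param]
    have h0 : Nat.card {x : {x : F // σ x = x} // x ≠ ⟨0, map_zero σ⟩} + 1 = fixOrder σ := by
      rw [← Finite.card_option]; exact Nat.card_congr (Equiv.optionSubtypeNe _)
    rw [← h0]
    congr 1
    refine (Nat.card_eq_of_bijective (fun x => ⟨⟨C.z x.1.1, (hCmem _).2 (P.comm_z h h2 hQ2 hna x.1.2)⟩,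
      (hstab _).2 (C.z_mem _).1, fun e => x.2 (Subtype.ext (C.z_eq_one.1 (congrArg Subtype.val e))),
      Subtype.ext (C.z_sq _)⟩) ⟨fun x x' e => Subtype.ext (Subtype.ext (C.z_inj
        (congrArg (fun g => (g.1 : G)) e))), fun u => ?_⟩).symm
    obtain ⟨x, hx⟩ := C.z_surj u.1.1 ((hstab _).1 u.2.1) (congrArg Subtype.val u.2.2.2)
    exact ⟨⟨⟨x, P.fixed_of_comm h h2 hQ2 hna (by rw [hx]; exact (hCmem _).1 u.1.2)⟩, fun e =>
      u.2.2.1 (Subtype.ext (by rw [← hx, (show x = 0 from congrArg Subtype.val e), C.z_zero]; rfl))⟩,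
      Subtype.ext (Subtype.ext hx)⟩
  have hone : (⟨C.z 1, (hCmem _).2 hds⟩ : Subgroup.centralizer ({d} : Set G)) ∈
      Q.subgroupOf (Subgroup.centralizer ({d} : Set G)) := C.z_mem_Q h 1
  have h2' : TwoInvolutions H' := by
    obtain ⟨x, hx, hx0, hx1⟩ : ∃ x : F, σ x = x ∧ x ≠ 0 ∧ x ≠ 1 := by
      by_contra hcon
      push Not at hcon
      have : fixOrder σ ≤ 2 := by
        have hi : Function.Injective
            (fun x : {x : F // σ x = x} => if (x : F) = 0 then (0 : Fin 2) else 1) := fun x y e => by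
          refine Subtype.ext ?_
          by_cases hx : (x : F) = 0 <;> by_cases hy : (y : F) = 0 <;> simp [hx, hy] at e ⊢
          rw [hcon _ x.2 hx, hcon _ y.2 hy]
        simpa [fixOrder] using Nat.card_le_card_of_injective _ hi
      omega
    have hxC : C.z x ∈ Subgroup.centralizer ({d} : Set G) := (hCmem _).2 (P.comm_z h h2 hQ2 hna hx)
    have hxm : (⟨C.z x, hxC⟩ : Subgroup.centralizer ({d} : Set G)) ∈
        Q.subgroupOf (Subgroup.centralizer ({d} : Set G)) := C.z_mem_Q h x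
    refine ⟨π ⟨C.z x, hxC⟩, π ⟨C.z 1, (hCmem _).2 hds⟩, fun e => hx0 ?_, fun e => one_ne_zero (α := F) ?_,
      fun e => hx1 ?_, ?_, ?_, ?_⟩
    · exact C.z_eq_one.1 (congrArg Subtype.val (hinj hxm (one_mem _) (e.trans (map_one π).symm)))
    · exact C.z_eq_one.1 (congrArg Subtype.val (hinj hone (one_mem _) (e.trans (map_one π).symm)))
    · exact C.z_inj (congrArg Subtype.val (hinj hxm hone e))
    · rw [← map_mul, show (⟨C.z x, hxC⟩ : Subgroup.centralizer ({d} : Set G)) * ⟨C.z x, hxC⟩ = 1 from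
        Subtype.ext (C.z_sq x), map_one]
    · rw [← map_mul, show (⟨C.z 1, (hCmem _).2 hds⟩ : Subgroup.centralizer ({d} : Set G)) *
        ⟨C.z 1, (hCmem _).2 hds⟩ = 1 from Subtype.ext (C.z_sq 1), map_one]
    · rw [← map_mul, ← map_mul]
      exact congrArg π (Subtype.ext (C.z_comm x 1))
  have hS : Nat.card ↥((Q.subgroupOf (Subgroup.centralizer ({d} : Set G))).map π) =
      Nat.card {u : G // u ∈ Q ∧ d * u = u * d} := by
    refine (Nat.card_eq_of_bijective (fun u => ⟨π ⟨u.1, (hCmem _).2 u.2.2⟩,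
      Subgroup.mem_map_of_mem π (show (⟨u.1, (hCmem _).2 u.2.2⟩ : Subgroup.centralizer ({d} : Set G)) ∈
        Q.subgroupOf _ from u.2.1)⟩) ⟨fun u u' e => ?_, fun w => ?_⟩).symm
    · exact Subtype.ext (congrArg (fun g : Subgroup.centralizer ({d} : Set G) => (g : G))
        (hinj (x₁ := ⟨u.1, (hCmem _).2 u.2.2⟩) u.2.1 (x₂ := ⟨u'.1, (hCmem _).2 u'.2.2⟩) u'.2.1
          (congrArg Subtype.val e)))
    · obtain ⟨g, hg, e⟩ := Subgroup.mem_map.1 w.2
      exact ⟨⟨g.1, hg, (hCmem _).1 g.2⟩, Subtype.ext e⟩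
  have hQ2' : IsPGroup 2 ↥((Q.subgroupOf (Subgroup.centralizer ({d} : Set G))).map π) :=
    (hQ2.comap_subtype).map π
  -- nonabelian, as otherwise the squaring map is too small
  have hna' : ¬ IsMulCommutative ↥((Q.subgroupOf (Subgroup.centralizer ({d} : Set G))).map π) := by
    intro hc
    let S : Subgroup G := Q ⊓ Subgroup.centralizer ({d} : Set G)
    have hcomm : ∀ u v : S, u * v = v * u := fun u v => by
      refine Subtype.ext ?_
      have e := congrArg Subtype.val (hc.is_comm.comm ⟨π ⟨u, u.2.2⟩, Subgroup.mem_map_of_mem π u.2.1⟩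
        ⟨π ⟨v, v.2.2⟩, Subgroup.mem_map_of_mem π v.2.1⟩)
      exact congrArg (fun g : Subgroup.centralizer ({d} : Set G) => (g : G))
        (hinj (x₁ := ⟨u, u.2.2⟩ * ⟨v, v.2.2⟩) (Q.mul_mem u.2.1 v.2.1) (x₂ := ⟨v, v.2.2⟩ * ⟨u, u.2.2⟩)
          (Q.mul_mem v.2.1 u.2.1) (by rw [map_mul, map_mul]; exact e))
    let f : S →* S := MonoidHom.mk' (fun u => u * u) fun u v => by
      rw [mul_assoc, ← mul_assoc v u v, ← hcomm u v, mul_assoc u v v, ← mul_assoc]
    have hfix : ∀ u : S, (u : G) * u = 1 → ∃ x : {x : F // σ x = x}, C.z x.1 = u := fun u hu => by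
      obtain ⟨x, hx⟩ := C.z_surj (u : G) (h.le u.2.1) hu
      exact ⟨⟨x, P.fixed_of_comm h h2 hQ2 hna (by rw [hx]; exact (hCmem _).1 u.2.2)⟩, hx⟩
    have hsmall : ∀ A : Set S, (∀ u ∈ A, (u : G) * u = 1) → Nat.card A ≤ fixOrder σ := fun A hA => by
      choose g hg using fun u : A => hfix u.1 (hA u.1 u.2)
      exact Nat.card_le_card_of_injective g fun u u' e => Subtype.ext (Subtype.ext (by rw [← hg u, ← hg u', e]))
    have h1 : Nat.card f.ker ≤ fixOrder σ := hsmall (f.ker : Set S) fun u hu =>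
      congrArg Subtype.val (MonoidHom.mem_ker.1 hu)
    have h1' : Nat.card f.range ≤ fixOrder σ := hsmall (f.range : Set S) fun w ⟨u, hu⟩ => by
      rw [← hu]
      obtain ⟨x, hx⟩ := C.sq_eq h h2 hQ2 hna u.2.1
      show (u : G) * u * ((u : G) * u) = 1
      rw [← hx, C.z_sq]
    have h2'' := f.ker.index_mul_card
    rw [Subgroup.index_ker] at h2''
    have h3 : Nat.card S = Nat.card {u : G // u ∈ Q ∧ d * u = u * d} :=
      Nat.card_congr (Equiv.subtypeEquivRight fun u => by rw [Subgroup.mem_inf, hCmem])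
    have := Nat.mul_le_mul h1' h1
    omega
  -- so `|C_Q(d)| = q₁³`
  obtain ⟨n', hn', hp', ⟨C'⟩⟩ := exists_coords hset' h2'
  have hcase := C'.card_cases hset' h2' hQ2' hna'
  rw [hS, GaloisField.card 2 n' (by omega), ← hp', hpar] at hcase
  have hcube : Nat.card {u : G // u ∈ Q ∧ d * u = u * d} = fixOrder σ ^ 3 :=
    hcase.resolve_left fun e => by rw [e, pow_two] at hbig; exact lt_irrefl _ hbig
  have hrC : r ∈ Subgroup.centralizer ({d} : Set G) := (hCmem _).2 hdr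
  have key := IH H' Ω' hlt' a' (π t') _ hset' h2' hQ2' hna' (by rw [hS, hpar, hcube])
    (π ⟨C.z 1, (hCmem _).2 hds⟩) (π ⟨r, hrC⟩) ⟨by
      show π _ ∈ stabilizer H' a'
      rw [mem_stabilizer_iff, hπs]
      exact (hstab _).2 (C.z_mem 1).1, fun e => one_ne_zero (α := F) (C.z_eq_one.1 (congrArg Subtype.val
        (hinj hone (one_mem _) (e.trans (map_one π).symm)))), by
      rw [← map_mul, show (⟨C.z 1, (hCmem _).2 hds⟩ : Subgroup.centralizer ({d} : Set G)) *
        ⟨C.z 1, (hCmem _).2 hds⟩ = 1 from Subtype.ext (C.z_sq 1), map_one]⟩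
    (Subgroup.mem_map_of_mem π (show (⟨r, hrC⟩ : Subgroup.centralizer ({d} : Set G)) ∈ Q.subgroupOf _
      from hr)) (by
      rw [← map_inv, ← map_mul, ← map_mul, ← map_mul, ← map_mul]
      refine congrArg π (Subtype.ext ?_)
      simp only [Subgroup.coe_mul, InvMemClass.coe_inv, ht']
      exact he)
  rw [← map_mul] at key
  exact hr2 (congrArg Subtype.val (hinj (x₁ := ⟨r, hrC⟩ * ⟨r, hrC⟩) (Q.mul_mem hr hr) (x₂ := 1)
    (Q.one_mem) (key.trans (map_one π).symm)))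

end DData

/-- `r * r = 1` for all orders. -/
theorem splitAt : ∀ (N : ℕ) (G : Type u) (Ω : Type v) [Group G] [Finite G] [MulAction G Ω]
    [FaithfulSMul G Ω], Nat.card G < N → SplitAt G Ω := by
  intro N
  induction N with
  | zero => exact fun G Ω _ _ _ _ hlt => absurd hlt (Nat.not_lt_zero _)
  | succ N IH =>
    intro G Ω _ _ _ _ hlt a t Q h h2 hQ2 hna hQ3 s r hs hr he
    obtain ⟨n, hn, hq, ⟨C⟩⟩ := exists_coords h h2
    have hQ3' : Nat.card Q = Nat.card (GaloisField 2 n) ^ 3 := by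
      rw [hQ3, hq, GaloisField.card 2 n (by omega)]
    obtain ⟨r', hr', he'⟩ := C.dist
    obtain ⟨e1, e2⟩ := Prod.ext_iff.1 ((existsUnique_pair h).unique (y₁ := (s, r)) (y₂ := (C.z 1, r'))
      ⟨hs, hr, he⟩ ⟨C.z_mem_ii one_ne_zero, hr', he'⟩)
    simp only at e1 e2
    rw [e2]
    by_cases hD : ∀ d ∈ stabilizer G a ⊓ stabilizer G (t • a), t * d = d * t → d = 1
    · exact (C.false_of_cube h h2 hD hQ2 hna hQ3').elim
    push Not at hD
    obtain ⟨d₀, hd, hdt, hd1⟩ := hD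
    obtain ⟨d, σ, p, P⟩ := exists_dData C h h2 hr' he' hd hdt hd1
    exact P.r_sq_step h h2 hQ2 hna hQ3' (fun G' Ω' _ _ _ _ hlt' => IH G' Ω' (by omega)) hr' he'

/-- In the case `|Q| = q³` there is a frame. -/
theorem exists_frame_of_cube (h : Cfsg.IsRankOneSetup G Ω a t Q) (h2 : TwoInvolutions G)
    (hQ2 : IsPGroup 2 Q) (hna : ¬ IsMulCommutative Q) (hQ3 : Nat.card Q = param G a ^ 3)
    (C : Coords a t Q F) : ∃ P : Frame a t Q F, P.co = C := by
  obtain ⟨r, hr, he⟩ := C.dist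
  exact C.exists_frame h h2 hr he (splitAt _ G Ω (Nat.lt_succ_self _) a t Q h h2 hQ2 hna hQ3 _ r
    (C.z_mem_ii one_ne_zero) hr he)

end Cfsg.Agent.SuzukiRankOne
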