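import Cfsg.Agent.Lib.SuzukiRankOne.Unitary.Labels
/-!
# `|Q| = q³`: the action of `D` on labels

`exists_conj` : `d ∈ D` is `k e` times an element commuting with `t` and acting as a field automorphism
`σ` on `⟨Z, t⟩`; hence `d * phi T R * d⁻¹ = phi (e • σT·M) (e⁻¹ • σR·M)` (`IsAct`, `act`, `Lmap`).
-/

set_option autoImplicit false

namespace Cfsg.Agent.SuzukiRankOne

open MulAction Cfsg.Agent.RankOne Cfsg.Agent.RankOne.Setup Unitary
open scoped MatrixGroups

universe u v w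

variable {G : Type u} {Ω : Type v} [Group G] [Finite G] [MulAction G Ω]
  {a : Ω} {t : G} {Q : Subgroup G} {F : Type w} [Field F] [Finite F] [CharP F 2]

local notation "DD" => (stabilizer G a ⊓ stabilizer G (t • a) : Subgroup G)

omit [Finite G] [MulAction G Ω] [Finite F] [CharP F 2] in
theorem smap_up (σ : F ≃+* F) (x : F) : smap σ (upSL x) = upSL (σ x) := by
  apply Subtype.ext
  ext i j
  fin_cases i <;> fin_cases j <;> simp [smap, coe_upSL]

omit [Finite G] [MulAction G Ω] [Finite F] [CharP F 2] in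
theorem smap_lo (σ : F ≃+* F) (x : F) : smap σ (loSL x) = loSL (σ x) := by
  apply Subtype.ext
  ext i j
  fin_cases i <;> fin_cases j <;> simp [smap, coe_loSL]

/-- The data of the action of `d` on labels. -/
structure IsAct (P : Frame a t Q F) (x0 : Ω) (d : G) (w : Fˣ × (F ≃+* F) × SL(2, F)) : Prop where
  conj_z : ∀ x, d * P.co.z x * d⁻¹ = P.co.z ((w.1 : F) * w.1 * w.2.1 x)
  conj_k : ∀ b : Fˣ, d * P.co.k b * d⁻¹ = P.co.k (Units.map (w.2.1 : F →* F) b)
  act : ∀ g, d • (P.hom g • x0) = P.hom (dSL w.1 * smap w.2.1 g * w.2.2) • x0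

namespace LFrame

variable [FaithfulSMul G Ω] (P : LFrame a t Q F)

/-- Conjugation by `d` commuting with `t` and with trivial multiplier. -/
theorem conj_hom {d : G} {σ : F ≃+* F} (hz : ∀ x, d * P.co.z x * d⁻¹ = P.co.z (σ x))
    (ht : t * d = d * t) (g : SL(2, F)) : d * P.hom g * d⁻¹ = P.hom (smap σ g) := by
  have key : (MulAut.conj d).toMonoidHom.comp P.hom = P.hom.comp (smap σ) := by
    refine MonoidHom.ext fun g => ?_
    let S := ((MulAut.conj d).toMonoidHom.comp P.hom).eqLocus (P.hom.comp (smap σ))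
    have hS : S = ⊤ := by
      rw [eq_top_iff, ← lower_sup_upper]
      refine sup_le (fun z hz' => ?_) (fun z hz' => ?_)
      · obtain ⟨x, rfl⟩ := mem_lowerUnipotentSL2.1 hz'
        show d * P.hom (loSL x) * d⁻¹ = P.hom (smap σ (loSL x))
        rw [smap_lo, P.toFrame.hom_loSL, P.toFrame.hom_loSL, ← hz,
          show d * (t * P.co.z x * t) * d⁻¹ = (d * t) * P.co.z x * (t * d⁻¹) by group]
        have e : t * d⁻¹ = d⁻¹ * t := by
          rw [eq_comm, ← mul_left_cancel_iff (a := d), mul_inv_cancel_left, ← mul_assoc, ← ht,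
            mul_inv_cancel_right]
        rw [e, ← ht]; group
      · obtain ⟨x, rfl⟩ := mem_upperUnipotentSL2.1 hz'
        show d * P.hom (upSL x) * d⁻¹ = P.hom (smap σ (upSL x))
        rw [smap_up, P.toFrame.hom_upSL, P.toFrame.hom_upSL, hz]
    exact (show g ∈ S from hS ▸ Subgroup.mem_top g)
  exact DFunLike.congr_fun key g

theorem exists_act {d : G} (hd : d ∈ DD) :
    ∃ w : Fˣ × (F ≃+* F) × SL(2, F), IsAct P.toFrame P.x0 d w := by
  obtain ⟨c, σ, hz, hk⟩ := P.co.exists_semilinear P.setup P.two hd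
  obtain ⟨e, he⟩ := P.toFrame.exists_sqrt' c
  obtain ⟨d', hd'⟩ : ∃ d', d' = (P.co.k e)⁻¹ * d := ⟨_, rfl⟩
  have hd'D : d' ∈ DD := hd' ▸ mul_mem (inv_mem (P.co.k_mem_dd e)) hd
  have hce : (e : F) * e = c := by rw [← Units.val_mul, he]
  have hz' : ∀ x, d' * P.co.z x * d'⁻¹ = P.co.z (σ x) := fun x => by
    have e1 : P.co.z ((c : F) * σ x) = P.co.k e * P.co.z (σ x) * (P.co.k e)⁻¹ := by rw [P.co.k_conj, hce]
    rw [hd', show (P.co.k e)⁻¹ * d * P.co.z x * ((P.co.k e)⁻¹ * d)⁻¹ =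
      (P.co.k e)⁻¹ * (d * P.co.z x * d⁻¹) * P.co.k e by group, hz, e1]
    group
  have ht : t * d' = d' * t := by
    have hr : t * P.co.z 1 * t = (P.co.z 1)⁻¹ * t * P.co.z 1 := by rw [P.co.z_inv, P.braid]
    refine (commute_iff P.setup (P.co.z_mem_ii one_ne_zero) (P.co.z_mem_Q P.setup 1) hr hd'D).2 ?_
    have := hz' 1
    rw [map_one] at this
    exact (mul_inv_eq_iff_eq_mul.1 this).symm
  have hblk : d' • P.x0 ∉ P.toFrame.Blk := by
    intro hmem
    have hfa : d'⁻¹ • a = a := (inv_mem hd'D).1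
    rcases hmem with e | ⟨x, e⟩
    · exact P.x0_mem (Or.inl (by rw [← inv_smul_smul d' P.x0, e, hfa]))
    · refine P.x0_mem (Or.inr ⟨σ.symm x, ?_⟩)
      have e2 : d'⁻¹ * P.co.z x = P.co.z (σ.symm x) * d'⁻¹ := by
        have := hz' (σ.symm x)
        rw [σ.apply_symm_apply] at this
        rw [← this]; group
      rw [← inv_smul_smul d' P.x0, e, ← mul_smul, e2, mul_smul,
        show d'⁻¹ • (t • a) = t • a from (inv_mem hd'D).2]
  obtain ⟨M, hM⟩ := P.toFrame.exists_hom_smul P.cube P.x0_mem hblk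
  refine ⟨⟨e, σ, M⟩, fun x => by rw [hz, hce], hk, fun g => ?_⟩
  rw [map_mul, map_mul, mul_smul, mul_smul, P.toFrame.hom_dSL, hM, ← mul_smul (P.hom (smap σ g)),
    ← P.conj_hom hz' ht, mul_smul, mul_smul, inv_smul_smul, ← mul_smul (P.co.k e), hd',
    mul_assoc (P.co.k e)⁻¹, mul_inv_cancel_left, mul_smul]

open Classical in
/-- The action of `d` on labels. -/
noncomputable def act (d : G) : Fˣ × (F ≃+* F) × SL(2, F) :=
  if hd : d ∈ DD then Classical.choose (P.exists_act hd) else (1, RingEquiv.refl F, 1)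

theorem act_spec {d : G} (hd : d ∈ DD) : IsAct P.toFrame P.x0 d (P.act d) := by
  rw [act, dif_pos hd]; exact Classical.choose_spec (P.exists_act hd)

/-- The multiplier of `d`. -/
noncomputable def mul (d : G) : F := ((P.act d).1 : F) * (P.act d).1

/-- The field automorphism of `d`. -/
noncomputable def sig (d : G) : F ≃+* F := (P.act d).2.1

theorem conj_z {d : G} (hd : d ∈ DD) (x : F) : d * P.co.z x * d⁻¹ = P.co.z (P.mul d * P.sig d x) :=
  (P.act_spec hd).conj_z x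

theorem mul_ne (d : G) : P.mul d ≠ 0 := mul_ne_zero (Units.ne_zero _) (Units.ne_zero _)

theorem sig_unique {d : G} (hd : d ∈ DD) {c : F} {σ : F ≃+* F}
    (hz : ∀ x, d * P.co.z x * d⁻¹ = P.co.z (c * σ x)) : P.mul d = c ∧ P.sig d = σ := by
  have e : ∀ x, P.mul d * P.sig d x = c * σ x := fun x => P.co.z_inj (by rw [← P.conj_z hd, hz])
  have e1 := e 1
  rw [map_one, map_one, mul_one, mul_one] at e1
  exact ⟨e1, RingEquiv.ext fun x => mul_left_cancel₀ (P.mul_ne d) (by rw [e, e1])⟩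

/-- Semilinear map of second rows attached to `d`. -/
noncomputable def Lmap (d : G) : F × F →+ F × F :=
  AddMonoidHom.mk' (fun x => (((P.act d).1⁻¹ : Fˣ) : F) • rowMul (P.sig d x.1, P.sig d x.2) (P.act d).2.2)
    fun x y => by
      rw [Prod.fst_add, Prod.snd_add, map_add, map_add, ← Prod.mk_add_mk, rowMul_add, smul_add]

theorem Lmap_apply (d : G) (x : F × F) :
    P.Lmap d x = (((P.act d).1⁻¹ : Fˣ) : F) • rowMul (P.sig d x.1, P.sig d x.2) (P.act d).2.2 := rfl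

theorem Lmap_smul (d : G) (c : F) (x : F × F) : P.Lmap d (c • x) = P.sig d c • P.Lmap d x := by
  rw [Lmap_apply, Lmap_apply, smul_comm (P.sig d c), ← rowMul_smul (P.sig d c)]
  congr 2
  simp

theorem det_Lmap (d : G) (x y : F × F) :
    det₂ (P.Lmap d x) (P.Lmap d y) = (P.mul d)⁻¹ * P.sig d (det₂ x y) := by
  rw [Lmap_apply, Lmap_apply, det₂_smul_left, det₂_smul_right, det₂_rowMul, det₂_map, mul, mul_inv_rev,
    Units.val_inv_eq_inv_val, mul_assoc]

theorem Lmap_ne {d : G} {x : F × F} (hx : x ≠ 0) : P.Lmap d x ≠ 0 := by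
  intro e
  have e1 : det₂ (P.Lmap d (compl x)) (P.Lmap d x) = 0 := by rw [e, det₂_zero_right]
  rw [P.det_Lmap, det_compl hx, map_one, mul_one] at e1
  exact inv_ne_zero (P.mul_ne d) e1

/-- `d` maps labels to labels. -/
theorem conj_phi {d : G} (hd : d ∈ DD) {T R : F × F} (h : det₂ T R = 1) :
    d * P.phi T R * d⁻¹ = P.phi (P.mul d • P.Lmap d T) (P.Lmap d R) ∧
      det₂ (P.mul d • P.Lmap d T) (P.Lmap d R) = 1 := by
  have hdet : det₂ (P.mul d • P.Lmap d T) (P.Lmap d R) = 1 := by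
    rw [det₂_smul_left, P.det_Lmap, h, map_one, mul_one, mul_inv_cancel₀ (P.mul_ne d)]
  refine ⟨?_, hdet⟩
  have e : d * P.phi T R * d⁻¹ = P.elt (dSL (P.act d).1 * smap (P.sig d) (sl T R) * (P.act d).2.2) :=
    P.eq_elt (P.setup.conj_mem d hd.1 _ (P.phi_mem T R)) (by
      rw [mul_smul, mul_smul, show d⁻¹ • (t • a) = t • a from (inv_mem hd).2, phi, P.elt_smul]
      exact (P.act_spec hd).act (sl T R))
  rw [e, P.elt_eq_phi]
  congr 1
  · rw [top_mul, top_d, rowMul_smul, top_smap, top_sl h, Lmap_apply, smul_smul, mul,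
      Units.val_inv_eq_inv_val, mul_inv_cancel_right₀ (Units.ne_zero _)]
  · rw [bot_mul, bot_d, rowMul_smul, bot_smap, bot_sl h, Lmap_apply]

theorem qr_Lmap {d : G} (hd : d ∈ DD) {x : F × F} (hx : x ≠ 0) :
    P.qr (P.Lmap d x) = P.mul d * P.sig d (P.qr x) := by
  obtain ⟨e, h'⟩ := P.conj_phi hd (det_compl hx)
  refine P.co.z_inj ?_
  rw [← P.phi_sq h', ← e, ← P.conj_z hd, ← P.phi_sq (det_compl hx)]
  group

theorem cls_conj {d : G} (hd : d ∈ DD) {x : F × F} (hx : x ≠ 0) :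
    P.cls (P.Lmap d x) = cl (⟨d * P.phi (compl x) x * d⁻¹,
      P.setup.conj_mem d hd.1 _ (P.phi_mem _ _)⟩ : ↥Q) := by
  obtain ⟨e, h'⟩ := P.conj_phi hd (det_compl hx)
  rw [P.cls_eq h']
  exact congrArg cl (Subtype.ext e.symm)

theorem sig_k (b : Fˣ) : P.sig (P.co.k b) = 1 ∧ P.mul (P.co.k b) = (b : F) * b := by
  obtain ⟨e1, e2⟩ := P.sig_unique (P.co.k_mem_dd b) (c := (b : F) * b) (σ := RingEquiv.refl F)
    fun x => P.co.k_conj b x
  exact ⟨e2, e1⟩

theorem sig_mul {d d' : G} (hd : d ∈ DD) (hd' : d' ∈ DD) : P.sig (d * d') = P.sig d * P.sig d' := by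
  refine (P.sig_unique (mul_mem hd hd') (c := P.mul d * P.sig d (P.mul d')) fun x => ?_).2
  rw [show d * d' * P.co.z x * (d * d')⁻¹ = d * (d' * P.co.z x * d'⁻¹) * d⁻¹ by group, P.conj_z hd',
    P.conj_z hd, map_mul, mul_assoc]
  rfl

theorem sig_one : P.sig 1 = 1 := by
  rw [← map_one P.co.k]; exact (P.sig_k 1).1

theorem sig_inv {d : G} (hd : d ∈ DD) : P.sig d⁻¹ = (P.sig d)⁻¹ := by
  rw [eq_inv_iff_mul_eq_one, ← P.sig_mul (inv_mem hd) hd, inv_mul_cancel, P.sig_one]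

theorem mul_inv {d : G} (hd : d ∈ DD) : P.mul d⁻¹ = (P.sig d)⁻¹ (P.mul d)⁻¹ := by
  refine (P.sig_unique (inv_mem hd) (σ := (P.sig d)⁻¹) fun x => ?_).1
  have e := P.conj_z hd ((P.sig d)⁻¹ (P.mul d)⁻¹ * (P.sig d)⁻¹ x)
  have hs : ∀ y, P.sig d ((P.sig d)⁻¹ y) = y := fun y => (P.sig d).apply_symm_apply y
  rw [map_mul, hs, hs, ← mul_assoc, mul_inv_cancel₀ (P.mul_ne d), one_mul] at e
  rw [← e]; group

/-- Conjugation by `t` inverts the multiplier and keeps the automorphism. -/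
theorem sig_t {d : G} (hd : d ∈ DD) :
    P.sig (t * d * t) = P.sig d ∧ P.mul (t * d * t) = (P.mul d)⁻¹ := by
  obtain ⟨e, he⟩ : ∃ e, e = (P.act d).1 := ⟨_, rfl⟩
  obtain ⟨d', hd'⟩ : ∃ d', d' = (P.co.k e)⁻¹ * d := ⟨_, rfl⟩
  have hd'D : d' ∈ DD := hd' ▸ mul_mem (inv_mem (P.co.k_mem_dd e)) hd
  have hz' : ∀ x, d' * P.co.z x * d'⁻¹ = P.co.z (P.sig d x) := fun x => by
    have e1 : P.co.z (P.mul d * P.sig d x) = P.co.k e * P.co.z (P.sig d x) * (P.co.k e)⁻¹ := by
      rw [P.co.k_conj, he]; rfl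
    rw [hd', show (P.co.k e)⁻¹ * d * P.co.z x * ((P.co.k e)⁻¹ * d)⁻¹ =
      (P.co.k e)⁻¹ * (d * P.co.z x * d⁻¹) * P.co.k e by group, P.conj_z hd, e1]
    group
  have ht : t * d' = d' * t := by
    have hr : t * P.co.z 1 * t = (P.co.z 1)⁻¹ * t * P.co.z 1 := by rw [P.co.z_inv, P.braid]
    refine (commute_iff P.setup (P.co.z_mem_ii one_ne_zero) (P.co.z_mem_Q P.setup 1) hr hd'D).2 ?_
    have := hz' 1
    rw [map_one] at this
    exact (mul_inv_eq_iff_eq_mul.1 this).symm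
  have e1 : t * d * t = P.co.k e⁻¹ * d' := by
    rw [← P.co.t_k_t P.setup e, show d = P.co.k e * d' by rw [hd']; group]
    simp only [mul_assoc]
    rw [ht]
  obtain ⟨r1, r2⟩ := P.sig_unique (t_conj_mem P.setup hd) (c := ((e⁻¹ : Fˣ) : F) * (e⁻¹ : Fˣ))
    (σ := P.sig d) fun x => by
      rw [e1, show P.co.k e⁻¹ * d' * P.co.z x * (P.co.k e⁻¹ * d')⁻¹ =
        P.co.k e⁻¹ * (d' * P.co.z x * d'⁻¹) * (P.co.k e⁻¹)⁻¹ by group, hz', P.co.k_conj]
  refine ⟨r2, r1.trans ?_⟩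
  rw [Units.val_inv_eq_inv_val, he, mul, mul_inv_rev]

theorem sig_odd {d : G} (hd : d ∈ DD) : Odd (orderOf (P.sig d)) := by
  refine (P.setup.odd_card.of_dvd_nat (Subgroup.orderOf_dvd_natCard _ hd)).of_dvd_nat ?_
  refine orderOf_dvd_of_pow_eq_one ?_
  have e : ∀ n, P.sig (d ^ n) = P.sig d ^ n := fun n => by
    induction n with
    | zero => rw [pow_zero, pow_zero, P.sig_one]
    | succ n ih => rw [pow_succ, P.sig_mul (pow_mem hd n) hd, ih, pow_succ]
  rw [← e, pow_orderOf_eq_one, P.sig_one]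

end LFrame

end Cfsg.Agent.SuzukiRankOne
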