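import Cfsg.Agent.Lib.SuzukiRankOne.Unitary.Transvections
import Cfsg.Agent.Lib.FieldAut.Descent
/-!
# The field automorphism of the line datum is trivial

`SData.σ_eq_one` and `SData.toLData`: `σ (T, R)` is a coboundary `φ T / φ R`; if it is not
trivial then `qr T * qr R` is fixed by a non-trivial automorphism of odd order for at least two
thirds of the lines, but takes each value at most twice.
-/

set_option autoImplicit false

namespace Cfsg.Agent.SuzukiRankOne.Unitary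

open Cfsg.Agent.FieldAut (fixF mem_fixF pow_card_fixed)

variable {F : Type*} [Field F]

theorem ringAut_comm [Finite F] (a b : F ≃+* F) : a * b = b * a := by
  obtain ⟨g, hg⟩ := IsCyclic.exists_generator (α := Fˣ)
  obtain ⟨i, hi⟩ := Subgroup.mem_zpowers_iff.1 (hg (Units.map (a : F →* F) g))
  obtain ⟨j, hj⟩ := Subgroup.mem_zpowers_iff.1 (hg (Units.map (b : F →* F) g))
  have hi' : a (g : F) = (g : F) ^ i := by
    have := congrArg Units.val hi; simpa using this.symm
  have hj' : b (g : F) = (g : F) ^ j := by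
    have := congrArg Units.val hj; simpa using this.symm
  refine RingEquiv.ext fun x => ?_
  rcases eq_or_ne x 0 with rfl | hx
  · simp
  obtain ⟨k, hk⟩ := Subgroup.mem_zpowers_iff.1 (hg (Units.mk0 x hx))
  have hk' : x = (g : F) ^ k := by
    have := congrArg Units.val hk; simpa using this.symm
  subst hk'
  show a (b ((g : F) ^ k)) = b (a ((g : F) ^ k))
  rw [map_zpow₀, hj', map_zpow₀, map_zpow₀, hi', map_zpow₀, hi', map_zpow₀, map_zpow₀, hj',
    ← zpow_mul, ← zpow_mul, ← zpow_mul, ← zpow_mul]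
  ring_nf

/-- Few elements are fixed by non-trivial automorphisms of odd order. -/
theorem card_fixed_small [Fintype F] [DecidableEq F] [CharP F 2] (B : Finset F)
    (hB : ∀ y ∈ B, y ≠ 0 ∧ ∃ σ : F ≃+* F, Odd (orderOf σ) ∧ σ ≠ 1 ∧ σ y = y) :
    3 * B.card < Fintype.card F + 1 := by
  classical
  obtain ⟨n, -, hn⟩ := FiniteField.card F 2
  set k := (n : ℕ) / 3 with hk
  have hsub : B ⊆ (Finset.Icc 1 k).biUnion fun d =>
      (Polynomial.nthRoots (2 ^ d - 1) (1 : F)).toFinset := by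
    intro y hy
    obtain ⟨hy0, σ, hodd, hσ1, hσy⟩ := hB y hy
    haveI : Finite (fixF σ) := inferInstance
    have hc := pow_card_fixed σ (r := orderOf σ) rfl
    rw [Nat.card_eq_fintype_card (α := F), hn] at hc
    have hr0 : orderOf σ ≠ 0 := fun e => by rw [e] at hodd; exact absurd hodd (by decide)
    have hr1 : orderOf σ ≠ 1 := fun e => hσ1 (orderOf_eq_one_iff.1 e)
    have hr3 : 3 ≤ orderOf σ := by rcases hodd with ⟨m, hm⟩; omega
    obtain ⟨d, -, hd⟩ := (Nat.dvd_prime_pow Nat.prime_two).1 (hc ▸ dvd_pow_self (Nat.card (fixF σ)) hr0)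
    rw [hd, ← pow_mul] at hc
    have hdn : d * orderOf σ = n := Nat.pow_right_injective le_rfl hc
    have hd0 : 1 ≤ d := by
      rcases Nat.eq_zero_or_pos d with e | e
      · rw [e, zero_mul] at hdn; exact absurd hdn.symm n.pos.ne'
      · exact e
    have hdk : d ≤ k := by
      rw [hk, Nat.le_div_iff_mul_le (by norm_num)]
      calc d * 3 ≤ d * orderOf σ := Nat.mul_le_mul_left _ hr3
        _ = _ := hdn
    haveI : Fintype (fixF σ) := Fintype.ofFinite _
    have hpow : (⟨y, (mem_fixF σ).2 hσy⟩ : fixF σ) ^ (2 ^ d - 1) = 1 := by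
      rw [← hd, Nat.card_eq_fintype_card]
      exact FiniteField.pow_card_sub_one_eq_one _ (fun e => hy0 (congrArg Subtype.val e))
    simp only [Finset.mem_biUnion, Finset.mem_Icc, Multiset.mem_toFinset]
    refine ⟨d, ⟨hd0, hdk⟩, (Polynomial.mem_nthRoots ?_).2 ?_⟩
    · have : 2 ≤ 2 ^ d := Nat.le_self_pow (by omega) 2
      omega
    · simpa using congrArg Subtype.val hpow
  have h1 : B.card ≤ ∑ d ∈ Finset.Icc 1 k, (2 ^ d - 1) :=
    (Finset.card_le_card hsub).trans (Finset.card_biUnion_le.trans (Finset.sum_le_sum fun d _ =>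
      (Multiset.toFinset_card_le _).trans (Polynomial.card_nthRoots _ _)))
  have h2 : ∀ m : ℕ, (∑ d ∈ Finset.Icc 1 m, (2 ^ d - 1)) + (m + 2) = 2 ^ (m + 1) := by
    intro m
    induction m with
    | zero => simp
    | succ m ih =>
      rw [Finset.sum_Icc_succ_top (by omega)]
      have := Nat.one_le_two_pow (n := m + 1)
      rw [pow_succ 2 (m + 1)]
      omega
  have h2k := h2 k
  rw [hn]
  have h3 : 2 ^ (3 * k) ≤ 2 ^ (n : ℕ) := Nat.pow_le_pow_right (by norm_num) (by omega)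
  rcases Nat.lt_or_ge k 2 with hk2 | hk2
  · interval_cases k
    · simp at h1; simp [h1]
    · norm_num at h3 h1
      omega
  · have : 6 * 2 ^ k ≤ 2 ^ (3 * k) := by
      calc 6 * 2 ^ k ≤ 2 ^ (2 * k) * 2 ^ k := Nat.mul_le_mul_right _ (by
            calc 6 ≤ 2 ^ (2 * 2) := by norm_num
              _ ≤ _ := Nat.pow_le_pow_right (by norm_num) (by omega))
        _ = _ := by rw [← pow_add]; ring_nf
    rw [pow_succ] at h2k
    omega

namespace SData

variable {V : Type*} [AddCommGroup V] [CharP F 2] [Fintype F] (D : SData F V)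

/-- `σ` as a function of two lines. -/
def S (x y : F × F) : F ≃+* F := D.σ ((det₂ x y)⁻¹ • y) x

omit [Fintype F] in
theorem det_norm {x y : F × F} (h : det₂ x y ≠ 0) : det₂ ((det₂ x y)⁻¹ • y) x = 1 := by
  rw [det₂_smul_left, det₂_comm y x, inv_mul_cancel₀ h]

theorem S_eq {T R : F × F} (h : det₂ T R = 1) : D.S R T = D.σ T R := by
  rw [S, det₂_comm R T, h, inv_one, one_smul]

theorem S_smul_right (x y : F × F) {a : F} (ha : a ≠ 0) : D.S x (a • y) = D.S x y := by
  rw [S, S, det₂_smul_right, smul_smul, mul_inv_rev, inv_mul_cancel_right₀ ha]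

theorem S_symm {x y : F × F} (h : det₂ x y ≠ 0) : D.S y x = (D.S x y)⁻¹ := by
  have h1 := det_norm h
  obtain ⟨d, hd⟩ : ∃ d, d = det₂ x y := ⟨_, rfl⟩
  rw [← hd] at h h1
  have e1 : D.σ (d⁻¹ • y) x = D.σ y (d⁻¹ • x) := by
    have h' : det₂ y (d⁻¹ • x) = 1 := by rw [det₂_smul_right, ← det₂_smul_left]; exact h1
    have := D.hσ_scale y (d⁻¹ • x) h' d h
    rwa [smul_smul, mul_inv_cancel₀ h, one_smul] at this
  rw [S, S, det₂_comm y x, ← hd, e1]
  have h' : det₂ y (d⁻¹ • x) = 1 := by rw [det₂_smul_right, ← det₂_smul_left]; exact h1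
  rw [D.hσ_swap y (d⁻¹ • x) h']

theorem S_smul_left {x y : F × F} (h : det₂ x y ≠ 0) {a : F} (ha : a ≠ 0) :
    D.S (a • x) y = D.S x y := by
  have h' : det₂ y x ≠ 0 := by rwa [det₂_comm]
  have h'' : det₂ y (a • x) ≠ 0 := by rw [det₂_smul_right]; exact mul_ne_zero ha h'
  rw [D.S_symm h'', D.S_symm h', D.S_smul_right y x ha]

theorem S_tr {R y : F × F} (h : det₂ R y ≠ 0) : D.S R (tr R (D.qr R) y) = (D.S R y)⁻¹ := by
  obtain ⟨d, hd⟩ : ∃ d, d = det₂ R y := ⟨_, rfl⟩
  have h1 := det_norm h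
  have e := D.hσ_rp _ R h1
  rw [S, S]
  have e2 : det₂ R (tr R (D.qr R) y) = det₂ R y := by
    conv_lhs => arg 1; rw [← tr_self R (D.qr R)]
    rw [det₂_tr]
  rw [e2, ← e]
  congr 1
  rw [tr, smul_add, smul_smul, det₂_comm y R, ← hd, mul_comm (D.qr R), ← mul_assoc,
    inv_mul_cancel₀ (hd ▸ h), one_mul]

theorem cocycle {R g h : F × F} (hg : det₂ R g ≠ 0) (hh : det₂ R h ≠ 0) (hgh : det₂ g h ≠ 0) :
    D.S R h = D.S R g * D.S g h := by
  -- normalise
  obtain ⟨T, hTdef⟩ : ∃ T, T = (det₂ R g)⁻¹ • g := ⟨_, rfl⟩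
  have hT : det₂ T R = 1 := hTdef ▸ det_norm hg
  obtain ⟨U, hUdef⟩ : ∃ U, U = (det₂ R h)⁻¹ • h := ⟨_, rfl⟩
  have hU : det₂ U R = 1 := hUdef ▸ det_norm hh
  have eT : D.S R g = D.S R T := by rw [hTdef, D.S_smul_right R g (inv_ne_zero hg)]
  have eU : D.S R h = D.S R U := by rw [hUdef, D.S_smul_right R h (inv_ne_zero hh)]
  have eTU : D.S g h = D.S T U := by
    rw [hUdef, D.S_smul_right _ _ (inv_ne_zero hh), hTdef, D.S_smul_left hgh (inv_ne_zero hg)]
  rw [eT, eU, eTU]
  obtain ⟨z, hzdef⟩ : ∃ z, z = det₂ U T := ⟨_, rfl⟩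
  have hUe : U = T + z • R := by rw [eq_comb hT U, hU, one_smul, hzdef]
  have hz : z ≠ 0 := by
    rw [hzdef, hTdef, hUdef, det₂_smul_left, det₂_smul_right, det₂_comm h g]
    exact mul_ne_zero (inv_ne_zero hh) (mul_ne_zero (inv_ne_zero hg) hgh)
  have h2 : ∀ v : F × F, v + v = 0 := fun v => by rw [← two_smul F, CharTwo.two_eq_zero, zero_smul]
  -- base point whose `rp` is `T`
  obtain ⟨T₀, hT₀def⟩ : ∃ T₀, T₀ = T + D.qr R • R := ⟨_, rfl⟩
  have hT₀ : det₂ T₀ R = 1 := hT₀def ▸ LData.det_line hT _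
  have hrp : T₀ + D.qr R • R = T := by rw [hT₀def, add_assoc, h2, add_zero]
  have e := D.hσ_coc T₀ R hT₀ z hz
  rw [hrp] at e
  have hTR : det₂ R T = 1 := by rw [det₂_comm]; exact hT
  have hUT : det₂ U T = z := hzdef.symm
  have e3 : D.σ (T₀ + z • R) R = (D.S R U)⁻¹ := by
    rw [D.S_eq hU, ← D.hσ_rp U R hU, hUe, hT₀def]
    congr 1; abel
  have e4 : D.σ T₀ R = (D.S R T)⁻¹ := by
    rw [D.S_eq hT, ← D.hσ_rp T R hT, hT₀def]
  have e5 : D.σ ((R + D.qr T • T) + z⁻¹ • T) T = (D.S T U)⁻¹ := by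
    have hd : det₂ (R + z⁻¹ • T) T = 1 := LData.det_line hTR _
    rw [show D.S T U = D.S T (R + z⁻¹ • T) from ?_, D.S_eq hd, ← D.hσ_rp _ T hd]
    · congr 1; abel
    · rw [show R + z⁻¹ • T = z⁻¹ • U by
        rw [hUe, smul_add, smul_smul, inv_mul_cancel₀ hz, one_smul, add_comm],
        D.S_smul_right T U (inv_ne_zero hz)]
  rw [e3, e4, e5] at e
  rw [← inv_inv (D.S R U), e, mul_inv_rev, inv_inv, inv_inv, ringAut_comm]

theorem S_odd {x y : F × F} (h : det₂ x y ≠ 0) : Odd (orderOf (D.S x y)) :=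
  D.hσ_odd _ _ (det_norm h)

/-- A reference line. -/
def base : F × F := (1, 0)

open Classical in
/-- The potential of `σ`. -/
noncomputable def pot (x : F × F) : F ≃+* F :=
  if det₂ base x = 0 then 1 else D.S base x

theorem S_eq_pot {x y : F × F} (h : det₂ x y ≠ 0) : D.pot y = D.pot x * D.S x y := by
  have ho0 : (base : F × F) ≠ 0 := by simp [base]
  have hline : ∀ v : F × F, v ≠ 0 → det₂ base v = 0 → ∃ a : F, a ≠ 0 ∧ v = a • (base : F × F) := by
    intro v hv hd
    rw [det₂_comm] at hd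
    obtain ⟨a, ha⟩ := eq_smul_of_det₂ ho0 hd
    exact ⟨a, fun e => hv (by rw [ha, e, zero_smul]), ha⟩
  have hx := left_ne_zero h
  have hy := right_ne_zero h
  unfold pot
  split_ifs with h1 h2
  · obtain ⟨a, ha, rfl⟩ := hline x hx h2
    obtain ⟨b, hb, rfl⟩ := hline y hy h1
    exact absurd (by rw [det₂_smul_left, det₂_smul_right, det₂_self, mul_zero, mul_zero]) h
  · obtain ⟨b, hb, rfl⟩ := hline y hy h1
    rw [D.S_smul_right x base hb, D.S_symm (x := base) (y := x) h2, mul_inv_cancel]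
  · obtain ⟨a, ha, rfl⟩ := hline x hx ‹_›
    have hoy : det₂ base y ≠ 0 := h1
    rw [one_mul, D.S_smul_left hoy ha]
  · exact D.cocycle ‹_› h1 h

theorem pot_smul {a : F} {x : F × F} (ha : a ≠ 0) : D.pot (a • x) = D.pot x := by
  have e : det₂ base (a • x) = 0 ↔ det₂ base x = 0 := by simp [det₂_smul_right, ha]
  unfold pot
  split_ifs with h1 h2 h2
  · rfl
  · exact absurd (e.1 h1) h2
  · exact absurd (e.2 h2) h1
  · exact D.S_smul_right base x ha

theorem pot_odd (x : F × F) : Odd (orderOf (D.pot x)) := by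
  simp only [pot]; split_ifs with h
  · simp
  · exact D.S_odd h

/-- The reflection datum of `σ`. -/
@[reducible] noncomputable def refl : @Refl F _ (F ≃+* F) { (inferInstance : Group (F ≃+* F)) with
    mul_comm := ringAut_comm } :=
  letI : CommGroup (F ≃+* F) := { (inferInstance : Group (F ≃+* F)) with mul_comm := ringAut_comm }
  { qr := D.qr
    qr_ne := D.qr_ne
    qr_smul := D.qr_smul
    φ := D.pot
    φ_smul := fun a x ha _ => D.pot_smul ha
    φ_tr := fun R hR x hx => by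
      show D.pot (tr R (D.qr R) x) = D.pot R ^ 2 / D.pot x
      by_cases h : det₂ R x = 0
      · rw [det₂_comm] at h
        obtain ⟨a, rfl⟩ := eq_smul_of_det₂ hR h
        have ha : a ≠ 0 := fun e => hx (by rw [e, zero_smul])
        rw [tr, det₂_smul_left, det₂_self, mul_zero, mul_zero, zero_smul, add_zero, D.pot_smul ha,
          pow_two, mul_div_cancel_right]
      · have h' : det₂ R (tr R (D.qr R) x) ≠ 0 := by
          conv => arg 1; arg 1; rw [← tr_self R (D.qr R)]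
          rwa [det₂_tr]
        rw [D.S_eq_pot h', D.S_tr h, D.S_eq_pot h, pow_two, mul_div_mul_left_eq_div, div_eq_mul_inv]
    no_two := fun x y _ _ e => by
      have hodd : Odd (orderOf (D.pot x * (D.pot y)⁻¹)) :=
        ((D.pot_odd x).mul ((orderOf_inv (D.pot y)).symm ▸ D.pot_odd y)).of_dvd_nat
          ((Commute.orderOf_mul_dvd_lcm (ringAut_comm (D.pot x) (D.pot y)⁻¹)).trans
            (Nat.lcm_dvd_mul _ _))
      have h1 : (D.pot x * (D.pot y)⁻¹) ^ 2 = 1 := by rw [mul_pow, inv_pow, e, mul_inv_cancel]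
      have := orderOf_dvd_of_pow_eq_one h1
      rcases (Nat.dvd_prime Nat.prime_two).1 this with e1 | e1
      · exact mul_inv_eq_one.1 (orderOf_eq_one_iff.1 e1)
      · rw [e1] at hodd; exact absurd hodd (by decide) }

theorem σ_fix (hqr : ∀ R x, R ≠ 0 → x ≠ 0 → D.qr (tr R (D.qr R) x) = D.qr x)
    {T R : F × F} (h : det₂ T R = 1) : D.σ T R (D.qr T * D.qr R) = D.qr T * D.qr R := by
  have hR := right_ne_zero (h.trans_ne one_ne_zero)
  have hT := left_ne_zero (h.trans_ne one_ne_zero)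
  have h2 : ∀ v : F × F, v + v = 0 := fun v => by rw [← two_smul F, CharTwo.two_eq_zero, zero_smul]
  have hrp : tr R (D.qr R) T = T + D.qr R • R := by rw [tr, h, mul_one]
  have q1 : D.qr (T + D.qr R • R) = D.qr T := by rw [← hrp]; exact hqr R T hR hT
  have hd : det₂ (T + D.qr R • R) R = 1 := LData.det_line h _
  have hd' : det₂ R (T + D.qr R • R) = 1 := by rw [det₂_comm]; exact hd
  have q2 : ∀ u v : F × F, det₂ u v = 1 → D.qr (u + D.qr v • v) = D.qr u := fun u v huv => by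
    have e : tr v (D.qr v) u = u + D.qr v • v := by rw [tr, huv, mul_one]
    rw [← e]; exact hqr v u (right_ne_zero (huv.trans_ne one_ne_zero)) (left_ne_zero (huv.trans_ne one_ne_zero))
  -- the two forms of the multiplier
  have htf : R + D.qr (T + D.qr R • R) • (T + D.qr R • R) ≠ 0 :=
    left_ne_zero ((LData.det_line hd' _).trans_ne one_ne_zero)
  have e1 := D.hqr T R h _ htf
  rw [D.hLtf T R h, q2 _ _ hd'] at e1
  have hback : T + D.qr R • R + D.qr R • R = T := by rw [add_assoc, h2, add_zero]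
  have htf' : R + D.qr T • T ≠ 0 :=
    left_ne_zero ((LData.det_line (T := R) (R := T) (by rw [det₂_comm]; exact h) _).trans_ne one_ne_zero)
  have e2 := D.hqr _ R hd (R + D.qr T • T) htf'
  have e3 := D.hLtf _ R hd
  rw [hback] at e3
  rw [e3, D.hσ_rp T R h, D.hm_rp T R h, q1, q2 _ _ (by rw [det₂_comm]; exact h)] at e2
  have e4 := congrArg (D.σ T R) e2
  have hinv : ∀ x, D.σ T R ((D.σ T R)⁻¹ x) = x := fun x => by
    show (D.σ T R * (D.σ T R)⁻¹) x = x
    rw [mul_inv_cancel]; rfl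
  rw [map_mul, hinv, hinv] at e4
  rw [map_mul, ← e1, mul_comm (D.σ T R _), mul_assoc, mul_comm (D.m T R), e4]

theorem σ_eq_one {T R : F × F} (h : det₂ T R = 1) : D.σ T R = 1 := by
  classical
  letI : CommGroup (F ≃+* F) := { (inferInstance : Group (F ≃+* F)) with mul_comm := ringAut_comm }
  by_cases hnc : ∃ x y, x ≠ 0 ∧ y ≠ 0 ∧ D.refl.φ x ≠ D.refl.φ y
  swap
  · push Not at hnc
    have hd : det₂ R T ≠ 0 := by rw [det₂_comm, h]; exact one_ne_zero
    have e := D.S_eq_pot hd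
    rw [show D.pot T = D.pot R from hnc T R (left_ne_zero (h.trans_ne one_ne_zero)) (left_ne_zero hd),
      left_eq_mul, D.S_eq h] at e
    exact e
  exfalso
  have hqr : ∀ R x, R ≠ 0 → x ≠ 0 → D.qr (tr R (D.qr R) x) = D.qr x := fun R x hR hx =>
    Refl.qr_map (D := D.refl) hnc (Refl.gen_tr hR) hx
  have hF2 : ∀ d : F, ∃ e : F, e * e = d := fun d => by
    obtain ⟨e, he⟩ := (FiniteField.isSquare_of_char_two (ringChar.eq F 2) d)
    exact ⟨e, he.symm⟩
  -- every line has a normalised vector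
  have hnorm : ∀ x : F × F, x ≠ 0 → ∃ a : F, a ≠ 0 ∧ D.qr (a • x) = 1 := by
    intro x hx
    obtain ⟨e, he⟩ := hF2 (D.qr x)
    have he0 : e ≠ 0 := fun e0 => D.qr_ne x hx (by rw [← he, e0, mul_zero])
    refine ⟨e, he0, mul_right_cancel₀ (mul_ne_zero he0 he0) ?_⟩
    rw [D.qr_smul e x he0 hx, one_mul, he]
  let X : Finset (F × F) := Finset.univ.filter fun S => S ≠ 0 ∧ D.qr S = 1
  have hX : X.card * (Fintype.card F - 1) = Fintype.card F * Fintype.card F - 1 := by
    have e : Fintype.card (F × F) - 1 = ((Finset.univ : Finset (F × F)).erase 0).card := by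
      rw [Finset.card_erase_of_mem (Finset.mem_univ _), Finset.card_univ]
    rw [← Fintype.card_prod, e, ← Finset.card_univ, ← Finset.card_erase_of_mem (Finset.mem_univ (0 : F)),
      ← Finset.card_product]
    refine Finset.card_bij (fun p _ => p.2 • p.1) ?_ ?_ ?_
    · intro p hp
      simp only [X, Finset.mem_product, Finset.mem_filter, Finset.mem_univ, true_and, Finset.mem_erase,
        and_true] at hp ⊢
      exact smul_ne_zero hp.2 hp.1.1
    · intro p hp p' hp' e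
      simp only [X, Finset.mem_product, Finset.mem_filter, Finset.mem_univ, true_and, Finset.mem_erase,
        and_true] at hp hp'
      have e' : (p'.2⁻¹ * p.2) • p.1 = p'.1 := by
        rw [mul_smul, e, inv_smul_smul₀ hp'.2]
      have h1 : p'.2⁻¹ * p.2 = 1 :=
        Refl.norm_unique (D := D.refl) hp.1.1 (mul_ne_zero (inv_ne_zero hp'.2) hp.2)
          (show D.qr _ = D.qr p.1 by rw [e', hp'.1.2, hp.1.2])
      rw [h1, one_smul] at e'
      exact Prod.ext e' ((inv_mul_eq_one₀ hp'.2).1 h1).symm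
    · intro v hv
      simp only [Finset.mem_erase, Finset.mem_univ, and_true] at hv
      obtain ⟨a, ha, ha1⟩ := hnorm v hv
      refine ⟨(a • v, a⁻¹), ?_, inv_smul_smul₀ ha v⟩
      simp only [X, Finset.mem_product, Finset.mem_filter, Finset.mem_univ, true_and, Finset.mem_erase,
        and_true]
      exact ⟨⟨smul_ne_zero ha hv, ha1⟩, inv_ne_zero ha⟩
  have hX' : X.card = Fintype.card F + 1 := by
    have h1 : 2 ≤ Fintype.card F := Fintype.one_lt_card
    obtain ⟨m, hm⟩ : ∃ m, Fintype.card F = m + 2 := ⟨_, (Nat.sub_add_cancel h1).symm⟩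
    rw [hm] at hX ⊢
    refine Nat.eq_of_mul_eq_mul_right (m := m + 1) (by omega) ?_
    have e' : (m + 2) * (m + 2) = (m + 2 + 1) * (m + 1) + 1 := by ring
    rw [e'] at hX
    simpa using hX
  -- a normalised vector and two values of the potential
  obtain ⟨x, y, hx, hy, hxy⟩ := hnc
  obtain ⟨a, ha, ha1⟩ := hnorm x hx
  obtain ⟨b, hb, hb1⟩ := hnorm y hy
  obtain ⟨R₀, hR₀⟩ : ∃ R₀, R₀ = a • x := ⟨_, rfl⟩
  obtain ⟨S₀, hS₀⟩ : ∃ S₀, S₀ = b • y := ⟨_, rfl⟩
  have hR₀0 : R₀ ≠ 0 := hR₀ ▸ smul_ne_zero ha hx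
  have hS₀0 : S₀ ≠ 0 := hS₀ ▸ smul_ne_zero hb hy
  rw [← hR₀] at ha1
  rw [← hS₀] at hb1
  have hne0 : D.pot S₀ ≠ D.pot R₀ := by
    rw [hS₀, hR₀, D.pot_smul hb, D.pot_smul ha]
    exact fun e => hxy e.symm
  -- the rotation shifts the potential
  set Y := X.filter fun S => D.pot S = D.pot R₀ with hY
  let ρ : F × F → F × F := fun v => tr S₀ (D.qr S₀) (tr R₀ (D.qr R₀) v)
  obtain ⟨u, hu⟩ : ∃ u, u = D.pot S₀ ^ 2 / D.pot R₀ ^ 2 := ⟨_, rfl⟩
  have hρ : ∀ v, v ≠ 0 → D.pot (ρ v) = u * D.pot v := fun v hv => by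
    have e1 := D.refl.φ_tr S₀ hS₀0 _ (tr_ne_zero (R := R₀) (b := D.qr R₀) hv)
    have e2 := D.refl.φ_tr R₀ hR₀0 v hv
    change D.pot (ρ v) = _ at e1
    change D.pot (tr R₀ (D.qr R₀) v) = _ at e2
    rw [e1]
    show D.pot S₀ ^ 2 / D.pot _ = _
    rw [e2, hu, div_div_eq_mul_div, div_mul_eq_mul_div]
  have hρX : ∀ v ∈ X, ρ v ∈ X := fun v hv => by
    simp only [X, Finset.mem_filter, Finset.mem_univ, true_and] at hv ⊢
    refine ⟨tr_ne_zero (tr_ne_zero hv.1), ?_⟩
    rw [hqr _ _ hS₀0 (tr_ne_zero hv.1), hqr _ _ hR₀0 hv.1, hv.2]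
  have hρinj : Function.Injective ρ := fun v w e => by
    have := congrArg (tr S₀ (D.qr S₀)) e
    simp only [ρ, tr_invol] at this
    simpa [tr_invol] using congrArg (tr R₀ (D.qr R₀)) this
  have hu1 : u ≠ 1 := fun e => by
    rw [hu, div_eq_one] at e
    exact hne0 (D.refl.no_two S₀ R₀ hS₀0 hR₀0 e)
  have huodd : Odd (orderOf u) := by
    rw [hu, ← div_pow]
    have h1 : Odd (orderOf (D.pot S₀ / D.pot R₀)) := by
      rw [div_eq_mul_inv]
      exact ((D.pot_odd S₀).mul ((orderOf_inv (D.pot R₀)).symm ▸ D.pot_odd R₀)).of_dvd_nat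
        ((Commute.orderOf_mul_dvd_lcm (ringAut_comm _ _)).trans (Nat.lcm_dvd_mul _ _))
    exact h1.of_dvd_nat (orderOf_pow_dvd 2)
  have hu2 : u * u ≠ 1 := fun e => by
    have := orderOf_dvd_of_pow_eq_one (x := u) (n := 2) (by rw [pow_two, e])
    rcases (Nat.dvd_prime Nat.prime_two).1 this with e1 | e1
    · exact hu1 (orderOf_eq_one_iff.1 e1)
    · rw [e1] at huodd; exact absurd huodd (by decide)
  have hY3 : 3 * Y.card ≤ X.card := by
    have hm : ∀ v ∈ Y, v ∈ X ∧ v ≠ 0 ∧ D.pot v = D.pot R₀ := fun v hv => by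
      simp only [Y, X, Finset.mem_filter, Finset.mem_univ, true_and] at hv ⊢
      exact ⟨hv.1, hv.1.1, hv.2⟩
    have h1 : ∀ v ∈ Y.image ρ, D.pot v = u * D.pot R₀ := fun v hv => by
      obtain ⟨w, hw, rfl⟩ := Finset.mem_image.1 hv
      rw [hρ w (hm w hw).2.1, (hm w hw).2.2]
    have h2' : ∀ v ∈ Y.image (ρ ∘ ρ), D.pot v = u * u * D.pot R₀ := fun v hv => by
      obtain ⟨w, hw, rfl⟩ := Finset.mem_image.1 hv
      rw [Function.comp_apply, hρ _ (tr_ne_zero (tr_ne_zero (hm w hw).2.1)), hρ w (hm w hw).2.1,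
        (hm w hw).2.2, mul_assoc]
    have d1 : Disjoint Y (Y.image ρ) := Finset.disjoint_left.2 fun v hv hv' =>
      hu1 (mul_eq_right.1 ((h1 v hv').symm.trans (hm v hv).2.2))
    have d2 : Disjoint (Y ∪ Y.image ρ) (Y.image (ρ ∘ ρ)) := Finset.disjoint_left.2 fun v hv hv' => by
      rcases Finset.mem_union.1 hv with hv | hv
      · exact hu2 (mul_eq_right.1 ((h2' v hv').symm.trans (hm v hv).2.2))
      · have := (h2' v hv').symm.trans (h1 v hv)
        exact hu1 (mul_eq_left.1 (mul_right_cancel this))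
    have hsub : Y ∪ Y.image ρ ∪ Y.image (ρ ∘ ρ) ⊆ X := by
      intro v hv
      simp only [Finset.mem_union, Finset.mem_image, Function.comp_apply] at hv
      rcases hv with (hv | ⟨w, hw, rfl⟩) | ⟨w, hw, rfl⟩
      · exact (hm v hv).1
      · exact hρX w (hm w hw).1
      · exact hρX _ (hρX w (hm w hw).1)
    have := Finset.card_le_card hsub
    rw [Finset.card_union_of_disjoint d2, Finset.card_union_of_disjoint d1,
      Finset.card_image_of_injective _ hρinj, Finset.card_image_of_injective _ (hρinj.comp hρinj)] at this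
    omega
  -- the other vectors give fixed elements
  let B : Finset F := (X \ Y).image fun S => det₂ S R₀
  have hBpot : ∀ S ∈ X \ Y, S ≠ 0 ∧ D.qr S = 1 ∧ D.pot S ≠ D.pot R₀ ∧ det₂ S R₀ ≠ 0 := fun S hS => by
    simp only [X, Y, Finset.mem_sdiff, Finset.mem_filter, Finset.mem_univ, true_and] at hS
    refine ⟨hS.1.1, hS.1.2, fun e => hS.2 ⟨hS.1, e⟩, fun e => hS.2 ⟨hS.1, ?_⟩⟩
    obtain ⟨c, rfl⟩ := eq_smul_of_det₂ hR₀0 e
    exact D.pot_smul fun e0 => hS.1.1 (by rw [e0, zero_smul])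
  have hB : ∀ d ∈ B, d ≠ 0 ∧ ∃ σ : F ≃+* F, Odd (orderOf σ) ∧ σ ≠ 1 ∧ σ d = d := by
    intro d hd
    obtain ⟨S, hS, rfl⟩ := Finset.mem_image.1 hd
    obtain ⟨hS0, hS1, hSp, hSd⟩ := hBpot S hS
    obtain ⟨T', hT'def⟩ : ∃ T', T' = (det₂ R₀ S)⁻¹ • S := ⟨_, rfl⟩
    have hd' : det₂ R₀ S ≠ 0 := by rwa [det₂_comm]
    have hT' : det₂ T' R₀ = 1 := hT'def ▸ det_norm hd'
    refine ⟨hSd, D.σ T' R₀, D.hσ_odd _ _ hT', fun e => hSp ?_, ?_⟩
    · rw [D.S_eq_pot hd', show D.S R₀ S = 1 by rw [SData.S, ← hT'def, e], mul_one]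
    · have hfix := D.σ_fix hqr hT'
      have hq : D.qr T' = det₂ R₀ S * det₂ R₀ S := by
        have := D.qr_smul (det₂ R₀ S)⁻¹ S (inv_ne_zero hd') hS0
        rw [← hT'def, hS1] at this
        field_simp at this
        rw [this]; ring
      rw [hq, ha1, mul_one, map_mul, det₂_comm R₀ S, ← pow_two, ← pow_two] at hfix
      exact frobenius_inj F 2 hfix
  have hB2 : (X \ Y).card ≤ 2 * B.card := Finset.card_le_mul_card_image _ 2 fun d hd => by
    obtain ⟨S, hS, rfl⟩ := Finset.mem_image.1 hd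
    obtain ⟨hS0, hS1, -, hSd⟩ := hBpot S hS
    refine (Finset.card_le_card (t := {S, S + det₂ S R₀ • R₀}) fun S' hS' => ?_).trans Finset.card_le_two
    obtain ⟨hS'X, hS'd⟩ := Finset.mem_filter.1 hS'
    obtain ⟨hS'0, hS'1, -, -⟩ := hBpot S' hS'X
    simpa using Refl.det_fibre (D := D.refl) ⟨x, y, hx, hy, hxy⟩ hR₀0 hS0 hS'0 ha1 hS1 hS'1 hS'd hSd
  have h3 := card_fixed_small B hB
  have h4 : (X \ Y).card = X.card - Y.card := Finset.card_sdiff_of_subset (Finset.filter_subset _ _)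
  omega

/-- The linear datum. -/
noncomputable def toLData : LData F V where
  toSData := D
  σ_one := fun _ _ h => D.σ_eq_one h

end SData

end Cfsg.Agent.SuzukiRankOne.Unitary
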