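import Cfsg.Agent.Lib.SuzukiRankOne.Unitary.TwoGroup
/-!
# `|Q| = q³`: centralisers in `Q` of elements of `D`

* `Coords.r_commute` : `C_D(z 1)` centralises `r`;
* `Coords.sq_eq_one_of_commute` : a non-trivial element of `C_D(Z)` centralises only involutions;
* `Coords.card_sqrt_one`, `Coords.card_centralized` : the count of square roots of `z 1`.
-/

set_option autoImplicit false

namespace Cfsg.Agent.SuzukiRankOne

open MulAction Cfsg.Agent.RankOne.Setup

universe u v w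

variable {G : Type u} {Ω : Type v} [Group G] [Finite G] [MulAction G Ω]
  {a : Ω} {t : G} {Q : Subgroup G} {F : Type w} [Field F]

local notation "DD" => (stabilizer G a ⊓ stabilizer G (t • a) : Subgroup G)
local notation "II" => Cfsg.involutionsIn (stabilizer G a : Set G)
local notation "KK" => Cfsg.invertedBy (stabilizer G a ⊓ stabilizer G (t • a)) t

/-- An element commuting with a power of which every element is a power. -/
theorem eq_one_of_pow_conj {e u y : G} (hy : e * y = y * e) (he : e * u * e⁻¹ = u * y) (n : ℕ) :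
    e ^ n * u * (e ^ n)⁻¹ = u * y ^ n := by
  induction n with
  | zero => simp
  | succ n ih =>
    have hc : e * y ^ n * e⁻¹ = y ^ n := by
      rw [(show Commute e y from hy).pow_right n, mul_inv_cancel_right]
    calc e ^ (n + 1) * u * (e ^ (n + 1))⁻¹ = e * (e ^ n * u * (e ^ n)⁻¹) * e⁻¹ := by
          rw [pow_succ']; group
      _ = (e * u * e⁻¹) * (e * y ^ n * e⁻¹) := by rw [ih]; group
      _ = _ := by rw [he, hc, pow_succ', mul_assoc]

theorem eq_one_of_odd_two {y : G} {n : ℕ} (hn : Odd n) (hy : y ^ n = 1) {j : ℕ} (hj : y ^ 2 ^ j = 1) :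
    y = 1 := by
  have hc : Nat.Coprime n (2 ^ j) := (Nat.coprime_two_right.2 hn).pow_right j
  exact pow_eq_one_iff_of_coprime hc |>.1 ⟨hy, hj⟩

namespace Coords

variable (C : Coords a t Q F)
include C

variable (h : Cfsg.IsRankOneSetup G Ω a t Q)
include h

theorem r_commute {r : G} (hr : r ∈ Q) (he : t * C.z 1 * t = r⁻¹ * t * r) {d : G} (hd : d ∈ DD)
    (hs : d * C.z 1 = C.z 1 * d) : t * d = d * t ∧ d * r = r * d := by
  have hs1 : C.z (1 : F) ∈ II := C.z_mem_ii one_ne_zero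
  have hdt : t * d = d * t := (commute_iff h hs1 hr he hd).2 hs.symm
  refine ⟨hdt, ?_⟩
  have hp : IsPart a t Q (C.z 1) r 1 := ⟨hr, one_mem_kk h, by rw [mul_one]; exact he⟩
  have hp' := isPart_conj h hp hd
  have e : t * d * t = d := by rw [hdt, mul_assoc, h.mul_self, mul_one]
  rw [e, mul_one, inv_mul_cancel, show d⁻¹ * C.z 1 * d = C.z 1 by
    rw [mul_assoc, ← hs, inv_mul_cancel_left]] at hp'
  have := (isPart_unique h hp' hp).1
  calc d * r = d * (d⁻¹ * r * d) := by rw [this]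
    _ = r * d := by group

variable [FaithfulSMul G Ω] (h2 : TwoInvolutions G) (hQ2 : IsPGroup 2 Q) (hna : ¬ IsMulCommutative Q)
include h2 hQ2 hna

theorem sq_conj_k {b : Fˣ} {u : G} {x : F} (hx : C.z x = u * u) :
    C.k b * u * (C.k b)⁻¹ * (C.k b * u * (C.k b)⁻¹) = C.z ((b : F) * b * x) := by
  rw [← C.k_conj, hx]; group

/-- If `u v⁻¹` is in the centre then `u` and `v` have equal squares. -/
theorem sq_eq_of_coset {u v : G} (hu : u ∈ Q) {x : F} (e : v = u * C.z x) : v * v = u * u := by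
  rw [e]
  calc u * C.z x * (u * C.z x) = u * (C.z x * u) * C.z x := by group
    _ = u * (u * C.z x) * C.z x := by rw [C.z_commute h h2 x hu]
    _ = u * u * (C.z x * C.z x) := by group
    _ = u * u := by rw [C.z_sq, mul_one]

/-- An element of `D` centralising `Z` and normalising a coset of `Z` centralises it. -/
theorem commute_of_coset {e u : G} (hed : e ∈ DD) (heZ : ∀ x, e * C.z x = C.z x * e) {x : F}
    (he : e * u * e⁻¹ = u * C.z x) : e * u = u * e := by
  have hn : Odd (orderOf e) := h.odd_card.of_dvd_nat (Subgroup.orderOf_dvd_natCard _ hed)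
  have h1 := eq_one_of_pow_conj (heZ x) he (orderOf e)
  rw [pow_orderOf_eq_one, one_mul, inv_one, mul_one, left_eq_mul] at h1
  have h2 := eq_one_of_odd_two hn h1 (j := 1) (by rw [pow_one, pow_two, C.z_sq])
  rw [h2, mul_one] at he
  exact mul_inv_eq_iff_eq_mul.1 he

variable [Finite F]

/-- A non-trivial element of `C_D(Z)` centralises only the centre of `Q`. -/
theorem sq_eq_one_of_commute (hQ3 : Nat.card Q = Nat.card F ^ 3) {e : G} (hed : e ∈ DD) (he1 : e ≠ 1)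
    (heZ : ∀ x, e * C.z x = C.z x * e) {u : G} (hu : u ∈ Q) (hc : e * u = u * e) : u * u = 1 := by
  classical
  by_contra hu2
  -- `e` centralises `K`
  have hek : ∀ b, C.k b * e = e * C.k b := fun b => (FTUse.RankOne.ker_facts h h2 (w := ⟨e, hed⟩)
    ((FTUse.RankOne.mem_ker_rho h h2).2 fun x hx => by
      obtain ⟨y, rfl⟩ := C.z_surj x hx.1 hx.2
      exact heZ y)).2 _ (C.k_mem b)
  -- `v ↦ v⁻¹ e v e⁻¹` modulo the centre
  let π := QuotientGroup.mk' (Subgroup.center ↥Q)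
  have hπ : ∀ {u v : ↥Q}, π u = π v → ∃ x, (v : G) = (u : G) * C.z x := fun {u v} e => by
    have hm := Subgroup.mem_center_iff.1 (QuotientGroup.eq.1 e)
    obtain ⟨x, hx⟩ := C.z_surj _ (h.le (u⁻¹ * v).2) ((C.central_iff h h2 hQ2 hna (u⁻¹ * v).2).1
      fun w hw => (congrArg Subtype.val (hm ⟨w, hw⟩)).symm)
    exact ⟨x, by rw [hx]; simp⟩
  have hcomm : ∀ x y : ↥Q ⧸ Subgroup.center ↥Q, x * y = y * x := by
    intro x y
    obtain ⟨u, rfl⟩ := QuotientGroup.mk_surjective x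
    obtain ⟨v, rfl⟩ := QuotientGroup.mk_surjective y
    rw [← QuotientGroup.mk_mul, ← QuotientGroup.mk_mul, QuotientGroup.eq, Subgroup.mem_center_iff]
    intro w
    obtain ⟨z, hz⟩ := C.comm_eq h h2 hQ2 hna v.2 u.2
    refine Subtype.ext ?_
    simp only [Subgroup.coe_mul, InvMemClass.coe_inv, mul_inv_rev, ← mul_assoc]
    rw [mul_assoc (w : G), mul_assoc (w : G), mul_assoc (w : G), ← hz, C.z_commute h h2 z w.2]
  let ce : ↥Q →* ↥Q :=
    { toFun := fun v => ⟨e * v * e⁻¹, h.conj_mem e hed.1 v v.2⟩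
      map_one' := Subtype.ext (by simp)
      map_mul' := fun v w => Subtype.ext (by simp [mul_assoc]) }
  let f : ↥Q →* ↥Q ⧸ Subgroup.center ↥Q := MonoidHom.mk' (fun v => (π v)⁻¹ * π (ce v)) fun v w => by
    simp only [map_mul, mul_inv_rev]
    rw [← mul_assoc ((π w)⁻¹ * (π v)⁻¹), mul_assoc (π w)⁻¹ (π v)⁻¹ _, hcomm (π w)⁻¹, ← mul_assoc]
  -- a lift of the kernel of size at least `q²`
  have hlift : ∀ y : ↥Q, (y : G) * y ≠ 1 → ∃ w : F → ↥Q,
      (∀ b, b ≠ 0 → ∃ c : Fˣ, (w b : G) = C.k c * y * (C.k c)⁻¹ ∧ (c : F) = b) ∧ w 0 = 1 ∧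
      ∀ b b' x x', (w b : G) * C.z x = w b' * C.z x' → b = b' ∧ x = x' := by
    intro y hy
    obtain ⟨y0, hy0⟩ := C.sq_eq h h2 hQ2 hna y.2
    refine ⟨fun b => if hb : b = 0 then 1 else
      ⟨C.k (Units.mk0 b hb) * y * (C.k (Units.mk0 b hb))⁻¹, h.conj_mem _ (C.k_mem_dd _).1 y y.2⟩,
      fun b hb => ⟨Units.mk0 b hb, by simp [hb], rfl⟩, by simp, ?_⟩
    intro b b' x x' e
    have key : ∀ (b : F) (x : F) (wb : ↥Q), (wb = if hb : b = 0 then 1 else
        ⟨C.k (Units.mk0 b hb) * y * (C.k (Units.mk0 b hb))⁻¹, h.conj_mem _ (C.k_mem_dd _).1 y y.2⟩) →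
        (wb : G) * C.z x * ((wb : G) * C.z x) = C.z (b * b * y0) := by
      intro b x wb hwb
      rw [C.sq_eq_of_coset h h2 hQ2 hna wb.2 rfl, hwb]
      split_ifs with hb
      · simp [hb, C.z_zero]
      · exact C.sq_conj_k h h2 hQ2 hna hy0
    have hy00 : y0 ≠ 0 := fun h0 => hy (by rw [← hy0, h0, C.z_zero])
    have e2 := (key b x _ rfl).symm.trans ((congrArg (fun g => g * g) e).trans (key b' x' _ rfl))
    have hb : b = b' := by
      have heq := mul_right_cancel₀ hy00 (C.z_inj e2)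
      haveI : CharP F 2 := CharTwo.of_one_ne_zero_of_two_eq_zero one_ne_zero (C.z_inj (by
        rw [← one_add_one_eq_two, C.z_add, C.z_sq, C.z_zero]))
      exact frobenius_inj F 2 (by rw [frobenius_def, frobenius_def, pow_two, pow_two, heq])
    subst hb
    exact ⟨rfl, C.z_inj (mul_left_cancel e)⟩
  have hker : Nat.card F * Nat.card F ≤ Nat.card f.ker := by
    obtain ⟨w, hw, hw0, hwi⟩ := hlift ⟨u, hu⟩ hu2
    rw [← Nat.card_prod]
    refine Nat.card_le_card_of_injective (fun p => ⟨w p.1 * ⟨C.z p.2, C.z_mem_Q h _⟩, ?_⟩)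
      fun p p' e => ?_
    · have hfix : ce (w p.1 * ⟨C.z p.2, C.z_mem_Q h _⟩) = w p.1 * ⟨C.z p.2, C.z_mem_Q h _⟩ := by
        apply Subtype.ext
        show e * ((w p.1 : G) * C.z p.2) * e⁻¹ = (w p.1 : G) * C.z p.2
        refine mul_inv_eq_iff_eq_mul.2 ((Commute.mul_right ?_ (heZ p.2)).eq)
        rcases eq_or_ne p.1 0 with h0 | h0
        · rw [h0, hw0]; exact Commute.one_right e
        · obtain ⟨c, hc', -⟩ := hw _ h0
          rw [hc']
          have hck : Commute e (C.k c) := (hek c).symm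
          exact (hck.mul_right hc).mul_right hck.inv_right
      rw [MonoidHom.mem_ker]
      show (π _)⁻¹ * π (ce _) = 1
      rw [hfix, inv_mul_cancel]
    · obtain ⟨e1, e2⟩ := hwi _ _ _ _ (congrArg (fun x : f.ker => ((x : ↥Q) : G)) e)
      exact Prod.ext e1 e2
  have hrange : Nat.card f.range ≤ Nat.card F := by
    have := f.ker.index_mul_card
    rw [Subgroup.index_ker, hQ3] at this
    by_contra hlt
    have := Nat.mul_lt_mul_of_lt_of_le (Nat.lt_of_not_le hlt) hker Nat.card_pos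
    have e3 : Nat.card F ^ 3 = Nat.card F * (Nat.card F * Nat.card F) := by ring
    omega
  -- some element outside the kernel
  obtain ⟨v, hv⟩ : ∃ v : ↥Q, f v ≠ 1 := by
    by_contra hcon
    push Not at hcon
    refine he1 (eq_of_smul_eq_smul fun p : Ω => ?_)
    rw [one_smul]
    by_cases hp : p = a
    · rw [hp]; exact hed.1
    obtain ⟨y, hy, rfl⟩ := exists_smul_eq h hp
    obtain ⟨x, hx⟩ := hπ (inv_mul_eq_one.1 (hcon ⟨y, hy⟩))
    have := C.commute_of_coset h h2 hQ2 hna hed heZ hx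
    rw [← mul_smul, this, mul_smul, hed.2]
  set y : ↥Q := v⁻¹ * ce v with hydef
  have hfy : f v = π y := by simp [f, y]
  have hy : (y : G) * y ≠ 1 := fun hy2 => hv (by
    rw [hfy]
    refine (QuotientGroup.eq_one_iff _).2 (Subgroup.mem_center_iff.2 fun g => Subtype.ext ?_)
    exact ((C.central_iff h h2 hQ2 hna y.2).2 hy2 _ g.2).symm)
  obtain ⟨w, hw, hw0, hwi⟩ := hlift y hy
  have hwr : ∀ b, π (w b) ∈ f.range := fun b => by
    rcases eq_or_ne b 0 with rfl | hb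
    · rw [hw0, map_one]; exact one_mem _
    obtain ⟨c, hc', -⟩ := hw b hb
    refine ⟨⟨C.k c * v * (C.k c)⁻¹, h.conj_mem _ (C.k_mem_dd c).1 v v.2⟩, ?_⟩
    show (π _)⁻¹ * π (ce _) = _
    rw [← map_inv, ← map_mul]
    congr 1
    apply Subtype.ext
    show (C.k c * v * (C.k c)⁻¹)⁻¹ * (e * (C.k c * v * (C.k c)⁻¹) * e⁻¹) = (w b : G)
    have hck : Commute e (C.k c) := (hek c).symm
    have e1 : (C.k c)⁻¹ * e⁻¹ = e⁻¹ * (C.k c)⁻¹ := by rw [← mul_inv_rev, ← mul_inv_rev, hck.eq]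
    rw [hc']
    show _ = C.k c * ((v : G)⁻¹ * (e * v * e⁻¹)) * (C.k c)⁻¹
    calc _ = C.k c * (v : G)⁻¹ * (C.k c)⁻¹ * (e * C.k c) * v * ((C.k c)⁻¹ * e⁻¹) := by group
      _ = _ := by rw [hck.eq, e1]; group
  have hinj : Function.Injective (fun b => (⟨π (w b), hwr b⟩ : f.range)) := fun b b' e => by
    obtain ⟨x, hx⟩ := hπ (congrArg Subtype.val e)
    exact (hwi b b' x 0 (by rw [C.z_zero, mul_one]; exact hx.symm)).1
  obtain ⟨b, hb⟩ := ((Nat.bijective_iff_injective_and_card _).2 ⟨hinj, le_antisymm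
    (Nat.card_le_card_of_injective _ hinj) hrange⟩).2 ⟨f (ce v), ce v, rfl⟩
  obtain ⟨x, hx⟩ := hπ (show π (w b) = π (ce y) from (congrArg Subtype.val hb).trans (by simp [f, y]))
  obtain ⟨y0, hy0⟩ := C.sq_eq h h2 hQ2 hna y.2
  have hy00 : y0 ≠ 0 := fun h0 => hy (by rw [← hy0, h0, C.z_zero])
  have hsq : C.z y0 = (e * y * e⁻¹) * (e * y * e⁻¹) := by
    rw [show e * (y : G) * e⁻¹ * (e * y * e⁻¹) = e * ((y : G) * y) * e⁻¹ by group, ← hy0, heZ,
      mul_inv_cancel_right]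
  rw [show e * (y : G) * e⁻¹ = ((ce y : ↥Q) : G) from rfl, hx,
    C.sq_eq_of_coset h h2 hQ2 hna (w b).2 rfl] at hsq
  have hb0 : b ≠ 0 := fun h0 => by
    rw [h0, hw0] at hsq
    exact hy00 (C.z_eq_one.1 (hsq.trans (by simp)))
  obtain ⟨c, hc', hcb⟩ := hw b hb0
  rw [hc', C.sq_conj_k h h2 hQ2 hna hy0] at hsq
  have hc1 : c = 1 := by
    haveI : CharP F 2 := CharTwo.of_one_ne_zero_of_two_eq_zero one_ne_zero (C.z_inj (by
      rw [← one_add_one_eq_two, C.z_add, C.z_sq, C.z_zero]))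
    refine Units.ext (frobenius_inj F 2 ?_)
    have := C.z_inj hsq
    rw [eq_comm, mul_left_eq_self₀] at this
    rw [frobenius_def, frobenius_def, Units.val_one, one_pow, pow_two]
    exact this.resolve_right hy00
  rw [hc', hc1, map_one, one_mul, inv_one, mul_one] at hx
  have hey : e * (y : G) = y * e := C.commute_of_coset h h2 hQ2 hna hed heZ hx
  have hn : Odd (orderOf e) := h.odd_card.of_dvd_nat (Subgroup.orderOf_dvd_natCard _ hed)
  have he' : e * (v : G) * e⁻¹ = v * y := by simp [y, ce, mul_assoc]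
  have h1 := eq_one_of_pow_conj hey he' (orderOf e)
  rw [pow_orderOf_eq_one, one_mul, inv_one, mul_one, left_eq_mul] at h1
  obtain ⟨j, hj⟩ := hQ2 y
  exact hy (by rw [eq_one_of_odd_two hn h1 (congrArg Subtype.val hj), one_mul])

/-- The number of elements of a `d`-invariant part of `Q` outside the centre. -/
theorem card_centralized {d : G} {σ : F ≃+* F} (hdz : ∀ x, d * C.z x * d⁻¹ = C.z (σ x))
    (hdk : ∀ b : Fˣ, d * C.k b * d⁻¹ = C.k (Units.map (σ : F →* F) b)) :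
    Nat.card {u : G // u ∈ Q ∧ d * u = u * d ∧ u * u ≠ 1} =
      Nat.card {u : G // u ∈ Q ∧ d * u = u * d ∧ u * u = C.z 1} * Nat.card {b : F // b ≠ 0 ∧ σ b = b} := by
  classical
  haveI : CharP F 2 := CharTwo.of_one_ne_zero_of_two_eq_zero one_ne_zero (C.z_inj (by
    rw [← one_add_one_eq_two, C.z_add, C.z_sq, C.z_zero]))
  have hkk : ∀ b : Fˣ, σ b = b → d * C.k b = C.k b * d := fun b hb => by
    refine mul_inv_eq_iff_eq_mul.1 ((hdk b).trans (congrArg C.k (Units.ext hb)))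
  have hmem : ∀ (b : Fˣ), σ b = b → ∀ u ∈ Q, d * u = u * d →
      C.k b * u * (C.k b)⁻¹ ∈ Q ∧ d * (C.k b * u * (C.k b)⁻¹) = C.k b * u * (C.k b)⁻¹ * d :=
    fun b hb u hu hc => ⟨h.conj_mem _ (C.k_mem_dd b).1 u hu,
      (((show Commute d (C.k b) from hkk b hb).mul_right hc).mul_right
        (show Commute d (C.k b) from hkk b hb).inv_right).eq⟩
  rw [← Nat.card_prod]
  have hne : ∀ p : {u : G // u ∈ Q ∧ d * u = u * d ∧ u * u = C.z 1} × {b : F // b ≠ 0 ∧ σ b = b},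
      C.k (Units.mk0 p.2.1 p.2.2.1) * p.1.1 * (C.k (Units.mk0 p.2.1 p.2.2.1))⁻¹ *
        (C.k (Units.mk0 p.2.1 p.2.2.1) * p.1.1 * (C.k (Units.mk0 p.2.1 p.2.2.1))⁻¹) ≠ 1 := fun p e => by
    rw [C.sq_conj_k h h2 hQ2 hna p.1.2.2.2.symm, C.z_eq_one, mul_one, Units.val_mk0] at e
    exact p.2.2.1 (mul_self_eq_zero.1 e)
  let Φ : {u : G // u ∈ Q ∧ d * u = u * d ∧ u * u = C.z 1} × {b : F // b ≠ 0 ∧ σ b = b} →
      {u : G // u ∈ Q ∧ d * u = u * d ∧ u * u ≠ 1} := fun p =>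
    ⟨C.k (Units.mk0 p.2.1 p.2.2.1) * p.1.1 * (C.k (Units.mk0 p.2.1 p.2.2.1))⁻¹,
      (hmem _ p.2.2.2 _ p.1.2.1 p.1.2.2.1).1, (hmem _ p.2.2.2 _ p.1.2.1 p.1.2.2.1).2, hne p⟩
  refine (Nat.card_eq_of_bijective Φ ⟨fun p p' e => ?_, fun u => ?_⟩).symm
  · have e1 := congrArg (fun g => g * g) (congrArg Subtype.val e)
    simp only [Φ, C.sq_conj_k h h2 hQ2 hna p.1.2.2.2.symm, C.sq_conj_k h h2 hQ2 hna p'.1.2.2.2.symm,
      mul_one, Units.val_mk0] at e1
    have e2 : p.2 = p'.2 := Subtype.ext (frobenius_inj F 2 (by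
      rw [frobenius_def, frobenius_def, pow_two, pow_two]; exact C.z_inj e1))
    refine Prod.ext (Subtype.ext ?_) e2
    have := congrArg Subtype.val e
    simp only [Φ, e2] at this
    exact mul_left_cancel (mul_right_cancel this)
  · obtain ⟨y, hy⟩ := C.sq_eq h h2 hQ2 hna u.2.1
    have hy0 : y ≠ 0 := fun h0 => u.2.2.2 (by rw [← hy, h0, C.z_zero])
    have hfy : σ y = y := C.z_inj (by
      rw [← hdz, hy, show d * (u.1 * u.1) = u.1 * u.1 * d from
        ((show Commute d u.1 from u.2.2.1).mul_right u.2.2.1).eq, mul_inv_cancel_right])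
    obtain ⟨b, hb⟩ : ∃ b : F, b ^ 2 = y := ⟨_, frobeniusEquiv_symm_pow_p F 2 y⟩
    have hb0 : b ≠ 0 := fun h0 => hy0 (by rw [← hb, h0]; simp)
    have hbf : σ b = b := frobenius_inj F 2 (by
      rw [frobenius_def, frobenius_def, ← map_pow, hb, hfy])
    have hbi : σ ((Units.mk0 b hb0)⁻¹ : Fˣ) = ((Units.mk0 b hb0)⁻¹ : Fˣ) := by
      rw [Units.val_inv_eq_inv_val, map_inv₀, Units.val_mk0, hbf]
    refine ⟨(⟨C.k (Units.mk0 b hb0)⁻¹ * u.1 * (C.k (Units.mk0 b hb0)⁻¹)⁻¹, (hmem _ hbi _ u.2.1 u.2.2.1).1,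
      (hmem _ hbi _ u.2.1 u.2.2.1).2, ?_⟩, ⟨b, hb0, hbf⟩), Subtype.ext ?_⟩
    · rw [C.sq_conj_k h h2 hQ2 hna hy, Units.val_inv_eq_inv_val, Units.val_mk0, ← hb]
      congr 1
      field_simp
    · simp [Φ, mul_assoc]

/-- There are `q(q+1)` square roots of `z 1` in `Q`. -/
theorem card_sqrt_one (hQ3 : Nat.card Q = Nat.card F ^ 3) :
    Nat.card {u : G // u ∈ Q ∧ u * u = C.z 1} = Nat.card F * (Nat.card F + 1) := by
  classical
  have hc := C.card_centralized h h2 hQ2 hna (d := 1) (σ := RingEquiv.refl F) (fun x => by simp)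
    (fun b => by rw [one_mul, inv_one, mul_one]; exact congrArg C.k (Units.ext rfl))
  simp only [one_mul, mul_one, true_and, RingEquiv.refl_apply, and_true] at hc
  have h1 : Nat.card {u : G // u ∈ Q ∧ u * u = 1} = Nat.card F := by
    refine (Nat.card_eq_of_bijective (fun x => ⟨C.z x, C.z_mem_Q h x, C.z_sq x⟩)
      ⟨fun x y e => C.z_inj (congrArg Subtype.val e), fun u => ?_⟩).symm
    obtain ⟨x, hx⟩ := C.z_surj u.1 (h.le u.2.1) u.2.2
    exact ⟨x, Subtype.ext hx⟩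
  have h3 : Nat.card {u : G // u ∈ Q ∧ u * u = 1} + Nat.card {u : G // u ∈ Q ∧ u * u ≠ 1} =
      Nat.card Q := by
    rw [← Nat.card_sum]
    exact Nat.card_congr
      (((Equiv.sumCongr (Equiv.subtypeSubtypeEquivSubtypeInter _ _).symm
        (Equiv.subtypeSubtypeEquivSubtypeInter _ _).symm).trans
        (Equiv.sumCompl (fun u : {u : G // u ∈ Q} => u.1 * u.1 = 1))))
  have hb : Nat.card {b : F // b ≠ 0} = Nat.card F - 1 := by
    rw [← Nat.card_congr unitsEquivNeZero, Nat.card_units]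
  rw [h1, hc, hb, hQ3] at h3
  obtain ⟨m, hm⟩ : ∃ m, Nat.card F = m + 2 := ⟨Nat.card F - 2, by
    have := Finite.one_lt_card_iff_nontrivial.2 (inferInstance : Nontrivial F); omega⟩
  rw [hm] at h3 ⊢
  have h4 : Nat.card {u : G // u ∈ Q ∧ u * u = C.z 1} * (m + 1) =
      (m + 2) * (m + 2 + 1) * (m + 1) := by
    have : (m + 2) ^ 3 = (m + 2) + (m + 2) * (m + 2 + 1) * (m + 1) := by ring
    rw [show m + 2 - 1 = m + 1 by omega] at h3
    omega
  exact Nat.eq_of_mul_eq_mul_right (by omega) h4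

end Coords

end Cfsg.Agent.SuzukiRankOne
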