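import Cfsg.Agent.Lib.SuzukiRankOne.Unitary.Action
import Cfsg.Agent.Lib.SuzukiRankOne.Unitary.Cocycle
import Cfsg.Agent.S1165
/-!
# `|Q| = q³`: the line datum

`LFrame.sdata : SData F (VQ Q)`.  Consequences used for the identification, all expressed by `qr`:
* `LFrame.mul_label` : a product formula for labels;
* `LFrame.qr_form` : `1 / qr` is quadratic along lines;
* `LFrame.cls_add` : the addition of classes.
-/

set_option autoImplicit false

namespace Cfsg.Agent.SuzukiRankOne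

open MulAction Cfsg.Agent.RankOne Cfsg.Agent.RankOne.Setup Unitary
open scoped MatrixGroups

universe u v w

variable {G : Type u} {Ω : Type v} [Group G] [Finite G] [MulAction G Ω] [FaithfulSMul G Ω]
  {a : Ω} {t : G} {Q : Subgroup G} {F : Type w} [Field F] [Finite F] [CharP F 2]

local notation "DD" => (stabilizer G a ⊓ stabilizer G (t • a) : Subgroup G)
local notation "II" => Cfsg.involutionsIn (stabilizer G a : Set G)

namespace LFrame

variable (P : LFrame a t Q F)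

/-- The first row of the inverse label. -/
noncomputable def rp (T R : F × F) : F × F := T + P.qr R • R

/-- The first row of the label of the right hand part of `t * phi T R * t`. -/
noncomputable def tf (T R : F × F) : F × F := R + P.qr (P.rp T R) • P.rp T R

theorem rp_rp (T R : F × F) : P.rp (P.rp T R) R = T := by
  rw [rp, rp, add_assoc, ← add_smul, CharTwo.add_self_eq_zero, zero_smul, add_zero]

variable {T R : F × F} (h : det₂ T R = 1)
include h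

omit [Finite G] [MulAction G Ω] [FaithfulSMul G Ω] [Finite F] in
theorem det_swap : det₂ R T = 1 := by rw [det₂_comm]; exact h

theorem det_rp : det₂ (P.rp T R) R = 1 := LData.det_line h _

theorem det_rp' : det₂ R (P.rp T R) = 1 := det_swap (P.det_rp h)

theorem det_tf : det₂ (P.tf T R) (P.rp T R) = 1 := LData.det_line (P.det_rp' h) _

theorem det_tf' (u : F) : det₂ (P.rp T R) (P.tf T R + u • P.rp T R) = 1 :=
  det_swap (LData.det_line (P.det_tf h) u)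

theorem phi_inv' : (P.phi T R)⁻¹ = P.phi (P.rp T R) R := P.phi_inv h

theorem t_phi_smul : (t * P.phi T R) • (t • a) = P.phi R T • (t • a) := by
  rw [mul_smul, phi, P.elt_smul, phi, P.elt_smul, ← mul_smul,
    show t * P.hom (sl T R) = P.hom (SL2Data.wSL F * sl T R) by rw [map_mul, P.toFrame.hom_wSL],
    eq_sl (T := R) (R := T) (g := SL2Data.wSL F * sl T R) (by rw [top_w, bot_sl h]) (by rw [bot_w, top_sl h])]

omit h in
theorem phi_ne_one : P.phi T R ≠ 1 := fun e => P.elt_sq_ne (sl T R) (by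
  rw [show P.elt (sl T R) = 1 from e, one_mul])

theorem exists_parts_left : ∃ d ∈ DD, ∃ f ∈ Q, t * P.phi T R * t = P.phi R T * d * t * f := by
  have hsm : (t * P.phi T R * t) • a = P.phi R T • (t • a) := by rw [mul_smul, P.t_phi_smul h]
  have hn : t * P.phi T R * t ∉ stabilizer G a := fun e =>
    smul_ne_self P.setup (P.phi_mem R T) (t_smul_ne P.setup) (hsm.symm.trans e)
  obtain ⟨⟨g1, f⟩, ⟨hg1, hf, e⟩, -⟩ := existsUnique_canonical P.setup hn
  obtain ⟨x, hx, d, hd, rfl⟩ := exists_decomp P.setup hg1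
  refine ⟨d, hd, f, hf, ?_⟩
  have hxe : x = P.phi R T := P.eq_elt hx (by
    rw [← P.elt_smul, ← phi, ← hsm, e]
    show _ = (x * d * t * f) • a
    rw [mul_smul, mul_smul, mul_smul, show f • a = a from P.setup.le hf,
      show d • (t • a) = t • a from hd.2])
  rw [← hxe]; exact e

theorem exists_parts :
    ∃ d ∈ DD, t * P.phi T R * t = P.phi R T * d * t * P.phi (P.tf T R) (P.rp T R) := by
  obtain ⟨d, hd, f, hf, e⟩ := P.exists_parts_left h
  obtain ⟨d', hd', f', hf', e'⟩ := P.exists_parts_left (P.det_rp h)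
  refine ⟨d, hd, ?_⟩
  have hx : (P.phi (P.rp T R) R)⁻¹ = P.phi T R := by rw [← P.phi_inv' h, inv_inv]
  obtain ⟨e1, -⟩ := (S1165.result P.setup _ _ _ _ (P.phi_mem _ _) P.phi_ne_one (P.phi_mem _ _) hd' hf' e').1
    _ d f (P.phi_mem R T) hd hf (by rw [hx]; exact e)
  rw [e, e1, P.phi_inv' (P.det_rp' h)]
  rfl

omit h in
open Classical in
/-- The middle part of `t * phi T R * t`. -/
noncomputable def hp (T R : F × F) : G :=
  if h : det₂ T R = 1 then Classical.choose (P.exists_parts h) else 1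

theorem hp_mem : P.hp T R ∈ DD := by
  rw [hp, dif_pos h]; exact (Classical.choose_spec (P.exists_parts h)).1

theorem hp_eq : t * P.phi T R * t = P.phi R T * P.hp T R * t * P.phi (P.tf T R) (P.rp T R) := by
  rw [hp, dif_pos h]; exact (Classical.choose_spec (P.exists_parts h)).2

theorem hp_unique {g d f : G} (hg : g ∈ Q) (hd : d ∈ DD) (hf : f ∈ Q)
    (e : t * P.phi T R * t = g * d * t * f) :
    g = P.phi R T ∧ d = P.hp T R ∧ f = P.phi (P.tf T R) (P.rp T R) :=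
  parts_unique P.setup hg (P.phi_mem _ _) hd (P.hp_mem h) hf (P.phi_mem _ _) (e.symm.trans (P.hp_eq h))

theorem hp_rp : P.hp (P.rp T R) R = t * (P.hp T R)⁻¹ * t := by
  have hx : (P.phi T R)⁻¹ = P.phi (P.rp T R) R := P.phi_inv' h
  exact ((S1165.result P.setup _ _ _ _ (P.phi_mem _ _) P.phi_ne_one (P.phi_mem _ _) (P.hp_mem h)
    (P.phi_mem _ _) (P.hp_eq h)).1 _ _ _ (P.phi_mem _ _) (P.hp_mem (P.det_rp h)) (P.phi_mem _ _)
    (by rw [hx]; exact P.hp_eq (P.det_rp h))).2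

theorem hp_f : P.hp (P.tf T R) (P.rp T R) = (P.hp T R)⁻¹ :=
  ((S1165.result P.setup _ _ _ _ (P.phi_mem _ _) P.phi_ne_one (P.phi_mem _ _) (P.hp_mem h)
    (P.phi_mem _ _) (P.hp_eq h)).2.1 _ _ _ (P.phi_mem _ _) (P.hp_mem (P.det_tf h)) (P.phi_mem _ _)
    (P.hp_eq (P.det_tf h))).2

theorem hp_swap : P.hp R T = (P.hp T R)⁻¹ := by
  have e1 := P.hp_f (P.det_rp h)
  have e2 := P.hp_rp (P.det_tf (P.det_rp h))
  rw [e1, P.hp_rp h] at e2
  have hT : P.rp (P.rp T R) R = T := P.rp_rp T R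
  rw [tf, hT, rp, add_assoc, ← add_smul, CharTwo.add_self_eq_zero, zero_smul, add_zero] at e2
  rw [e2]
  have htt : ∀ x : G, t * (t * x) = x := fun x => by rw [← mul_assoc, P.setup.mul_self, one_mul]
  simp [mul_assoc, t_inv P.setup, htt, P.setup.mul_self]

theorem hp_scale {c : F} (hc : c ≠ 0) :
    P.sig (P.hp (c⁻¹ • T) (c • R)) = P.sig (P.hp T R) := by
  obtain ⟨b, hb⟩ : ∃ b : Fˣ, b = (Units.mk0 c hc)⁻¹ := ⟨_, rfl⟩
  have hb1 : (b : F) = c⁻¹ := by rw [hb, Units.val_inv_eq_inv_val, Units.val_mk0]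
  have hb2 : ((b⁻¹ : Fˣ) : F) = c := by rw [hb, inv_inv, Units.val_mk0]
  have hk := P.co.k_mem_dd b
  have h' : det₂ (c⁻¹ • T) (c • R) = 1 := by
    rw [det₂_smul_left, det₂_smul_right, h, mul_one, inv_mul_cancel₀ hc]
  have e := P.k_phi h b
  rw [hb1, hb2] at e
  have e2 : t * P.phi (c⁻¹ • T) (c • R) * t = ((P.co.k b)⁻¹ * P.phi R T * P.co.k b) *
      ((P.co.k b)⁻¹ * P.hp T R * (P.co.k b)⁻¹) * t *
      ((P.co.k b)⁻¹ * P.phi (P.tf T R) (P.rp T R) * P.co.k b) := by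
    have k1 : t * P.co.k b = (P.co.k b)⁻¹ * t := by
      rw [← map_inv, P.co.k_t P.setup, inv_inv]
    have k2 : (P.co.k b)⁻¹ * t = t * P.co.k b := k1.symm
    rw [← e]
    calc t * (P.co.k b * P.phi T R * (P.co.k b)⁻¹) * t
        = (t * P.co.k b) * P.phi T R * ((P.co.k b)⁻¹ * t) := by group
      _ = ((P.co.k b)⁻¹ * t) * P.phi T R * (t * P.co.k b) :=
          congrArg₂ (fun x y => x * P.phi T R * y) k1 k2
      _ = (P.co.k b)⁻¹ * (t * P.phi T R * t) * P.co.k b := by group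
      _ = _ := by
        rw [P.hp_eq h]
        calc (P.co.k b)⁻¹ * (P.phi R T * P.hp T R * t * P.phi (P.tf T R) (P.rp T R)) * P.co.k b
            = (P.co.k b)⁻¹ * P.phi R T * P.hp T R * (t * P.co.k b) *
              ((P.co.k b)⁻¹ * P.phi (P.tf T R) (P.rp T R) * P.co.k b) := by group
          _ = _ := by rw [k1]; group
  obtain ⟨-, e3, -⟩ := P.hp_unique h' (conj_mem_inv P.setup hk.1 (P.phi_mem _ _))
    (mul_mem (mul_mem (inv_mem hk) (P.hp_mem h)) (inv_mem hk)) (conj_mem_inv P.setup hk.1 (P.phi_mem _ _)) e2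
  rw [← e3, P.sig_mul (mul_mem (inv_mem hk) (P.hp_mem h)) (inv_mem hk), P.sig_mul (inv_mem hk) (P.hp_mem h),
    P.sig_inv hk, (P.sig_k b).1, inv_one, one_mul, mul_one]

/-- The image under `hp T R` of the label `(rp, tf)`. -/
theorem hp_line : P.mul (P.hp T R) • P.Lmap (P.hp T R) (P.rp T R) = R + P.qr T • T ∧
    P.Lmap (P.hp T R) (P.tf T R) = T := by
  have hd := P.hp_mem h
  have htt : ∀ x : G, t * (t * x) = x := fun x => by rw [← mul_assoc, P.setup.mul_self, one_mul]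
  have e : t * P.phi (P.tf T R) (P.rp T R) * t =
      ((P.hp T R)⁻¹ * (P.phi R T)⁻¹ * P.hp T R) * (P.hp T R)⁻¹ * t * P.phi T R := by
    have := P.hp_eq h
    have e2 : P.phi (P.tf T R) (P.rp T R) = t * (P.hp T R)⁻¹ * (P.phi R T)⁻¹ * (t * P.phi T R * t) := by
      rw [this]; simp [mul_assoc, htt]
    rw [e2]; simp [mul_assoc, htt, P.setup.mul_self]
  obtain ⟨e1, -, -⟩ := P.hp_unique (P.det_tf h)
    (conj_mem_inv P.setup hd.1 (inv_mem (P.phi_mem R T))) (inv_mem hd) (P.phi_mem T R) e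
  obtain ⟨e3, h3⟩ := P.conj_phi hd (det_swap (P.det_tf h))
  rw [← e1, show P.hp T R * ((P.hp T R)⁻¹ * (P.phi R T)⁻¹ * P.hp T R) * (P.hp T R)⁻¹ = (P.phi R T)⁻¹ by group,
    P.phi_inv (det_swap h)] at e3
  obtain ⟨f1, f2⟩ := P.phi_inj (LData.det_line (det_swap h) _) h3 e3
  exact ⟨f1.symm, f2.symm⟩

/-- The parts of `t * (phi T R * z ζ) * t`. -/
theorem line_parts {ζ : F} (hζ : ζ ≠ 0) :
    P.phi R T * P.phi (P.mul (P.hp T R) • P.Lmap (P.hp T R) (P.rp T R))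
        (P.Lmap (P.hp T R) (P.tf T R + ζ⁻¹ • P.rp T R)) = P.phi R (T + ζ • R) ∧
      P.hp (T + ζ • R) R =
        P.hp T R * P.hp (P.tf T R + ζ⁻¹ • P.rp T R) (P.rp T R) * P.co.k (Units.mk0 ζ hζ)⁻¹ := by
  obtain ⟨u, hu⟩ : ∃ u : Fˣ, u = (Units.mk0 ζ hζ)⁻¹ := ⟨_, rfl⟩
  have huv : (u : F) = ζ⁻¹ := by rw [hu, Units.val_inv_eq_inv_val, Units.val_mk0]
  rw [← hu]
  have htt : ∀ x : G, t * (t * x) = x := fun x => by rw [← mul_assoc, P.setup.mul_self, one_mul]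
  -- the parts of `t z t`
  have hz : t * P.co.z ζ * t = P.co.z ζ⁻¹ * P.co.k u * t * P.co.z ζ⁻¹ := by
    have e := (P.toFrame.weyl u).1
    rw [huv, inv_inv] at e
    calc t * P.co.z ζ * t
        = P.co.z ζ⁻¹ * (P.co.z ζ⁻¹ * (t * P.co.z ζ * t) * P.co.z ζ⁻¹) * P.co.z ζ⁻¹ := by
          simp [← mul_assoc, P.co.z_sq]
          simp [mul_assoc, P.co.z_sq]
      _ = _ := by rw [e]; group
  have hd := P.hp_mem h
  have hw := LData.det_line (P.det_tf h) ζ⁻¹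
  have hdw := P.hp_mem hw
  have hk := P.co.k_mem_dd u
  have hk' := t_conj_mem P.setup hk
  have ew := P.hp_eq hw
  obtain ⟨W, hW⟩ : ∃ W, W = P.phi (P.tf T R + ζ⁻¹ • P.rp T R) (P.rp T R) := ⟨_, rfl⟩
  obtain ⟨gw, hgw⟩ : ∃ gw, gw = P.phi (P.rp T R) (P.tf T R + ζ⁻¹ • P.rp T R) := ⟨_, rfl⟩
  obtain ⟨fw, hfwQ, hfw⟩ : ∃ fw ∈ Q, t * W * t = gw * P.hp (P.tf T R + ζ⁻¹ • P.rp T R) (P.rp T R) * t * fw :=
    ⟨_, P.phi_mem _ _, by rw [hW, hgw]; exact ew⟩
  have e : t * P.phi (T + ζ • R) R * t = (P.phi R T * (P.hp T R * gw * (P.hp T R)⁻¹)) *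
      (P.hp T R * P.hp (P.tf T R + ζ⁻¹ • P.rp T R) (P.rp T R) * P.co.k u) * t *
      ((t * P.co.k u * t)⁻¹ * fw * (t * P.co.k u * t) * P.co.z ζ⁻¹) := by
    rw [← P.phi_mul_z h]
    have hW' : W = t * gw * P.hp (P.tf T R + ζ⁻¹ • P.rp T R) (P.rp T R) * t * fw * t := by
      have : t * W * t * t = _ := congrArg (· * t) hfw
      rw [mul_assoc (t * W), P.setup.mul_self, mul_one] at this
      calc W = t * (t * W) := (htt W).symm
        _ = _ := by rw [this]; group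
    calc t * (P.phi T R * P.co.z ζ) * t = (t * P.phi T R * t) * (t * P.co.z ζ * t) := by
          simp [mul_assoc, htt]
      _ = P.phi R T * P.hp T R * t * (P.phi (P.tf T R) (P.rp T R) * P.co.z ζ⁻¹) * P.co.k u * t *
          P.co.z ζ⁻¹ := by rw [P.hp_eq h, hz]; group
      _ = P.phi R T * P.hp T R * t * W * P.co.k u * t * P.co.z ζ⁻¹ := by
          rw [P.phi_mul_z (P.det_tf h), hW]
      _ = _ := by
          rw [hW']
          simp [mul_assoc, htt, t_inv P.setup]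
  obtain ⟨e1, e2, -⟩ := P.hp_unique (LData.det_line h ζ)
    (mul_mem (P.phi_mem _ _) (P.setup.conj_mem _ hd.1 _ (hgw ▸ P.phi_mem _ _)))
    (mul_mem (mul_mem hd hdw) hk)
    (mul_mem (conj_mem_inv P.setup hk'.1 hfwQ) (P.co.z_mem_Q P.setup _)) e
  refine ⟨?_, e2.symm⟩
  rw [← e1, hgw, (P.conj_phi hd (P.det_tf' h ζ⁻¹)).1]

omit h in
include P in
theorem four_le : ∃ c z : F, c ≠ 0 ∧ z ≠ 0 ∧ c ≠ z := by
  by_contra hcon
  push Not at hcon
  have h1 : Nat.card II ≤ 1 := Finite.card_le_one_iff_subsingleton.2 ⟨fun v w => Subtype.ext (by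
    obtain ⟨x, hx⟩ := P.co.z_surj v.1 v.2.1 v.2.2.2
    obtain ⟨y, hy⟩ := P.co.z_surj w.1 w.2.1 w.2.2.2
    rw [← hx, ← hy, hcon x y (fun e => v.2.2.1 (by rw [← hx, e, P.co.z_zero]))
      (fun e => w.2.2.1 (by rw [← hy, e, P.co.z_zero]))])⟩
  obtain ⟨n, hn, hn', -⟩ := exists_coords P.setup P.two
  have : 4 ≤ 2 ^ n := Nat.pow_le_pow_right (by norm_num : 1 ≤ 2) hn
  rw [param] at hn'
  omega

omit h in
theorem cls_conj_add {d : G} (hd : d ∈ DD) {r₁ r₂ r₃ : F × F} (h1 : r₁ ≠ 0) (h2 : r₂ ≠ 0) (h3 : r₃ ≠ 0)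
    (e : P.cls r₁ + P.cls r₂ = P.cls r₃) :
    P.cls (P.Lmap d r₁) + P.cls (P.Lmap d r₂) = P.cls (P.Lmap d r₃) := by
  rw [P.cls_conj hd h1, P.cls_conj hd h2, P.cls_conj hd h3, ← cl_mul]
  rw [P.cls_eq (det_compl h1), P.cls_eq (det_compl h2), P.cls_eq (det_compl h3), ← cl_mul] at e
  obtain ⟨x, hx⟩ := P.center_sq (cl_eq e)
  have e' : (⟨d * P.phi (compl r₃) r₃ * d⁻¹, P.setup.conj_mem d hd.1 _ (P.phi_mem _ _)⟩ : ↥Q) =
      ⟨d * P.phi (compl r₁) r₁ * d⁻¹, P.setup.conj_mem d hd.1 _ (P.phi_mem _ _)⟩ *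
      ⟨d * P.phi (compl r₂) r₂ * d⁻¹, P.setup.conj_mem d hd.1 _ (P.phi_mem _ _)⟩ *
      ⟨P.co.z (P.mul d * P.sig d x), P.co.z_mem_Q P.setup _⟩ := by
    apply Subtype.ext
    simp only [Subgroup.coe_mul, ← P.conj_z hd, hx, InvMemClass.coe_inv]
    group
  rw [e', cl_mul _ (⟨P.co.z _, P.co.z_mem_Q P.setup _⟩ : ↥Q), P.cl_z, add_zero]

omit h in
/-- The datum. -/
noncomputable def sdata : SData F (VQ Q) where
  P := P.cls
  two_V := P.cl_two
  inj r s hr hs e := P.cls_inj hr hs e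
  qr := P.qr
  qr_ne r hr := P.qr_ne hr
  qr_smul c r hc hr := P.qr_smul hc hr
  L T R := P.Lmap (P.hp T R)
  m T R := (P.mul (P.hp T R))⁻¹
  σ T R := P.sig (P.hp T R)
  m_ne T R _ := inv_ne_zero (P.mul_ne _)
  L_smul T R _ c x := P.Lmap_smul _ c x
  hsum T R h z hz := by
    obtain ⟨e, -⟩ := P.line_parts h hz
    have hd := P.hp_mem h
    obtain ⟨-, hw⟩ := P.conj_phi hd (P.det_tf' h z⁻¹)
    have h' : det₂ R (T + z • R) = 1 := det_swap (LData.det_line h z)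
    rw [P.cls_eq h', P.cls_eq (det_swap h),
      show P.cls (P.Lmap (P.hp T R) (R + P.qr (T + P.qr R • R) • (T + P.qr R • R) + z⁻¹ • (T + P.qr R • R))) =
        cl (⟨_, P.phi_mem (P.mul (P.hp T R) • P.Lmap (P.hp T R) (P.rp T R))
          (P.Lmap (P.hp T R) (P.tf T R + z⁻¹ • P.rp T R))⟩ : ↥Q) from P.cls_eq hw,
      show (⟨P.phi R (T + z • R), P.phi_mem _ _⟩ : ↥Q) = ⟨P.phi R T, P.phi_mem _ _⟩ *
        ⟨_, P.phi_mem (P.mul (P.hp T R) • P.Lmap (P.hp T R) (P.rp T R))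
          (P.Lmap (P.hp T R) (P.tf T R + z⁻¹ • P.rp T R))⟩ from Subtype.ext e.symm,
      cl_mul, add_comm (cl _) (cl _), add_assoc, P.cl_two, add_zero]
  hLtf T R h := (P.hp_line h).2
  hdet T R _ x y := P.det_Lmap _ x y
  hqr T R h x hx := by
    rw [P.qr_Lmap (P.hp_mem h) hx, mul_comm, inv_mul_cancel_left₀ (P.mul_ne _)]
  hadd T R h r₁ r₂ r₃ h1 h2 h3 e := P.cls_conj_add (P.hp_mem h) h1 h2 h3 e
  hσ_rp T R h := by
    show P.sig (P.hp (P.rp T R) R) = _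
    rw [P.hp_rp h, (P.sig_t (inv_mem (P.hp_mem h))).1, P.sig_inv (P.hp_mem h)]
  hm_rp T R h := by
    show (P.mul (P.hp (P.rp T R) R))⁻¹ = _
    rw [P.hp_rp h, (P.sig_t (inv_mem (P.hp_mem h))).2, P.mul_inv (P.hp_mem h), inv_inv]
  hσ_swap T R h := by rw [P.hp_swap h, P.sig_inv (P.hp_mem h)]
  hσ_scale T R h c hc := P.hp_scale h hc
  hσ_coc T R h z hz := by
    show P.sig (P.hp (T + z • R) R) =
      P.sig (P.hp T R) * P.sig (P.hp (P.tf T R + z⁻¹ • P.rp T R) (P.rp T R))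
    rw [(P.line_parts h hz).2,
      P.sig_mul (mul_mem (P.hp_mem h) (P.hp_mem (LData.det_line (P.det_tf h) _))) (P.co.k_mem_dd _),
      P.sig_mul (P.hp_mem h) (P.hp_mem (LData.det_line (P.det_tf h) _)), (P.sig_k _).1, mul_one]
  hσ_odd T R h := P.sig_odd (P.hp_mem h)

end LFrame

end Cfsg.Agent.SuzukiRankOne
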