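import Cfsg.Agent.Lib.SuzukiRankOne.Unitary.Counting
import Cfsg.Agent.S1121
/-!
# `|Q| = q³`: an element `d ∈ C_D(t)` of prime order `p`

* `DData` : `d` with its field automorphism `σ`; `card_mod` : the number `N` of `d`-fixed square roots
  of `z 1` is congruent to `q₁(q₁+1)` mod `p`, and `|C_Q(d)| = q₁ + N(q₁-1)`;
* `DData.r_sq_of_fixed_two` : `r² = 1` if the fixed field has two elements.
-/

set_option autoImplicit false

namespace Cfsg.Agent.SuzukiRankOne

open MulAction Cfsg.Agent.RankOne.Setup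

universe u v w

variable {G : Type u} {Ω : Type v} [Group G] [Finite G] [MulAction G Ω] [FaithfulSMul G Ω]
  {a : Ω} {t : G} {Q : Subgroup G} {F : Type w} [Field F] [Finite F]

local notation "DD" => (stabilizer G a ⊓ stabilizer G (t • a) : Subgroup G)
local notation "II" => Cfsg.involutionsIn (stabilizer G a : Set G)
local notation "KK" => Cfsg.invertedBy (stabilizer G a ⊓ stabilizer G (t • a)) t

/-- A permutation of `p`-power order. -/
theorem card_fixed_modEq {X : Type*} [Finite X] (f : X → X) {p : ℕ} (hp : p.Prime)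
    (hf : f^[p] = id) : Nat.card X ≡ Nat.card {x // f x = x} [MOD p] := by
  classical
  haveI := Fact.mk hp
  letI := Fintype.ofFinite X
  let g : Function.End X := f
  have h1 : g ^ p ^ 1 = 1 := by
    rw [pow_one]
    exact (hom_coe_pow (fun g : Function.End X => g) rfl (fun g h => rfl) g p).trans hf
  have := Equiv.Perm.card_fixedPoints_modEq h1
  rw [← Nat.card_eq_fintype_card, ← Nat.card_eq_fintype_card] at this
  exact this

/-- `d ∈ C_D(t)` of prime order, with its field automorphism. -/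
structure DData (C : Coords a t Q F) (d : G) (σ : F ≃+* F) (p : ℕ) : Prop where
  prime : p.Prime
  pow : d ^ p = 1
  ne_one : d ≠ 1
  mem : d ∈ DD
  comm_t : t * d = d * t
  conj_z : ∀ x, d * C.z x * d⁻¹ = C.z (σ x)
  conj_k : ∀ b : Fˣ, d * C.k b * d⁻¹ = C.k (Units.map (σ : F →* F) b)

/-- The number of fixed square roots of `z 1`. -/
noncomputable def fixRoots (C : Coords a t Q F) (d : G) : ℕ :=
  Nat.card {u : G // u ∈ Q ∧ d * u = u * d ∧ u * u = C.z 1}

/-- The order of the fixed field. -/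
noncomputable def fixOrder (σ : F ≃+* F) : ℕ := Nat.card {x : F // σ x = x}

variable (C : Coords a t Q F)

/-- An element of prime order in `C_D(t)`. -/
theorem exists_dData (h : Cfsg.IsRankOneSetup G Ω a t Q) (h2 : TwoInvolutions G) [CharP F 2]
    {r : G} (hr : r ∈ Q) (he : t * C.z 1 * t = r⁻¹ * t * r) {d₀ : G} (hd : d₀ ∈ DD) (hdt : t * d₀ = d₀ * t)
    (hd1 : d₀ ≠ 1) : ∃ d σ p, DData C d σ p := by
  have ho : orderOf d₀ ≠ 1 := fun e => hd1 (orderOf_eq_one_iff.1 e)
  have hp := Nat.minFac_prime ho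
  set d := d₀ ^ (orderOf d₀ / (orderOf d₀).minFac)
  have hord : orderOf d = (orderOf d₀).minFac :=
    orderOf_pow_orderOf_div (orderOf_pos d₀).ne' (Nat.minFac_dvd _)
  have hdD : d ∈ DD := pow_mem hd _
  have hdt' : t * d = d * t := ((show Commute t d₀ from hdt).pow_right _).eq
  obtain ⟨c, σ, hz, hk⟩ := C.exists_semilinear h h2 hdD
  have hs : C.z 1 * d = d * C.z 1 := (commute_iff h (C.z_mem_ii one_ne_zero) hr he hdD).1 hdt'
  have hc : (c : F) = 1 := C.z_inj (by
    have := hz 1
    rw [map_one, mul_one] at this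
    rw [← this, ← hs, mul_inv_cancel_right])
  exact ⟨d, σ, _, hp, by rw [← hord, pow_orderOf_eq_one], fun e => hp.ne_one (by rw [← hord, e, orderOf_one]),
    hdD, hdt', fun x => by rw [hz, hc, one_mul], hk⟩

namespace DData

variable {C} {d : G} {σ : F ≃+* F} {p : ℕ} (P : DData C d σ p)
variable (h : Cfsg.IsRankOneSetup G Ω a t Q) (h2 : TwoInvolutions G) (hQ2 : IsPGroup 2 Q)
  (hna : ¬ IsMulCommutative Q)
include P h h2 hQ2 hna

theorem p_odd : Odd p := by
  have : orderOf d = p := by haveI := Fact.mk P.prime; exact orderOf_eq_prime P.pow P.ne_one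
  exact this ▸ h.odd_card.of_dvd_nat (Subgroup.orderOf_dvd_natCard _ P.mem)

theorem comm_z {x : F} (hx : σ x = x) : d * C.z x = C.z x * d :=
  mul_inv_eq_iff_eq_mul.1 ((P.conj_z x).trans (by rw [hx]))

theorem fixed_of_comm {x : F} (hx : d * C.z x = C.z x * d) : σ x = x :=
  C.z_inj (by rw [← P.conj_z, hx, mul_inv_cancel_right])

theorem iterate (n : ℕ) (x : F) : d ^ n * C.z x * (d ^ n)⁻¹ = C.z (σ^[n] x) := by
  induction n with
  | zero => simp
  | succ n ih =>
    rw [Function.iterate_succ_apply', ← P.conj_z, ← ih, pow_succ']; group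

theorem card_mod (hQ3 : Nat.card Q = Nat.card F ^ 3) :
    fixRoots C d ≡ fixOrder σ * (fixOrder σ + 1) [MOD p] := by
  have hfld : Nat.card F ≡ fixOrder σ [MOD p] := card_fixed_modEq (σ : F → F) P.prime (funext fun x =>
    C.z_inj (by rw [← P.iterate h h2 hQ2 hna, P.pow]; simp))
  let f : {u : G // u ∈ Q ∧ u * u = C.z 1} → {u : G // u ∈ Q ∧ u * u = C.z 1} := fun u =>
    ⟨d * u.1 * d⁻¹, h.conj_mem d P.mem.1 _ u.2.1, by
      rw [show d * u.1 * d⁻¹ * (d * u.1 * d⁻¹) = d * (u.1 * u.1) * d⁻¹ by group, u.2.2, P.conj_z, map_one]⟩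
  have hit : ∀ (n : ℕ) u, (f^[n] u).1 = d ^ n * u.1 * (d ^ n)⁻¹ := fun n u => by
    induction n with
    | zero => simp
    | succ n ih =>
      rw [Function.iterate_succ_apply', pow_succ']
      show d * (f^[n] u).1 * d⁻¹ = _
      rw [ih]; group
  have hsq := card_fixed_modEq f P.prime (funext fun u => Subtype.ext (by rw [hit, P.pow]; simp))
  rw [C.card_sqrt_one h h2 hQ2 hna hQ3] at hsq
  have e : Nat.card {u // f u = u} = fixRoots C d :=
    Nat.card_congr
      { toFun := fun u => ⟨u.1.1, u.1.2.1, mul_inv_eq_iff_eq_mul.1 (congrArg Subtype.val u.2), u.1.2.2⟩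
        invFun := fun u => ⟨⟨u.1, u.2.1, u.2.2.2⟩, Subtype.ext (by
          show d * u.1 * d⁻¹ = u.1
          rw [u.2.2.1, mul_inv_cancel_right])⟩
        left_inv := fun u => rfl
        right_inv := fun u => rfl }
  rw [e] at hsq
  exact hsq.symm.trans (hfld.mul (hfld.add_right 1))

/-- `|C_Q(d)|`. -/
theorem card_centralizer :
    Nat.card {u : G // u ∈ Q ∧ d * u = u * d} = fixOrder σ + fixRoots C d * (fixOrder σ - 1) := by
  classical
  have h1 : Nat.card {u : G // u ∈ Q ∧ d * u = u * d ∧ u * u = 1} = fixOrder σ := by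
    refine (Nat.card_eq_of_bijective (fun x => ⟨C.z x.1, C.z_mem_Q h _, P.comm_z h h2 hQ2 hna x.2,
      C.z_sq _⟩) ⟨fun x y e => Subtype.ext (C.z_inj (congrArg Subtype.val e)), fun u => ?_⟩).symm
    obtain ⟨x, hx⟩ := C.z_surj u.1 (h.le u.2.1) u.2.2.2
    exact ⟨⟨x, P.fixed_of_comm h h2 hQ2 hna (by rw [hx]; exact u.2.2.1)⟩, Subtype.ext hx⟩
  have h2' : Nat.card {b : F // b ≠ 0 ∧ σ b = b} = fixOrder σ - 1 := by
    have : Nat.card {b : F // b ≠ 0 ∧ σ b = b} + 1 = fixOrder σ := by
      rw [← Finite.card_option]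
      exact Nat.card_congr ((Equiv.optionCongr
        ({ toFun := fun b => ⟨⟨b.1, b.2.2⟩, fun e => b.2.1 (congrArg Subtype.val e)⟩
           invFun := fun b => ⟨b.1.1, fun e => b.2 (Subtype.ext e), b.1.2⟩
           left_inv := fun _ => rfl
           right_inv := fun _ => rfl } : {b : F // b ≠ 0 ∧ σ b = b} ≃
          {b : {x : F // σ x = x} // b ≠ ⟨0, map_zero σ⟩})).trans (Equiv.optionSubtypeNe _))
    omega
  have hc := C.card_centralized h h2 hQ2 hna P.conj_z P.conj_k
  rw [h2'] at hc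
  rw [show fixOrder σ + fixRoots C d * (fixOrder σ - 1) =
      Nat.card {u : G // u ∈ Q ∧ d * u = u * d ∧ u * u = 1} +
        Nat.card {u : G // u ∈ Q ∧ d * u = u * d ∧ u * u ≠ 1} by rw [h1, hc]; rfl, ← Nat.card_sum]
  exact Nat.card_congr
    { toFun := fun u => if hu : u.1 * u.1 = 1 then Sum.inl ⟨u.1, u.2.1, u.2.2, hu⟩
        else Sum.inr ⟨u.1, u.2.1, u.2.2, hu⟩
      invFun := fun u => u.elim (fun u => ⟨u.1, u.2.1, u.2.2.1⟩) (fun u => ⟨u.1, u.2.1, u.2.2.1⟩)
      left_inv := fun u => by by_cases hu : u.1 * u.1 = 1 <;> simp [hu]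
      right_inv := fun u => by rcases u with u | u <;> simp [u.2.2.2] }

theorem fix_smul {g : G} (hg : d * g = g * d) {x : Ω} (hx : d • x = x) : d • (g • x) = g • x := by
  rw [← mul_smul, hg, mul_smul, hx]

/-- The case of a fixed field with two elements. -/
theorem r_sq_of_fixed_two [CharP F 2] (hQ3 : Nat.card Q = Nat.card F ^ 3) {r : G} (hr : r ∈ Q)
    (he : t * C.z 1 * t = r⁻¹ * t * r) (hq1 : fixOrder σ = 2) : r * r = 1 := by
  classical
  by_contra hr2
  have hfix : ∀ x, σ x = x → x = 0 ∨ x = 1 := fun x hx => by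
    by_contra hcon
    rw [not_or] at hcon
    have : 3 ≤ fixOrder σ := by
      letI := Fintype.ofFinite F
      rw [fixOrder, Nat.card_eq_fintype_card, Fintype.card_subtype]
      refine le_trans ?_ (Finset.card_le_card (s := {0, 1, x}) ?_)
      · rw [Finset.card_eq_three.2 ⟨0, 1, x, zero_ne_one, Ne.symm hcon.1, Ne.symm hcon.2, rfl⟩]
      · intro y
        simp only [Finset.mem_insert, Finset.mem_singleton, Finset.mem_filter, Finset.mem_univ, true_and]
        rintro (rfl | rfl | rfl) <;> simp [hx]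
    omega
  obtain ⟨s, hs⟩ : ∃ s, s = C.z (1 : F) := ⟨_, rfl⟩
  have hs2 : s * s = 1 := hs ▸ C.z_sq 1
  have hs1 : s ≠ 1 := fun e => one_ne_zero (C.z_eq_one.1 (hs ▸ e))
  have hsa : s • a = a := hs ▸ C.z_smul_a 1
  have hds : d * s = s * d := hs ▸ P.comm_z h h2 hQ2 hna (map_one σ)
  have hst : s ≠ t := hs ▸ C.z_ne_t h
  have hda : d • a = a := P.mem.1
  have hdta : d • (t • a) = t • a := P.mem.2
  -- involutions centralising `d`
  have huniq_a : ∀ u : G, u ≠ 1 → u * u = 1 → d * u = u * d → u • a = a → u = s := by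
    intro u hu1 hu2 hdu hua
    obtain ⟨x, rfl⟩ := C.z_surj u hua hu2
    rcases hfix x (P.fixed_of_comm h h2 hQ2 hna hdu) with rfl | rfl
    · exact absurd C.z_zero hu1
    · exact hs.symm
  have huniq_t : ∀ u : G, u * u = 1 → d * u = u * d → u • a = t • a → u = t := by
    intro u hu2 hdu hua
    obtain ⟨b, hb⟩ := C.k_surj _ (swap_mem_kk h hu2 hua)
    have hbf : σ (b : F) = (b : F) := by
      refine congrArg Units.val (C.k_inj ?_ : Units.map (σ : F →* F) b = b)
      rw [← P.conj_k, hb, ← mul_assoc, hdu, mul_assoc u, ← P.comm_t, ← mul_assoc, mul_inv_cancel_right]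
    rcases hfix _ hbf with h0 | h0
    · exact absurd h0 b.ne_zero
    · rw [show b = 1 from Units.ext h0, map_one] at hb
      exact (eq_inv_of_mul_eq_one_left hb.symm).trans (t_inv h)
  have h3 : ∃ b c e : Ω, b ≠ c ∧ b ≠ e ∧ c ≠ e ∧ ∀ x ∈ ({d} : Set G), x • b = b ∧ x • c = c ∧ x • e = e :=
    three_points_of_commute h fun x hx => by rw [Set.mem_singleton_iff.1 hx]; exact ⟨P.mem, P.comm_t⟩
  have htrans : ∀ {b c : Ω}, d • b = b → d • c = c → b ≠ c → ∀ {b' c' : Ω}, d • b' = b' → d • c' = c' →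
      b' ≠ c' → ∃ g : G, d * g = g * d ∧ g • b = b' ∧ g • c = c' := by
    intro b c hb hc hbc b' c' hb' hc' hbc'
    obtain ⟨g, hg, e1, e2⟩ := centralizer_two_transitive h h3 (b₁ := b) (b₂ := c) (c₁ := b') (c₂ := c')
      (fun x hx => by rw [Set.mem_singleton_iff.1 hx]; exact ⟨hb, hc, hb', hc'⟩) hbc hbc'
    exact ⟨g, Subgroup.mem_centralizer_iff.1 hg d rfl, e1, e2⟩
  have hconj : ∀ {g u : G}, d * g = g * d → d * u = u * d → d * (g * u * g⁻¹) = g * u * g⁻¹ * d :=
    fun {g u} hg hu => (((show Commute d g from hg).mul_right hu).mul_right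
      (show Commute d g from hg).inv_right).eq
  have hinv : ∀ {g u : G}, u * u = 1 → g * u * g⁻¹ * (g * u * g⁻¹) = 1 := fun {g u} hu => by
    rw [show g * u * g⁻¹ * (g * u * g⁻¹) = g * (u * u) * g⁻¹ by group, hu]; group
  have huniq : ∀ {u u' : G}, u ≠ 1 → u' ≠ 1 → u * u = 1 → u' * u' = 1 → d * u = u * d →
      d * u' = u' * d → ∀ {x : Ω}, d • x = x → u • x = x → u' • x = x → u = u' := by
    intro u u' hu1 hu1' hu hu' hdu hdu' x hx hux hux'
    obtain ⟨y, hy, hyne⟩ : ∃ y, d • y = y ∧ y ≠ x := by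
      by_cases hxa : x = a
      · exact ⟨t • a, hdta, fun e => t_smul_ne h (e.trans hxa)⟩
      · exact ⟨a, hda, Ne.symm hxa⟩
    obtain ⟨g, hg, hgx, -⟩ := htrans hx hy hyne.symm hda hdta (t_smul_ne h).symm
    have key : ∀ w : G, w ≠ 1 → w * w = 1 → d * w = w * d → w • x = x → g * w * g⁻¹ = s :=
      fun w hw1 hw hdw hwx => huniq_a _ (fun e => hw1 (conj_eq_one_iff.1 e)) (hinv hw) (hconj hg hdw)
        (by rw [mul_smul, mul_smul, ← hgx, inv_smul_smul, hwx])
    exact mul_left_cancel (mul_right_cancel ((key u hu1 hu hdu hux).trans (key u' hu1' hu' hdu' hux').symm))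
  -- `s t` is fixed-point-free
  have hfpf : ∀ x : Ω, d • x = x → (s * t) • x ≠ x := by
    intro x hx e
    have e' : t • x = s • x := by
      conv_rhs => rw [← e]
      rw [← mul_smul, ← mul_assoc, hs2, one_mul]
    by_cases hsx : s • x = x
    · exact t_smul_ne h (by rw [← fixed_unique h hs1 hs2 hsx hsa]; exact e'.trans hsx)
    obtain ⟨g, hg, hgx, hgsx⟩ := htrans hx (P.fix_smul h h2 hQ2 hna hds hx) (Ne.symm hsx) hda hdta
      (t_smul_ne h).symm
    have hga : g⁻¹ • a = x := by rw [← hgx, inv_smul_smul]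
    have e1 := huniq_t (g * s * g⁻¹) (hinv hs2) (hconj hg hds) (by
      rw [mul_smul, mul_smul, hga, hgsx])
    have e2 := huniq_t (g * t * g⁻¹) (hinv h.mul_self) (hconj hg P.comm_t.symm) (by
      rw [mul_smul, mul_smul, hga, e', hgsx])
    exact hst (mul_left_cancel (mul_right_cancel (e1.trans e2.symm)))
  -- the fixed point of `t`
  obtain ⟨o, hto⟩ := exists_fixed h h.ne_one h.mul_self
  have hdo : d • o = o := fixed_unique h h.ne_one h.mul_self
    (by rw [← mul_smul, P.comm_t, mul_smul, hto]) hto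
  have hoa : o ≠ a := fun e => t_smul_ne h (e ▸ hto)
  obtain ⟨m, hm⟩ : ∃ m, orderOf (s * t) = m := ⟨_, rfl⟩
  have hst1 : s * t ≠ 1 := fun e => hst (by
    rw [eq_inv_of_mul_eq_one_left e, t_inv h])
  have hodd : Odd m := hm ▸ (S1121.result h).1 s t hsa hs1 hs2 h.not_mem h.ne_one h.mul_self
  have hdst : Commute d (s * t) := (show Commute d s from hds).mul_right P.comm_t.symm
  have hpow : ∀ j : ℕ, (s * t) ^ j ≠ 1 → orderOf ((s * t) ^ j) = m := by
    intro j hj
    set g := (s * t) ^ j with hg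
    have hsg : s * g * s = g⁻¹ := by
      have e : s * (s * t) * s⁻¹ = (s * t)⁻¹ := by
        rw [mul_inv_rev, t_inv h, inv_eq_of_mul_eq_one_right hs2, ← mul_assoc, hs2, one_mul]
      have := congrArg (· ^ j) e
      simp only [conj_pow, inv_pow] at this
      rwa [inv_eq_of_mul_eq_one_right hs2, ← hg] at this
    have hdu : d * (s * g) = s * g * d := ((show Commute d s from hds).mul_right (hdst.pow_right j)).eq
    have hu2 : s * g * (s * g) = 1 := by rw [← mul_assoc, hsg, inv_mul_cancel]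
    have hu1 : s * g ≠ 1 := fun e => by
      have hgs : g = s := by rw [eq_inv_of_mul_eq_one_right e, inv_eq_of_mul_eq_one_right hs2]
      have h2m : orderOf s ∣ m := by
        rw [← hgs, hg, ← hm]; exact orderOf_dvd_of_pow_eq_one (by
          rw [← pow_mul, mul_comm, pow_mul, pow_orderOf_eq_one, one_pow])
      rw [Involution.orderOf_of_sq hs2 hs1] at h2m
      exact Nat.not_even_iff_odd.2 hodd (even_iff_two_dvd.2 h2m)
    obtain ⟨x, hux⟩ := exists_fixed h hu1 hu2
    have hdx : d • x = x := fixed_unique h hu1 hu2 (by rw [← mul_smul, ← hdu, mul_smul, hux]) hux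
    by_cases hxa : x = a
    · have := huniq_a _ hu1 hu2 hdu (hxa ▸ hux)
      exact absurd (mul_left_cancel (this.trans (mul_one s).symm)) hj
    obtain ⟨y, hy, hye⟩ := exists_smul_eq h hxa
    obtain ⟨y', hy', hye'⟩ := exists_smul_eq h hoa
    have hw : y * y'⁻¹ ∈ Q := mul_mem hy (inv_mem hy')
    have hwo : (y * y'⁻¹) • o = x := by rw [mul_smul, ← hye', inv_smul_smul, hye]
    have hdw : d * (y * y'⁻¹) = y * y'⁻¹ * d := by
      have := mem_centralizer_of_smul h (X := {d}) hw (p := o) (q := x)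
        (fun c hc => by rw [Set.mem_singleton_iff.1 hc]; exact hda) hoa
        (fun c hc => by rw [Set.mem_singleton_iff.1 hc]; exact hdo)
        (fun c hc => by rw [Set.mem_singleton_iff.1 hc]; exact hdx) hwo
      exact Subgroup.mem_centralizer_iff.1 this d rfl
    obtain ⟨w, hwdef⟩ : ∃ w, w = y * y'⁻¹ := ⟨_, rfl⟩
    rw [← hwdef] at hw hwo hdw
    have e := huniq hu1 (fun e => h.ne_one (conj_eq_one_iff.1 e)) hu2 (hinv (g := w) h.mul_self) hdu
      (hconj hdw P.comm_t.symm) hdx hux (by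
        rw [mul_smul, mul_smul, ← hwo, inv_smul_smul, hto])
    have hge : g = MulAut.conj w (s * t) := by
      rw [MulAut.conj_apply]
      calc g = s * (s * g) := by rw [← mul_assoc, hs2, one_mul]
        _ = s * (w * t * w⁻¹) := by rw [e]
        _ = s * w * t * w⁻¹ := by group
        _ = w * s * t * w⁻¹ := by rw [hs, C.z_commute h h2 1 hw]
        _ = _ := by group
    rw [hge, MulEquiv.orderOf_eq, hm]
  have hmp : m.Prime := by
    have h1 : m ≠ 1 := fun e => hst1 (orderOf_eq_one_iff.1 (hm.trans e))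
    have hl := Nat.minFac_prime h1
    have := orderOf_pow_orderOf_div (orderOf_pos (s * t)).ne' (hm ▸ Nat.minFac_dvd m : m.minFac ∣ _)
    have hne : (s * t) ^ (orderOf (s * t) / m.minFac) ≠ 1 := fun e => hl.ne_one (by
      rw [← this, e, orderOf_one])
    rw [hpow _ hne] at this
    exact this ▸ hl
  -- the nine fixed points
  haveI := finite_omega h
  have hcardS : Nat.card {x : Ω // d • x = x} = Nat.card {u : G // u ∈ Q ∧ d * u = u * d} + 1 := by
    rw [← Finite.card_option]
    let φ : {u : G // u ∈ Q ∧ d * u = u * d} → {x : {x : Ω // d • x = x} // x ≠ ⟨a, hda⟩} := fun u =>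
      ⟨⟨u.1 • (t • a), P.fix_smul h h2 hQ2 hna u.2.2 hdta⟩, fun e =>
        smul_ne_self h u.2.1 (t_smul_ne h) (congrArg Subtype.val e)⟩
    refine (Nat.card_congr ((Equiv.optionCongr (Equiv.ofBijective φ ⟨fun u u' e => ?_, fun x => ?_⟩)).trans
      (Equiv.optionSubtypeNe _))).symm
    · have e' := congrArg (fun z => z.1.1) e
      exact Subtype.ext (congrArg (fun z : Q => (z : G)) ((regular h (t_smul_ne h)
        (smul_ne_self h u.2.1 (t_smul_ne h))).unique (y₁ := ⟨u.1, u.2.1⟩) (y₂ := ⟨u'.1, u'.2.1⟩) rfl e'.symm))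
    · obtain ⟨y, hy, hye⟩ := exists_smul_eq h (b := x.1.1) (fun e => x.2 (Subtype.ext e))
      have := mem_centralizer_of_smul h (X := {d}) hy (p := t • a) (q := x.1.1)
        (fun c hc => by rw [Set.mem_singleton_iff.1 hc]; exact hda) (t_smul_ne h)
        (fun c hc => by rw [Set.mem_singleton_iff.1 hc]; exact hdta)
        (fun c hc => by rw [Set.mem_singleton_iff.1 hc]; exact x.1.2) hye
      exact ⟨⟨y, hy, Subgroup.mem_centralizer_iff.1 this d rfl⟩, Subtype.ext (Subtype.ext hye)⟩
  -- `C_Q(d)` has order eight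
  let S : Subgroup G := Q ⊓ Subgroup.centralizer {d}
  have hS : ∀ u, u ∈ S ↔ u ∈ Q ∧ d * u = u * d := fun u => by
    simp [S, Subgroup.mem_inf, Subgroup.mem_centralizer_iff]
  have hScard : Nat.card {u : G // u ∈ Q ∧ d * u = u * d} = Nat.card ↥S :=
    Nat.card_congr (Equiv.subtypeEquivRight fun u => (hS u).symm)
  have hsq : ∀ u ∈ S, u * u ≠ 1 → u * u = s := by
    intro u hu hu2
    obtain ⟨x, hx⟩ := C.sq_eq h h2 hQ2 hna ((hS u).1 hu).1
    rcases hfix x (P.fixed_of_comm h h2 hQ2 hna (by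
      rw [hx]; exact ((show Commute d u from ((hS u).1 hu).2).mul_right ((hS u).1 hu).2).eq)) with rfl | rfl
    · exact absurd (by rw [← hx, C.z_zero]) hu2
    · rw [hs, hx]
  have hcyc : ∀ u ∈ S, u * u = 1 → u = 1 ∨ u = s := by
    intro u hu hu2
    obtain ⟨x, rfl⟩ := C.z_surj u (h.le ((hS u).1 hu).1) hu2
    rcases hfix x (P.fixed_of_comm h h2 hQ2 hna ((hS _).1 hu).2) with rfl | rfl
    · exact Or.inl C.z_zero
    · exact Or.inr hs.symm
  have h8 : Nat.card ↥S = 8 := by
    obtain ⟨i, hi⟩ := IsPGroup.iff_card.1 (hQ2.to_le (inf_le_left : S ≤ Q))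
    have hN := P.card_mod h h2 hQ2 hna hQ3
    have hc := P.card_centralizer h h2 hQ2 hna
    rw [hScard, hq1] at hc
    rw [hq1] at hN
    simp only [Nat.add_one_sub_one, mul_one] at hc
    have hN1 : 1 ≤ fixRoots C d := by
      refine Nat.card_pos_iff.2 ⟨⟨r, hr, (C.r_commute h hr he P.mem (hs ▸ hds)).2, ?_⟩, inferInstance⟩
      exact (hsq r ((hS r).2 ⟨hr, (C.r_commute h hr he P.mem (hs ▸ hds)).2⟩) hr2).trans hs
    have hp3 : 3 ≤ p := by
      obtain ⟨k, hk⟩ := P.p_odd h h2 hQ2 hna
      have := P.prime.two_le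
      omega
    have hle : Nat.card ↥S ≤ 8 := by
      have hc' : ∀ x ∈ S, x * x ≠ 1 → ∀ u ∈ S, u * u ≠ 1 → x * u = u * x →
          u = x ∨ u = x * s := by
        intro x hx hx2 u hu hu2 hxu
        have e1 : x * u * (x * u) = 1 := by
          rw [show x * u * (x * u) = x * (u * x) * u by group, ← hxu, ← mul_assoc x x u, hsq x hx hx2,
            mul_assoc s, hsq u hu hu2, hs2]
        rcases hcyc _ (mul_mem hx hu) e1 with e | e
        · refine Or.inr (mul_left_cancel (a := x) ?_)
          rw [e, ← mul_assoc, hsq x hx hx2, hs2]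
        · refine Or.inl (mul_left_cancel (a := x) ?_)
          rw [e, hsq x hx hx2]
      have hanti : ∀ x ∈ S, x * x ≠ 1 → ∀ u ∈ S, u * u ≠ 1 → x * u * (x * u) ≠ 1 →
          u * x = s * (x * u) := by
        intro x hx hx2 u hu hu2 h12
        have e := hsq _ (mul_mem hx hu) h12
        have ex : x⁻¹ = x * s :=
          inv_eq_of_mul_eq_one_right (by rw [← mul_assoc, hsq x hx hx2, hs2])
        have eu : u⁻¹ = u * s :=
          inv_eq_of_mul_eq_one_right (by rw [← mul_assoc, hsq u hu hu2, hs2])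
        calc u * x = x⁻¹ * (x * u * (x * u)) * u⁻¹ := by group
          _ = x * (s * s) * (u * s) := by rw [e, ex, eu]; group
          _ = _ := by rw [hs2, mul_one, hs, C.z_commute h h2 1 ((hS _).1 (mul_mem hx hu)).1, mul_assoc]
      by_cases hall : ∀ u ∈ S, u = 1 ∨ u = s ∨ u = r ∨ u = r * s
      · have : ∀ u : S, (u : G) ∈ ({1, s, r, r * s} : Finset G) := fun u => by
          rcases hall u u.2 with e | e | e | e <;> simp [e]
        calc Nat.card ↥S ≤ Nat.card ↥({1, s, r, r * s} : Finset G) :=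
              Nat.card_le_card_of_injective (fun u : S => (⟨u, this u⟩ : ↥({1, s, r, r * s} : Finset G)))
                fun u u' e => Subtype.ext (congrArg Subtype.val e :)
          _ ≤ 8 := by
            rw [Nat.card_eq_fintype_card, Fintype.card_coe]
            exact le_trans Finset.card_le_four (by norm_num)
      push Not at hall
      obtain ⟨y, hy, hy1, hys, hyr, hyrs⟩ := hall
      have hrS : r ∈ S := (hS r).2 ⟨hr, (C.r_commute h hr he P.mem (hs ▸ hds)).2⟩
      have hy2 : y * y ≠ 1 := fun e => (hcyc y hy e).elim hy1 hys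
      have hry : r * y * (r * y) ≠ 1 := fun e => by
        rcases hcyc _ (mul_mem hrS hy) e with e' | e'
        · refine hyrs (mul_left_cancel (a := r) ?_)
          rw [e', ← mul_assoc, hsq r hrS hr2, hs2]
        · refine hyr (mul_left_cancel (a := r) ?_)
          rw [e', hsq r hrS hr2]
      have hall' : ∀ u ∈ S, u = 1 ∨ u = s ∨ u = r ∨ u = r * s ∨ u = y ∨ u = y * s ∨ u = r * y ∨
          u = r * y * s := by
        intro u hu
        by_cases hu2 : u * u = 1
        · rcases hcyc u hu hu2 with e | e <;> simp [e]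
        by_cases h1 : r * u * (r * u) = 1
        · rcases hcyc _ (mul_mem hrS hu) h1 with e | e
          · refine Or.inr (Or.inr (Or.inr (Or.inl (mul_left_cancel (a := r) ?_))))
            rw [e, ← mul_assoc, hsq r hrS hr2, hs2]
          · refine Or.inr (Or.inr (Or.inl (mul_left_cancel (a := r) ?_)))
            rw [e, hsq r hrS hr2]
        by_cases h3 : y * u * (y * u) = 1
        · rcases hcyc _ (mul_mem hy hu) h3 with e | e
          · refine Or.inr (Or.inr (Or.inr (Or.inr (Or.inr (Or.inl (mul_left_cancel (a := y) ?_))))))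
            rw [e, ← mul_assoc, hsq y hy hy2, hs2]
          · refine Or.inr (Or.inr (Or.inr (Or.inr (Or.inl (mul_left_cancel (a := y) ?_)))))
            rw [e, hsq y hy hy2]
        have hcomm : (r * y) * u = u * (r * y) := by
          calc r * y * u = r * (y * u) := mul_assoc _ _ _
            _ = r * (s * (u * y)) := by rw [hanti u hu hu2 y hy hy2 (fun e => h3 (by
                  rw [show y * u * (y * u) = y * (u * y * (u * y)) * y⁻¹ by group, e]; group))]
            _ = s * (r * u) * y := by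
                rw [← mul_assoc, hs, ← C.z_commute h h2 1 hr]; simp [mul_assoc]
            _ = u * r * y := by rw [hanti r hrS hr2 u hu hu2 h1]
            _ = u * (r * y) := mul_assoc _ _ _
        rcases hc' _ (mul_mem hrS hy) hry u hu hu2 hcomm with e | e <;> simp [e]
      have : ∀ u : S, (u : G) ∈ ([1, s, r, r * s, y, y * s, r * y, r * y * s].toFinset : Finset G) := fun u => by
        rcases hall' u u.2 with e | e | e | e | e | e | e | e <;> simp [e]
      calc Nat.card ↥S ≤ Nat.card ↥([1, s, r, r * s, y, y * s, r * y, r * y * s].toFinset : Finset G) :=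
            Nat.card_le_card_of_injective
              (fun u : S => (⟨u, this u⟩ : ↥([1, s, r, r * s, y, y * s, r * y, r * y * s].toFinset : Finset G)))
              fun u u' e => Subtype.ext (congrArg Subtype.val e :)
        _ ≤ 8 := by
          rw [Nat.card_eq_fintype_card, Fintype.card_coe]
          exact le_trans (List.toFinset_card_le _) (by simp)
    have hN4 : fixRoots C d ≠ 2 := fun e => by
      rw [e] at hN
      have := (Nat.modEq_iff_dvd' (by norm_num)).1 hN
      have h4 : p ∣ 2 ^ 2 := by simpa using this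
      have := Nat.le_of_dvd (by norm_num) (P.prime.dvd_of_dvd_pow h4)
      omega
    have hi' : Nat.card ↥S = 2 ^ i := hi
    have hi3 : i ≤ 3 := by
      by_contra hlt
      have := Nat.pow_le_pow_right (show 1 ≤ 2 by norm_num) (show 4 ≤ i by omega)
      norm_num at this
      omega
    interval_cases i <;> omega
  -- hence `(s t)³ = 1`
  have hm3 : m = 3 := by
    let f : {x : Ω // d • x = x} → {x : Ω // d • x = x} := fun x =>
      ⟨(s * t) • x.1, P.fix_smul h h2 hQ2 hna hdst.eq x.2⟩
    have hit : ∀ (n : ℕ) x, (f^[n] x).1 = (s * t) ^ n • x.1 := fun n x => by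
      induction n with
      | zero => simp
      | succ n ih => rw [Function.iterate_succ_apply', pow_succ', mul_smul, ← ih]
    have hmod := card_fixed_modEq f hmp (funext fun x => Subtype.ext (by
      rw [hit, ← hm, pow_orderOf_eq_one, one_smul]; rfl))
    haveI hemp : IsEmpty {x // f x = x} := ⟨fun x => hfpf _ x.1.2 (congrArg Subtype.val x.2)⟩
    rw [Nat.card_of_isEmpty (α := {x // f x = x}), hcardS, hScard, h8, Nat.modEq_zero_iff_dvd] at hmod
    exact (Nat.prime_dvd_prime_iff_eq hmp Nat.prime_three).1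
      (hmp.dvd_of_dvd_pow (show m ∣ 3 ^ 2 by simpa using hmod))
  have h1 : (s * t) ^ 3 = 1 := by rw [← hm3, ← hm, pow_orderOf_eq_one]
  have htst : t * s * t = s⁻¹ * t * s := by
    rw [inv_eq_of_mul_eq_one_right hs2]
    have e : (s * t * s) * (t * s * t) = 1 := by rw [← h1]; simp [pow_succ, mul_assoc]
    rw [eq_inv_of_mul_eq_one_right e, mul_inv_rev, mul_inv_rev, t_inv h,
      inv_eq_of_mul_eq_one_right hs2, mul_assoc]
  have hrs := (isPart_unique h (s := C.z (1 : F)) (k := 1) (k' := 1)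
    ⟨hr, one_mem_kk h, by rw [mul_one]; exact he⟩
    ⟨C.z_mem_Q h 1, one_mem_kk h, by rw [mul_one, ← hs]; exact htst⟩).1
  exact hr2 (by rw [hrs]; exact C.z_sq 1)

end DData

end Cfsg.Agent.SuzukiRankOne
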