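import Cfsg.Agent.Lib.SuzukiRankOne.Unitary.Plane
import Cfsg.Agent.Lib.SuzukiRankOne.Frame
/-!
# Rows of elements of `SL₂`

`top`, `bot` : the rows; `sl T R` : the element with rows `T`, `R` (if `det₂ T R = 1`);
`rowMul x M` : the row `x` times `M`; `smap σ` : a field automorphism applied entrywise.
-/

set_option autoImplicit false

namespace Cfsg.Agent.SuzukiRankOne.Unitary

open Cfsg.Agent.RankOne
open scoped MatrixGroups

variable {F : Type*} [Field F]

/-- The first row. -/
def top (g : SL(2, F)) : F × F := (g.1 0 0, g.1 0 1)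

/-- The second row. -/
def bot (g : SL(2, F)) : F × F := (g.1 1 0, g.1 1 1)

theorem rows_ext {g g' : SL(2, F)} (h1 : top g = top g') (h2 : bot g = bot g') : g = g' := by
  simp only [top, bot, Prod.mk.injEq] at h1 h2
  apply Subtype.ext
  ext i j
  fin_cases i <;> fin_cases j <;> simp [h1.1, h1.2, h2.1, h2.2]

variable [CharP F 2]

theorem det_top_bot (g : SL(2, F)) : det₂ (top g) (bot g) = 1 := by
  have h := g.2
  rw [Matrix.det_fin_two, CharTwo.sub_eq_add] at h
  simpa [top, bot, det₂] using h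

theorem bot_ne (g : SL(2, F)) : bot g ≠ 0 :=
  right_ne_zero (x := top g) (by rw [det_top_bot]; exact one_ne_zero)

open Classical in
/-- The element with given rows. -/
noncomputable def sl (T R : F × F) : SL(2, F) :=
  if h : det₂ T R = 1 then ⟨!![T.1, T.2; R.1, R.2], by
    rw [Matrix.det_fin_two, CharTwo.sub_eq_add]; simpa [det₂] using h⟩ else 1

theorem top_sl {T R : F × F} (h : det₂ T R = 1) : top (sl T R) = T := by simp [top, sl, h]

theorem bot_sl {T R : F × F} (h : det₂ T R = 1) : bot (sl T R) = R := by simp [bot, sl, h]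

theorem sl_rows (g : SL(2, F)) : sl (top g) (bot g) = g :=
  rows_ext (top_sl (det_top_bot g)) (bot_sl (det_top_bot g))

theorem eq_sl {g : SL(2, F)} {T R : F × F} (h1 : top g = T) (h2 : bot g = R) : g = sl T R := by
  rw [← h1, ← h2, sl_rows]

/-- A row times a matrix. -/
def rowMul (x : F × F) (M : SL(2, F)) : F × F :=
  (x.1 * M.1 0 0 + x.2 * M.1 1 0, x.1 * M.1 0 1 + x.2 * M.1 1 1)

omit [CharP F 2] in
theorem top_mul (g M : SL(2, F)) : top (g * M) = rowMul (top g) M := by
  simp [top, rowMul, Matrix.mul_apply, Fin.sum_univ_two]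

omit [CharP F 2] in
theorem bot_mul (g M : SL(2, F)) : bot (g * M) = rowMul (bot g) M := by
  simp [bot, rowMul, Matrix.mul_apply, Fin.sum_univ_two]

omit [CharP F 2] in
theorem rowMul_add (x y : F × F) (M : SL(2, F)) : rowMul (x + y) M = rowMul x M + rowMul y M := by
  simp only [rowMul, Prod.fst_add, Prod.snd_add, Prod.mk_add_mk]; exact Prod.ext (by ring) (by ring)

omit [CharP F 2] in
theorem rowMul_smul (a : F) (x : F × F) (M : SL(2, F)) : rowMul (a • x) M = a • rowMul x M := by
  simp only [rowMul, Prod.smul_fst, Prod.smul_snd, Prod.smul_mk, smul_eq_mul]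
  exact Prod.ext (by ring) (by ring)

omit [CharP F 2] in
theorem rowMul_one (x : F × F) : rowMul x (1 : SL(2, F)) = x := by simp [rowMul]

omit [CharP F 2] in
theorem rowMul_mul (x : F × F) (M N : SL(2, F)) : rowMul (rowMul x M) N = rowMul x (M * N) := by
  simp only [rowMul, Matrix.SpecialLinearGroup.coe_mul, Matrix.mul_apply, Fin.sum_univ_two]
  exact Prod.ext (by ring) (by ring)

omit [CharP F 2] in
theorem rowMul_ne {x : F × F} (hx : x ≠ 0) (M : SL(2, F)) : rowMul x M ≠ 0 := fun e => hx (by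
  have e' := congrArg (fun y => rowMul y M⁻¹) e
  simp only [rowMul_mul, mul_inv_cancel, rowMul_one] at e'
  rw [e']; simp [rowMul])

theorem det₂_rowMul (x y : F × F) (M : SL(2, F)) : det₂ (rowMul x M) (rowMul y M) = det₂ x y := by
  have h := M.2
  rw [Matrix.det_fin_two, CharTwo.sub_eq_add] at h
  simp only [det₂, rowMul]
  linear_combination (x.1 * y.2 + x.2 * y.1) * h +
    (x.1 * y.1 * M.1 0 0 * M.1 0 1 + x.2 * y.2 * M.1 1 0 * M.1 1 1) * CharTwo.two_eq_zero (R := F)

omit [CharP F 2] in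
theorem top_up (x : F) (g : SL(2, F)) : top (upSL x * g) = top g + x • bot g := by
  simp [top, bot, Matrix.mul_apply, Fin.sum_univ_two, coe_upSL]

omit [CharP F 2] in
theorem bot_up (x : F) (g : SL(2, F)) : bot (upSL x * g) = bot g := by
  simp [bot, Matrix.mul_apply, Fin.sum_univ_two, coe_upSL]

theorem top_w (g : SL(2, F)) : top (SL2Data.wSL F * g) = bot g := by
  simp [top, bot, Matrix.mul_apply, Fin.sum_univ_two, SL2Data.coe_wSL]

theorem bot_w (g : SL(2, F)) : bot (SL2Data.wSL F * g) = top g := by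
  simp [top, bot, Matrix.mul_apply, Fin.sum_univ_two, SL2Data.coe_wSL, CharTwo.neg_eq]

omit [CharP F 2] in
theorem coe_dSL (b : Fˣ) :
    ((dSL b : SL(2, F)) : Matrix (Fin 2) (Fin 2) F) = !![(b : F), 0; 0, ((b⁻¹ : Fˣ) : F)] := rfl

omit [CharP F 2] in
theorem top_d (b : Fˣ) (g : SL(2, F)) : top (dSL b * g) = (b : F) • top g := by
  simp [top, coe_dSL, Matrix.mul_apply, Fin.sum_univ_two]

omit [CharP F 2] in
theorem bot_d (b : Fˣ) (g : SL(2, F)) : bot (dSL b * g) = ((b⁻¹ : Fˣ) : F) • bot g := by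
  simp [bot, coe_dSL, Matrix.mul_apply, Fin.sum_univ_two]

/-- A field automorphism applied entrywise. -/
def smap (σ : F ≃+* F) : SL(2, F) →* SL(2, F) := Matrix.SpecialLinearGroup.map (σ : F →+* F)

omit [CharP F 2] in
theorem top_smap (σ : F ≃+* F) (g : SL(2, F)) : top (smap σ g) = (σ (top g).1, σ (top g).2) := by
  simp [top, smap]

omit [CharP F 2] in
theorem bot_smap (σ : F ≃+* F) (g : SL(2, F)) : bot (smap σ g) = (σ (bot g).1, σ (bot g).2) := by
  simp [bot, smap]

theorem det₂_map (σ : F ≃+* F) (x y : F × F) :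
    det₂ (σ x.1, σ x.2) (σ y.1, σ y.2) = σ (det₂ x y) := by
  simp [det₂]

open Classical in
/-- A row completing `R` to a basis of determinant one. -/
noncomputable def compl (R : F × F) : F × F := if R.2 ≠ 0 then (R.2⁻¹, 0) else (0, R.1⁻¹)

omit [CharP F 2] in
theorem det_compl {R : F × F} (hR : R ≠ 0) : det₂ (compl R) R = 1 := by
  by_cases h : R.2 = 0
  · have h1 : R.1 ≠ 0 := fun e => hR (Prod.ext e h)
    simp [compl, det₂, h, h1]
  · simp [compl, det₂, h]

/-- Two completions differ by a multiple of `R`. -/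
theorem exists_shift {T T' R : F × F} (h : det₂ T R = 1) (h' : det₂ T' R = 1) :
    ∃ x : F, T' = T + x • R := by
  refine ⟨det₂ T' T, ?_⟩
  conv_lhs => rw [eq_comb h T']
  rw [h', one_smul]

end Cfsg.Agent.SuzukiRankOne.Unitary
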