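import Cfsg.Agent.Lib.SuzukiRankOne.Regular
import Cfsg.Agent.Lib.SuzukiRankOne.Unitary.Rows
import Cfsg.Agent.Lib.SuzukiRankOne.Unitary.Counting
/-!
# `|Q| = q³`: the elements of `Q ∖ Z` are labelled by `SL₂(q)`

`LFrame` : a frame and a point `x0` outside the block.  `elt g ∈ Q` sends `t • a` to `hom g • x0`;
`phi T R = elt (sl T R)`; `P R` is its class in the quotient `VQ` and `z (qr R)` its square.
-/

set_option autoImplicit false

namespace Cfsg.Agent.SuzukiRankOne

open MulAction Cfsg.Agent.RankOne Cfsg.Agent.RankOne.Setup Unitary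
open scoped MatrixGroups commutatorElement

universe u v w

variable {G : Type u} {Ω : Type v} [Group G] [Finite G] [MulAction G Ω]
  {a : Ω} {t : G} {Q : Subgroup G} {F : Type w} [Field F] [Finite F] [CharP F 2]

/-- A frame with a point outside the block. -/
structure LFrame (a : Ω) (t : G) (Q : Subgroup G) (F : Type w) [Field F] extends Frame a t Q F where
  isTwo : IsPGroup 2 Q
  nonab : ¬ IsMulCommutative Q
  cube : Nat.card Q = Nat.card F ^ 3
  x0 : Ω
  x0_mem : x0 ∉ toFrame.Blk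

/-- The quotient of `Q` by its centre, as a commutative group. -/
abbrev VQ (Q : Subgroup G) : Type u :=
  Additive (Abelianization ↥Q ⧸ (Subgroup.center ↥Q).map Abelianization.of)

/-- The class of an element of `Q`. -/
def cl (u : ↥Q) : VQ Q := Additive.ofMul (QuotientGroup.mk (Abelianization.of u))

omit [Finite G] in
theorem cl_mul (u v : ↥Q) : cl (u * v) = cl u + cl v := by
  simp only [cl, map_mul, QuotientGroup.mk_mul]; rfl

omit [Finite G] in
theorem cl_one : cl (1 : ↥Q) = 0 := by simp [cl]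

/-- A frame of `|Q| = q³` has a point outside the block. -/
theorem exists_lframe (P : Frame a t Q F) (hQ2 : IsPGroup 2 Q) (hna : ¬ IsMulCommutative Q)
    (hQ3 : Nat.card Q = Nat.card F ^ 3) : ∃ P' : LFrame a t Q F, P'.toFrame = P := by
  haveI := finite_omega P.setup
  by_cases hex : ∃ x, x ∉ P.Blk
  · obtain ⟨x, hx⟩ := hex
    exact ⟨⟨P, hQ2, hna, hQ3, x, hx⟩, rfl⟩
  push Not at hex
  exfalso
  have h1 : Nat.card Ω ≤ Nat.card P.Blk :=
    Nat.card_le_card_of_injective (fun x => (⟨x, hex x⟩ : P.Blk)) fun x y e => congrArg Subtype.val e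
  rw [P.blk_card, Finite.card_option, card_omega P.setup, hQ3] at h1
  have h2 : 2 ≤ Nat.card F := Finite.one_lt_card
  have h3 : Nat.card F * 4 ≤ Nat.card F * (Nat.card F * Nat.card F) := Nat.mul_le_mul_left _ (by nlinarith)
  have h4 : Nat.card F * (Nat.card F * Nat.card F) = Nat.card F ^ 3 := by ring
  omega

namespace LFrame

variable [FaithfulSMul G Ω] (P : LFrame a t Q F)

theorem hom_x0_ne (g : SL(2, F)) : P.hom g • P.x0 ≠ a := fun e =>
  P.toFrame.smul_notMem_blk g P.x0_mem (Or.inl e)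

/-- The element of `Q` sending `t • a` to `hom g • x0`. -/
noncomputable def elt (g : SL(2, F)) : G := Classical.choose (exists_smul_eq P.setup (P.hom_x0_ne g))

theorem elt_mem (g : SL(2, F)) : P.elt g ∈ Q :=
  (Classical.choose_spec (exists_smul_eq P.setup (P.hom_x0_ne g))).1

theorem elt_smul (g : SL(2, F)) : P.elt g • (t • a) = P.hom g • P.x0 :=
  (Classical.choose_spec (exists_smul_eq P.setup (P.hom_x0_ne g))).2

theorem eq_elt {u : G} (hu : u ∈ Q) {g : SL(2, F)} (e : u • (t • a) = P.hom g • P.x0) : u = P.elt g :=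
  congrArg Subtype.val ((regular P.setup (t_smul_ne P.setup) (P.hom_x0_ne g)).unique
    (y₁ := ⟨u, hu⟩) (y₂ := ⟨_, P.elt_mem g⟩) e (P.elt_smul g))

theorem elt_inj {g g' : SL(2, F)} (e : P.elt g = P.elt g') : g = g' :=
  P.toFrame.hom_smul_inj P.x0_mem (by rw [← P.elt_smul, ← P.elt_smul, e])

theorem elt_smul_notMem (g : SL(2, F)) : P.elt g • (t • a) ∉ P.toFrame.Blk := by
  rw [P.elt_smul]; exact P.toFrame.smul_notMem_blk g P.x0_mem

theorem elt_sq_ne (g : SL(2, F)) : P.elt g * P.elt g ≠ 1 := fun e => by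
  obtain ⟨x, hx⟩ := P.co.z_surj _ (P.setup.le (P.elt_mem g)) e
  exact P.elt_smul_notMem g (Or.inr ⟨x, by rw [hx]⟩)

theorem exists_elt {u : G} (hu : u ∈ Q) (hu2 : u * u ≠ 1) : ∃ g, P.elt g = u := by
  have hn : u • (t • a) ∉ P.toFrame.Blk := by
    rintro (e | ⟨x, e⟩)
    · exact smul_ne_self P.setup hu (t_smul_ne P.setup) e
    · have := (regular P.setup (t_smul_ne P.setup) (smul_ne_self P.setup hu (t_smul_ne P.setup))).unique
        (y₁ := ⟨u, hu⟩) (y₂ := ⟨_, P.co.z_mem_Q P.setup x⟩) rfl e.symm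
      exact hu2 (by rw [show u = P.co.z x from congrArg Subtype.val this]; exact P.co.z_sq x)
  obtain ⟨g, hg⟩ := P.toFrame.exists_hom_smul P.cube P.x0_mem hn
  exact ⟨g, (P.eq_elt hu hg.symm).symm⟩

theorem z_mul_elt (x : F) (g : SL(2, F)) : P.co.z x * P.elt g = P.elt (upSL x * g) :=
  P.eq_elt (mul_mem (P.co.z_mem_Q P.setup x) (P.elt_mem g))
    (by rw [mul_smul, P.elt_smul, map_mul, mul_smul, P.toFrame.hom_upSL])

/-- The label of rows `T`, `R`. -/
noncomputable def phi (T R : F × F) : G := P.elt (sl T R)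

theorem phi_mem (T R : F × F) : P.phi T R ∈ Q := P.elt_mem _

theorem elt_eq_phi (g : SL(2, F)) : P.elt g = P.phi (top g) (bot g) := by rw [phi, sl_rows]

theorem exists_phi {u : G} (hu : u ∈ Q) (hu2 : u * u ≠ 1) : ∃ T R, det₂ T R = 1 ∧ P.phi T R = u := by
  obtain ⟨g, rfl⟩ := P.exists_elt hu hu2
  exact ⟨top g, bot g, det_top_bot g, (P.elt_eq_phi g).symm⟩

theorem phi_inj {T R T' R' : F × F} (h : det₂ T R = 1) (h' : det₂ T' R' = 1)
    (e : P.phi T R = P.phi T' R') : T = T' ∧ R = R' := by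
  have := P.elt_inj e
  exact ⟨by rw [← top_sl h, this, top_sl h'], by rw [← bot_sl h, this, bot_sl h']⟩

theorem z_mul_phi {T R : F × F} (h : det₂ T R = 1) (x : F) :
    P.co.z x * P.phi T R = P.phi (T + x • R) R := by
  rw [phi, P.z_mul_elt, P.elt_eq_phi, top_up, bot_up, top_sl h, bot_sl h]

theorem phi_mul_z {T R : F × F} (h : det₂ T R = 1) (x : F) :
    P.phi T R * P.co.z x = P.phi (T + x • R) R := by
  rw [← P.co.z_commute P.setup P.two x (P.phi_mem T R), P.z_mul_phi h]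

theorem sq_eq {u : G} (hu : u ∈ Q) : ∃ x, P.co.z x = u * u :=
  P.co.sq_eq P.setup P.two P.isTwo P.nonab hu

/-- `z (qr R)` is the square of a label with second row `R`. -/
noncomputable def qr (R : F × F) : F := Classical.choose (P.sq_eq (P.phi_mem (compl R) R))

theorem phi_sq {T R : F × F} (h : det₂ T R = 1) : P.phi T R * P.phi T R = P.co.z (P.qr R) := by
  have hR : R ≠ 0 := right_ne_zero (x := T) (by rw [h]; exact one_ne_zero)
  obtain ⟨x, rfl⟩ := exists_shift (det_compl hR) h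
  rw [← P.phi_mul_z (det_compl hR)]
  exact (P.co.sq_eq_of_coset P.setup P.two P.isTwo P.nonab (P.phi_mem _ _) rfl).trans
    (Classical.choose_spec (P.sq_eq (P.phi_mem (compl R) R))).symm

theorem qr_ne {R : F × F} (hR : R ≠ 0) : P.qr R ≠ 0 := fun e => by
  have := P.phi_sq (det_compl hR)
  rw [e, P.co.z_zero] at this
  exact P.elt_sq_ne _ this

/-- The inverse of a label. -/
theorem phi_inv {T R : F × F} (h : det₂ T R = 1) : (P.phi T R)⁻¹ = P.phi (T + P.qr R • R) R := by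
  rw [← P.phi_mul_z h]
  refine inv_eq_of_mul_eq_one_right ?_
  rw [← mul_assoc, P.phi_sq h, P.co.z_sq]

theorem k_phi {T R : F × F} (h : det₂ T R = 1) (b : Fˣ) :
    P.co.k b * P.phi T R * (P.co.k b)⁻¹ = P.phi ((b : F) • T) (((b⁻¹ : Fˣ) : F) • R) := by
  have e : P.co.k b * P.phi T R * (P.co.k b)⁻¹ = P.elt (dSL b * sl T R) :=
    P.eq_elt (P.setup.conj_mem _ (P.co.k_mem_dd b).1 _ (P.phi_mem T R))
      (by rw [mul_smul, mul_smul, show (P.co.k b)⁻¹ • (t • a) = t • a from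
        (inv_mem (P.co.k_mem_dd b)).2, map_mul, mul_smul, P.toFrame.hom_dSL, phi, P.elt_smul])
  rw [e, P.elt_eq_phi, top_d, bot_d, top_sl h, bot_sl h]

theorem qr_smul {c : F} {R : F × F} (hc : c ≠ 0) (hR : R ≠ 0) : P.qr (c • R) * (c * c) = P.qr R := by
  obtain ⟨b, hb⟩ : ∃ b : Fˣ, b = (Units.mk0 c hc)⁻¹ := ⟨_, rfl⟩
  have h := det_compl hR
  have hbi : ((b⁻¹ : Fˣ) : F) = c := by rw [hb, inv_inv, Units.val_mk0]
  have e := P.phi_sq (T := (b : F) • compl R) (R := ((b⁻¹ : Fˣ) : F) • R)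
    (by rw [det₂_smul_left, det₂_smul_right, h, mul_one, Units.mul_inv])
  rw [← P.k_phi h b, P.co.sq_conj_k P.setup P.two P.isTwo P.nonab (P.phi_sq h).symm, hbi] at e
  rw [← P.co.z_inj e, hb, Units.val_inv_eq_inv_val, Units.val_mk0]
  field_simp

omit [Finite F] [CharP F 2] in
theorem cl_eq {u v : ↥Q} (e : cl u = cl v) : u⁻¹ * v ∈ Subgroup.center ↥Q ⊔ commutator ↥Q := by
  have h1 : (Abelianization.of u)⁻¹ * Abelianization.of v ∈ (Subgroup.center ↥Q).map Abelianization.of :=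
    QuotientGroup.eq.1 (Additive.ofMul.injective e)
  rw [← map_inv, ← map_mul] at h1
  obtain ⟨c, hc, hc'⟩ := Subgroup.mem_map.1 h1
  have h2 : c⁻¹ * (u⁻¹ * v) ∈ commutator ↥Q := (QuotientGroup.eq (s := commutator ↥Q)).1 hc'
  rw [show u⁻¹ * v = c * (c⁻¹ * (u⁻¹ * v)) by group]
  exact Subgroup.mul_mem_sup hc h2

theorem center_sq {u : ↥Q} (hu : u ∈ Subgroup.center ↥Q ⊔ commutator ↥Q) :
    ∃ x, P.co.z x = (u : G) := by
  have hle : Subgroup.center ↥Q ⊔ commutator ↥Q ≤ Subgroup.center ↥Q := by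
    refine sup_le le_rfl ?_
    rw [commutator_def, Subgroup.commutator_le]
    intro x _ y _
    obtain ⟨c, hc⟩ := P.co.comm_eq P.setup P.two P.isTwo P.nonab (Q.inv_mem x.2) (Q.inv_mem y.2)
    refine Subgroup.mem_center_iff.2 fun w => Subtype.ext ?_
    have e : ((⁅x, y⁆ : ↥Q) : G) = P.co.z c := by
      rw [hc, commutatorElement_def]; simp [mul_assoc]
    simp only [Subgroup.coe_mul, e]
    exact (P.co.z_commute P.setup P.two c w.2).symm
  exact P.co.z_surj _ (P.setup.le u.2) ((P.co.central_iff P.setup P.two P.isTwo P.nonab u.2).1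
    fun w hw => (congrArg Subtype.val (Subgroup.mem_center_iff.1 (hle hu) ⟨w, hw⟩)).symm)

theorem cl_z (x : F) : cl (⟨P.co.z x, P.co.z_mem_Q P.setup x⟩ : ↥Q) = 0 := by
  have h : (⟨P.co.z x, P.co.z_mem_Q P.setup x⟩ : ↥Q) ∈ Subgroup.center ↥Q :=
    Subgroup.mem_center_iff.2 fun w => Subtype.ext (P.co.z_commute P.setup P.two x w.2).symm
  rw [cl, ofMul_eq_zero, QuotientGroup.eq_one_iff]
  exact Subgroup.mem_map_of_mem _ h

include P in
theorem cl_two (w : VQ Q) : w + w = 0 := by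
  obtain ⟨w, rfl⟩ := Additive.ofMul.surjective w
  obtain ⟨w, rfl⟩ := QuotientGroup.mk_surjective w
  obtain ⟨u, rfl⟩ := QuotientGroup.mk_surjective w
  show cl u + cl u = 0
  obtain ⟨x, hx⟩ := P.sq_eq u.2
  rw [← cl_mul, show u * u = ⟨P.co.z x, P.co.z_mem_Q P.setup x⟩ from Subtype.ext hx.symm, P.cl_z]

open Classical in
/-- The class of the labels with second row `R`. -/
noncomputable def cls (R : F × F) : VQ Q :=
  if R = 0 then 0 else cl (⟨P.phi (compl R) R, P.phi_mem _ _⟩ : ↥Q)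

theorem cls_eq {T R : F × F} (h : det₂ T R = 1) :
    cls P R = cl (⟨P.phi T R, P.phi_mem _ _⟩ : ↥Q) := by
  have hR : R ≠ 0 := right_ne_zero (x := T) (by rw [h]; exact one_ne_zero)
  obtain ⟨x, rfl⟩ := exists_shift (det_compl hR) h
  rw [cls, if_neg hR]
  have e : (⟨P.phi (compl R + x • R) R, P.phi_mem _ _⟩ : ↥Q) =
      ⟨P.phi (compl R) R, P.phi_mem _ _⟩ * ⟨P.co.z x, P.co.z_mem_Q P.setup x⟩ :=
    Subtype.ext (P.phi_mul_z (det_compl hR) x).symm
  rw [e, cl_mul, P.cl_z, add_zero]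

theorem cls_inj {R S : F × F} (hR : R ≠ 0) (hS : S ≠ 0) (e : P.cls R = P.cls S) : R = S := by
  rw [P.cls_eq (det_compl hR), P.cls_eq (det_compl hS)] at e
  obtain ⟨x, hx⟩ := P.center_sq (cl_eq e)
  have e' : P.phi (compl S) S = P.phi (compl R + x • R) R := by
    rw [← P.phi_mul_z (det_compl hR), hx]; simp
  exact (P.phi_inj (det_compl hS) (by rw [LData.det_line (det_compl hR)]) e').2.symm

end LFrame

end Cfsg.Agent.SuzukiRankOne
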