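import Cfsg.Agent.Lib.SuzukiRankOne.Unitary.Data
/-!
# `|Q| = q³`: everything is determined by `qr`

* `LFrame.mul_label`, `LFrame.qr_form`, `LFrame.cls_add` : consequences of the line datum in terms of `qr`;
* `LFrame.exists_same_qr` : two frames over the same field admit base points with equal `qr`.
-/

set_option autoImplicit false

namespace Cfsg.Agent.SuzukiRankOne

open MulAction Cfsg.Agent.RankOne Cfsg.Agent.RankOne.Setup Unitary
open scoped MatrixGroups

universe u v w u' v'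

variable {G : Type u} {Ω : Type v} [Group G] [Finite G] [MulAction G Ω] [FaithfulSMul G Ω]
  {a : Ω} {t : G} {Q : Subgroup G} {F : Type w} [Field F] [Finite F] [CharP F 2]

namespace LFrame

variable (P : LFrame a t Q F)

theorem sig_hp {T R : F × F} (h : det₂ T R = 1) : P.sig (P.hp T R) = 1 := by
  letI := Fintype.ofFinite F
  exact (P.sdata).σ_eq_one h

/-- The linear line datum. -/
noncomputable def ldata : LData F (VQ Q) where
  toSData := P.sdata
  σ_one := fun _ _ h => P.sig_hp h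

theorem m_eq {T R : F × F} (h : det₂ T R = 1) : (P.mul (P.hp T R))⁻¹ = P.qr R / P.qr T := by
  have e : P.qr T * (P.mul (P.hp T R))⁻¹ = P.qr R := P.ldata.qr_mul_m h P.four_le
  rw [eq_div_iff (P.qr_ne (left_ne_zero (y := R) (by rw [h]; exact one_ne_zero))), mul_comm, e]

/-- The product formula. -/
theorem mul_label {T R : F × F} (h : det₂ T R = 1) {ζ : F} (hζ : ζ ≠ 0) :
    P.phi R T * P.phi (R + P.qr T • T) (T + (ζ⁻¹ * (P.qr R / P.qr T)) • (R + P.qr T • T)) =
      P.phi R (T + ζ • R) := by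
  obtain ⟨e1, e2⟩ := P.hp_line h
  have e := (P.line_parts h hζ).1
  rw [map_add, e2, P.Lmap_smul, P.sig_hp h] at e
  have eC : P.Lmap (P.hp T R) (P.rp T R) = (P.qr R / P.qr T) • (R + P.qr T • T) := by
    rw [← P.m_eq h, ← e1, inv_smul_smul₀ (P.mul_ne _)]
  rw [e1, eC, smul_smul] at e
  exact e

theorem qr_form {T R : F × F} (h : det₂ T R = 1) (c : F) :
    P.qr (T + c • R) * (P.qr R / P.qr T + c * P.qr R + c * c) = P.qr R := by
  rw [← P.m_eq h]
  exact P.ldata.qr_line h P.four_le c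

theorem qr_form_ne {T R : F × F} (h : det₂ T R = 1) (c : F) :
    P.qr R / P.qr T + c * P.qr R + c * c ≠ 0 := by
  rw [← P.m_eq h]
  exact P.ldata.quad_ne h P.four_le c

theorem cls_ne {R : F × F} (hR : R ≠ 0) : P.cls R ≠ 0 := fun e => by
  rw [P.cls_eq (det_compl hR), ← cl_one (Q := Q)] at e
  obtain ⟨x, hx⟩ := P.center_sq (cl_eq e)
  refine P.elt_sq_ne (sl (compl R) R) ?_
  have : P.phi (compl R) R = P.co.z x := by
    rw [← P.co.z_inv, hx]; simp
  show P.phi (compl R) R * P.phi (compl R) R = 1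
  rw [this, P.co.z_sq]

theorem cls_add {r₁ r₂ : F × F} (h : det₂ r₁ r₂ ≠ 0) :
    ∃ r₃, r₃ ≠ 0 ∧ P.cls r₁ + P.cls r₂ = P.cls r₃ ∧
      P.qr r₃ • r₃ = P.qr r₁ • r₁ + P.qr r₂ • r₂ :=
  P.ldata.add_eq P.four_le h

/-- Change of the base point. -/
noncomputable def move (g₀ : SL(2, F)) : LFrame a t Q F :=
  { P with
    x0 := P.hom g₀ • P.x0
    x0_mem := P.toFrame.smul_notMem_blk g₀ P.x0_mem }

theorem elt_move (g₀ g : SL(2, F)) : (P.move g₀).elt g = P.elt (g * g₀) :=
  P.eq_elt ((P.move g₀).elt_mem g) (by rw [(P.move g₀).elt_smul, map_mul, mul_smul]; rfl)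

theorem qr_move (g₀ : SL(2, F)) {R : F × F} (hR : R ≠ 0) : (P.move g₀).qr R = P.qr (rowMul R g₀) := by
  refine P.co.z_inj (((P.move g₀).phi_sq (det_compl hR)).symm.trans ?_)
  rw [phi, P.elt_move, P.elt_eq_phi, top_mul, bot_mul, top_sl (det_compl hR), bot_sl (det_compl hR)]
  exact P.phi_sq (by rw [det₂_rowMul]; exact det_compl hR)

theorem exists_unit : ∃ R, R ≠ 0 ∧ P.qr R = 1 := by
  letI := Fintype.ofFinite F
  obtain ⟨c, hc⟩ := FiniteField.isSquare_of_char_two (ringChar.eq F 2) (P.qr (1, 0))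
  have he : ((1, 0) : F × F) ≠ 0 := fun e => one_ne_zero (congrArg Prod.fst e)
  have hc0 : c ≠ 0 := fun e => P.qr_ne he (by rw [hc, e, mul_zero])
  refine ⟨c • (1, 0), fun e => hc0 ?_, ?_⟩
  · simpa using congrArg Prod.fst e
  · have := P.qr_smul (c := c) hc0 he
    rw [hc] at this
    exact mul_right_cancel₀ (mul_ne_zero hc0 hc0) (this.trans (one_mul _).symm)

theorem qr_form_one {T R : F × F} (h : det₂ T R = 1) (hR : P.qr R = 1) (c : F) :
    P.qr (T + c • R) * ((P.qr T)⁻¹ + c + c * c) = 1 ∧ (P.qr T)⁻¹ + c + c * c ≠ 0 := by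
  have e := P.qr_form h c
  have e' := P.qr_form_ne h c
  rw [hR, one_div, mul_one] at e e'
  exact ⟨e, e'⟩

theorem qr_smul' {c : F} {R : F × F} (hc : c ≠ 0) (hR : R ≠ 0) : P.qr (c • R) = P.qr R / (c * c) := by
  rw [eq_div_iff (mul_ne_zero hc hc), P.qr_smul hc hR]

variable {G' : Type u'} {Ω' : Type v'} [Group G'] [Finite G'] [MulAction G' Ω'] [FaithfulSMul G' Ω']
  {a' : Ω'} {t' : G'} {Q' : Subgroup G'}

/-- Base points with equal `qr`. -/
theorem exists_same_qr (P' : LFrame a' t' Q' F) :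
    ∃ P'' : LFrame a' t' Q' F, P''.toFrame = P'.toFrame ∧ ∀ R, R ≠ 0 → P''.qr R = P.qr R := by
  classical
  obtain ⟨R, hR0, hR⟩ := P.exists_unit
  obtain ⟨R', hR0', hR'⟩ := P'.exists_unit
  have h := det_compl hR0
  have h' := det_compl hR0'
  obtain ⟨δ, hδ⟩ : ∃ δ, δ = (P.qr (compl R))⁻¹ := ⟨_, rfl⟩
  obtain ⟨δ', hδ'⟩ : ∃ δ', δ' = (P'.qr (compl R'))⁻¹ := ⟨_, rfl⟩
  -- the two constants differ by `c + c²`
  let W : F →+ F := AddMonoidHom.mk' (fun c => c + c * c) fun x y => by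
    linear_combination (x * y) * CharTwo.two_eq_zero (R := F)
  have hker : Nat.card W.ker = 2 := by
    have hmem : ∀ c : F, c ∈ W.ker ↔ c = 0 ∨ c = 1 := fun c => by
      rw [AddMonoidHom.mem_ker]
      show c + c * c = 0 ↔ _
      rw [show c + c * c = c * (1 + c) by ring, mul_eq_zero, CharTwo.add_eq_zero, eq_comm (a := (1 : F))]
    rw [Nat.card_eq_two_iff' (⟨0, (hmem 0).2 (Or.inl rfl)⟩ : W.ker)]
    refine ⟨⟨1, (hmem 1).2 (Or.inr rfl)⟩, fun e => one_ne_zero (congrArg Subtype.val e), fun y hy => ?_⟩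
    exact Subtype.ext (((hmem y).1 y.2).resolve_left fun e => hy (Subtype.ext e))
  have hidx : W.range.index = 2 := by
    have h1 := W.range.index_mul_card
    have h2 := W.ker.index_mul_card
    rw [AddSubgroup.index_ker, hker] at h2
    exact Nat.eq_of_mul_eq_mul_right Nat.card_pos (h1.trans (h2.symm.trans (mul_comm _ _)))
  have hnot : ∀ {x : F}, (∀ c : F, x + c + c * c ≠ 0) → x ∉ W.range := fun {x} hx ⟨c, hc⟩ => hx c (by
    rw [← show c + c * c = x from hc]; linear_combination (c + c * c) * CharTwo.two_eq_zero (R := F))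
  obtain ⟨c, hc⟩ : δ' + δ ∈ W.range := (AddSubgroup.add_mem_iff_of_index_two hidx).2
    (iff_of_false (hnot fun c => hδ' ▸ (P'.qr_form_one h' hR' c).2)
      (hnot fun c => hδ ▸ (P.qr_form_one h hR c).2))
  have hT : δ' + c + c * c = δ := by
    have : c + c * c = δ' + δ := hc
    linear_combination this + δ' * CharTwo.two_eq_zero (R := F)
  obtain ⟨T', hT'⟩ : ∃ T', T' = compl R' + c • R' := ⟨_, rfl⟩
  have hd' : det₂ T' R' = 1 := hT' ▸ LData.det_line h' c
  have hqT : P'.qr T' = P.qr (compl R) := by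
    have e := (P'.qr_form_one h' hR' c).1
    rw [← hδ', hT, ← hT', hδ] at e
    exact mul_right_cancel₀ (inv_ne_zero (P.qr_ne (left_ne_zero (h.trans_ne one_ne_zero))))
      (e.trans (mul_inv_cancel₀ (P.qr_ne (left_ne_zero (h.trans_ne one_ne_zero)))).symm)
  refine ⟨P'.move ((sl (compl R) R)⁻¹ * sl T' R'), rfl, fun x hx => ?_⟩
  have hrow : ∀ v c : F, rowMul (v • compl R + c • R) ((sl (compl R) R)⁻¹ * sl T' R') = v • T' + c • R' := by
    intro v c
    have e1 : rowMul (compl R) ((sl (compl R) R)⁻¹ * sl T' R') = T' := by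
      conv_lhs => arg 1; rw [← top_sl h]
      rw [← top_mul, mul_inv_cancel_left, top_sl hd']
    have e2 : rowMul R ((sl (compl R) R)⁻¹ * sl T' R') = R' := by
      conv_lhs => arg 1; rw [← bot_sl h]
      rw [← bot_mul, mul_inv_cancel_left, bot_sl hd']
    rw [rowMul_add, rowMul_smul, rowMul_smul, e1, e2]
  rw [P'.qr_move _ hx]
  obtain ⟨v, d, rfl⟩ : ∃ v d : F, x = v • compl R + d • R := ⟨_, _, eq_comb h x⟩
  rw [hrow]
  rcases eq_or_ne v 0 with rfl | hv
  · have hd : d ≠ 0 := fun e => hx (by simp [e])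
    rw [zero_smul, zero_smul, zero_add, zero_add, P'.qr_smul' hd hR0', P.qr_smul' hd hR0, hR, hR']
  · rw [show v • compl R + d • R = v • (compl R + (v⁻¹ * d) • R) by
        rw [smul_add, smul_smul, mul_inv_cancel_left₀ hv],
      show v • T' + d • R' = v • (T' + (v⁻¹ * d) • R') by
        rw [smul_add, smul_smul, mul_inv_cancel_left₀ hv],
      P'.qr_smul' hv (left_ne_zero (y := R') (by rw [LData.det_line hd']; exact one_ne_zero)),
      P.qr_smul' hv (left_ne_zero (y := R) (by rw [LData.det_line h]; exact one_ne_zero))]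
    obtain ⟨e1, e0⟩ := P.qr_form_one h hR (v⁻¹ * d)
    have e1' := (P'.qr_form_one hd' hR' (v⁻¹ * d)).1
    rw [hqT] at e1'
    rw [mul_right_cancel₀ e0 (e1'.trans e1.symm)]

end LFrame

end Cfsg.Agent.SuzukiRankOne
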