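import Cfsg.Agent.EqLemmas
/-!
# The algebra of the line equation of a rank one set-up of unitary type

Rows `r : F × F` (`F` of characteristic two) label the non-zero elements `P r` of `Q/Z`, and
`qr r` is the square of `P r`.  For `det₂ T R = 1` put `rp = T + qr R • R`, `tf = R + qr rp • rp`;
then `P (T + z • R) + P T = P (L (tf + z⁻¹ • rp))`.
* `SData` : this datum with `L` semilinear;  `LData` : with `L` linear.
* `LData.C_eq` : `L rp = γ R + qr R • T`, `γ qr T = qr R`;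
* `LData.qr_line` : `qr (T + c • R) (γ + c qr R + c²) = qr R`;
* `LData.add_eq` : if `det₂ r₁ r₂ ≠ 0` then `P r₁ + P r₂ = P r₃` with
  `qr r₃ • r₃ = qr r₁ • r₁ + qr r₂ • r₂`.
-/

set_option autoImplicit false

namespace Cfsg.Agent.SuzukiRankOne.Unitary

variable {F : Type*} [Field F]

/-- The determinant in characteristic two. -/
def det₂ (x y : F × F) : F := x.1 * y.2 + x.2 * y.1

section det

variable (x y z : F × F) (a : F)

theorem det₂_comm : det₂ x y = det₂ y x := by unfold det₂; ring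
theorem det₂_add_left : det₂ (x + y) z = det₂ x z + det₂ y z := by
  simp only [det₂, Prod.fst_add, Prod.snd_add]; ring
theorem det₂_add_right : det₂ x (y + z) = det₂ x y + det₂ x z := by
  simp only [det₂, Prod.fst_add, Prod.snd_add]; ring
theorem det₂_smul_left : det₂ (a • x) y = a * det₂ x y := by
  simp only [det₂, Prod.smul_fst, Prod.smul_snd, smul_eq_mul]; ring
theorem det₂_smul_right : det₂ x (a • y) = a * det₂ x y := by
  simp only [det₂, Prod.smul_fst, Prod.smul_snd, smul_eq_mul]; ring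
theorem det₂_self [CharP F 2] : det₂ x x = 0 := by
  rw [det₂, mul_comm, CharTwo.add_self_eq_zero]
theorem det₂_zero_left : det₂ 0 y = 0 := by simp [det₂]
theorem det₂_zero_right : det₂ x 0 = 0 := by simp [det₂]

variable {x y z}

theorem left_ne_zero (h : det₂ x y ≠ 0) : x ≠ 0 := fun e => h (by rw [e, det₂_zero_left])
theorem right_ne_zero (h : det₂ x y ≠ 0) : y ≠ 0 := fun e => h (by rw [e, det₂_zero_right])

/-- Coordinates in a basis of determinant one. -/
theorem eq_comb [CharP F 2] {T R : F × F} (h : det₂ T R = 1) (v : F × F) :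
    v = det₂ v R • T + det₂ v T • R := by
  obtain ⟨a, b⟩ := v; obtain ⟨c, d⟩ := T; obtain ⟨e, f⟩ := R
  simp only [det₂] at h
  have h2 : (2 : F) = 0 := CharTwo.two_eq_zero
  refine Prod.ext ?_ ?_ <;>
    simp only [det₂, Prod.fst_add, Prod.snd_add, Prod.smul_fst, Prod.smul_snd, smul_eq_mul]
  · linear_combination (-a) * h - b * c * e * h2
  · linear_combination (-b) * h - a * d * f * h2

theorem eq_of_det₂ [CharP F 2] {T R : F × F} (h : det₂ T R = 1) {v w : F × F}
    (h1 : det₂ v R = det₂ w R) (h2 : det₂ v T = det₂ w T) : v = w := by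
  rw [eq_comb h v, eq_comb h w, h1, h2]

end det

/-- The abstract line datum, `L` semilinear. -/
structure SData (F : Type*) [Field F] (V : Type*) [AddCommGroup V] where
  P : F × F → V
  two_V : ∀ v : V, v + v = 0
  inj : ∀ r s, r ≠ 0 → s ≠ 0 → P r = P s → r = s
  qr : F × F → F
  qr_ne : ∀ r, r ≠ 0 → qr r ≠ 0
  qr_smul : ∀ (a : F) (r : F × F), a ≠ 0 → r ≠ 0 → qr (a • r) * (a * a) = qr r
  L : F × F → F × F → (F × F →+ F × F)
  m : F × F → F × F → F
  σ : F × F → F × F → (F ≃+* F)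
  m_ne : ∀ T R, det₂ T R = 1 → m T R ≠ 0
  L_smul : ∀ T R, det₂ T R = 1 → ∀ (a : F) (x : F × F), L T R (a • x) = σ T R a • L T R x
  hsum : ∀ T R, det₂ T R = 1 → ∀ z : F, z ≠ 0 →
    P (T + z • R) + P T =
      P (L T R ((R + qr (T + qr R • R) • (T + qr R • R)) + z⁻¹ • (T + qr R • R)))
  hLtf : ∀ T R, det₂ T R = 1 → L T R (R + qr (T + qr R • R) • (T + qr R • R)) = T
  hdet : ∀ T R, det₂ T R = 1 → ∀ x y, det₂ (L T R x) (L T R y) = m T R * σ T R (det₂ x y)
  hqr : ∀ T R, det₂ T R = 1 → ∀ x, x ≠ 0 → qr (L T R x) * m T R = σ T R (qr x)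
  hadd : ∀ T R, det₂ T R = 1 → ∀ r₁ r₂ r₃, r₁ ≠ 0 → r₂ ≠ 0 → r₃ ≠ 0 → P r₁ + P r₂ = P r₃ →
    P (L T R r₁) + P (L T R r₂) = P (L T R r₃)
  hσ_rp : ∀ T R, det₂ T R = 1 → σ (T + qr R • R) R = (σ T R)⁻¹
  hm_rp : ∀ T R, det₂ T R = 1 → m (T + qr R • R) R = (σ T R)⁻¹ (m T R)
  hσ_swap : ∀ T R, det₂ T R = 1 → σ R T = (σ T R)⁻¹
  hσ_scale : ∀ T R, det₂ T R = 1 → ∀ a : F, a ≠ 0 → σ (a⁻¹ • T) (a • R) = σ T R
  hσ_coc : ∀ T R, det₂ T R = 1 → ∀ z : F, z ≠ 0 →
    σ (T + z • R) R = σ T R *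
      σ ((R + qr (T + qr R • R) • (T + qr R • R)) + z⁻¹ • (T + qr R • R)) (T + qr R • R)
  hσ_odd : ∀ T R, det₂ T R = 1 → Odd (orderOf (σ T R))

/-- The datum with `L` linear. -/
structure LData (F : Type*) [Field F] (V : Type*) [AddCommGroup V] extends SData F V where
  σ_one : ∀ T R, det₂ T R = 1 → σ T R = 1

namespace LData

variable {V : Type*} [AddCommGroup V] [CharP F 2] (D : LData F V)

/-- `rp`. -/
def rp (T R : F × F) : F × F := T + D.qr R • R
/-- `tf`. -/
def tf (T R : F × F) : F × F := R + D.qr (D.rp T R) • D.rp T R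
/-- The image of `rp`. -/
def C (T R : F × F) : F × F := D.L T R (D.rp T R)

variable {T R : F × F} (h : det₂ T R = 1)
include h

omit h in
theorem P_inj {r s : F × F} (hr : r ≠ 0) (hs : s ≠ 0) (e : D.P r = D.P s) : r = s := D.inj r s hr hs e

theorem det_RT : det₂ R T = 1 := by rw [det₂_comm]; exact h

theorem det_line (c : F) : det₂ (T + c • R) R = 1 := by
  rw [det₂_add_left, det₂_smul_left, det₂_self, mul_zero, add_zero, h]

theorem det_rp : det₂ (D.rp T R) R = 1 := det_line h _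

theorem det_tf : det₂ (D.tf T R) (D.rp T R) = 1 := by
  rw [tf, det_line (R := D.rp T R) (T := R) (by rw [det₂_comm]; exact D.det_rp h)]

theorem L_smul' (a : F) (x : F × F) : D.L T R (a • x) = a • D.L T R x := by
  rw [D.L_smul T R h, D.σ_one T R h]; rfl

theorem L_tf : D.L T R (D.tf T R) = T := D.hLtf T R h

theorem L_aff (u : F) : D.L T R (D.tf T R + u • D.rp T R) = T + u • D.C T R := by
  rw [map_add, D.L_smul' h, D.L_tf h]; rfl

theorem det_L (x y : F × F) : det₂ (D.L T R x) (D.L T R y) = D.m T R * det₂ x y := by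
  rw [D.hdet T R h, D.σ_one T R h]; rfl

theorem qr_L {x : F × F} (hx : x ≠ 0) : D.qr (D.L T R x) * D.m T R = D.qr x := by
  rw [D.hqr T R h x hx, D.σ_one T R h]; rfl

theorem sum_line {z : F} (hz : z ≠ 0) : D.P (T + z • R) + D.P T = D.P (T + z⁻¹ • D.C T R) := by
  rw [D.hsum T R h z hz, ← D.L_aff h]; rfl

theorem det_C : det₂ (D.C T R) T = D.m T R := by
  conv_lhs => arg 2; rw [← D.L_tf h]
  rw [C, D.det_L h, det₂_comm, D.det_tf h, mul_one]

theorem aff_ne (u : F) : T + u • D.C T R ≠ 0 := by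
  intro e
  have := congrArg (fun v => det₂ (D.C T R) v) e
  simp only [det₂_add_right, det₂_smul_right, det₂_self, mul_zero, add_zero, det₂_zero_right] at this
  exact D.m_ne T R h (by rw [← D.det_C h]; exact this)

theorem m_rp : D.m (D.rp T R) R = D.m T R := by
  rw [show D.rp T R = T + D.qr R • R from rfl, D.hm_rp T R h, D.σ_one T R h]; rfl

theorem rp_line (c : F) : D.rp (T + c • R) R = D.rp T R + c • R := by
  simp only [rp]; abel

/-- All base points of a line give the same image. -/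
theorem C_line (c : F) : D.C (T + c • R) R = D.C T R + (c * c) • R := by
  rcases eq_or_ne c 0 with rfl | hc
  · simp
  have h' := det_line h c
  have h2 : ∀ x : F, x + x = 0 := CharTwo.add_self_eq_zero
  have e1 := D.sum_line h hc
  have e2 := D.sum_line h' hc
  have hback : T + c • R + c • R = T := by rw [add_assoc, ← add_smul, h2, zero_smul, add_zero]
  rw [hback, add_comm (D.P T), e1] at e2
  have e3 := D.P_inj (D.aff_ne h _) (D.aff_ne h' _) e2
  have e4 := congrArg (fun v => c • v) e3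
  simp only [smul_add, smul_smul, mul_inv_cancel₀ hc, one_smul] at e4
  have e5 : D.C (T + c • R) R = (c • T + D.C T R) + (c • T + (c * c) • R) := by
    rw [e4]
    have : ∀ v : F × F, v + v = 0 := fun v => by
      rw [← two_smul F, CharTwo.two_eq_zero, zero_smul]
    calc D.C (T + c • R) R = D.C (T + c • R) R + ((c • T + c • T) + ((c * c) • R + (c * c) • R)) := by
          rw [this, this, add_zero, add_zero]
      _ = _ := by abel
  rw [e5]
  calc c • T + D.C T R + (c • T + (c * c) • R) = D.C T R + (c * c) • R + (c + c) • T := by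
        rw [add_smul]; abel
    _ = _ := by rw [h2, zero_smul, add_zero]

theorem m_line (c : F) :
    D.m (T + c • R) R = D.m T R + c * det₂ (D.C T R) R + c * c := by
  rw [← D.det_C (det_line h c), D.C_line h c]
  simp only [det₂_add_left, det₂_add_right, det₂_smul_left, det₂_smul_right, det₂_self,
    det_RT h, D.det_C h]
  ring

theorem det_C_R : det₂ (D.C T R) R = D.qr R := by
  have hq := D.qr_ne R (right_ne_zero (by rw [h]; exact one_ne_zero))
  have e := D.m_line h (D.qr R)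
  rw [show T + D.qr R • R = D.rp T R from rfl, D.m_rp h] at e
  have h2 : ∀ x : F, x + x = 0 := CharTwo.add_self_eq_zero
  have : D.qr R * (det₂ (D.C T R) R + D.qr R) = 0 := by linear_combination -e
  rcases mul_eq_zero.1 this with e' | e'
  · exact absurd e' hq
  · rwa [CharTwo.add_eq_zero] at e'

theorem C_eq : D.C T R = D.m T R • R + D.qr R • T := by
  refine eq_of_det₂ h ?_ ?_ <;>
    simp only [det₂_add_left, det₂_smul_left, det₂_self, det_RT h, h, D.det_C h, D.det_C_R h,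
      mul_zero, mul_one, add_zero, zero_add]

theorem m_line' (c : F) : D.m (T + c • R) R = D.m T R + c * D.qr R + c * c := by
  rw [D.m_line h, D.det_C_R h]

/-- The secant through two points of a line. -/
theorem secant {c z : F} (hcz : c ≠ z) :
    D.P (T + c • R) + D.P (T + z • R) =
      D.P ((T + c • R) + (c + z)⁻¹ • (D.C T R + (c * c) • R)) := by
  have hne : c + z ≠ 0 := fun e => hcz (CharTwo.add_eq_zero.1 e)
  have e := D.sum_line (det_line h c) hne
  rw [D.C_line h] at e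
  rw [← e, add_comm (D.P _), add_assoc T, ← add_smul, ← add_assoc c, CharTwo.add_self_eq_zero, zero_add]

theorem qr_rp (hF : ∃ c z : F, c ≠ 0 ∧ z ≠ 0 ∧ c ≠ z) : D.qr (D.rp T R) * D.m T R = D.qr R := by
  obtain ⟨c, z, hc, hz, hcz⟩ := hF
  set γ := D.m T R with hγ
  set γ₂ := D.m (D.tf T R) (D.rp T R) with hγ₂
  set q₁ := D.qr R with hq₁
  set q₂ := D.qr (D.rp T R) with hq₂
  have hg := D.det_tf h
  have hne : c + z ≠ 0 := fun e => hcz (CharTwo.add_eq_zero.1 e)
  have hss : c⁻¹ ≠ z⁻¹ := fun e => hcz (inv_injective e)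
  have hne' : c⁻¹ + z⁻¹ ≠ 0 := fun e => hss (CharTwo.add_eq_zero.1 e)
  have n1 : ∀ u : F, D.tf T R + u • D.rp T R ≠ 0 := fun u =>
    left_ne_zero (y := D.rp T R) (by rw [det_line hg]; exact one_ne_zero)
  obtain ⟨X, hX⟩ : ∃ X, X = (D.tf T R + c⁻¹ • D.rp T R) +
      (c⁻¹ + z⁻¹)⁻¹ • (D.C (D.tf T R) (D.rp T R) + (c⁻¹ * c⁻¹) • D.rp T R) := ⟨_, rfl⟩
  have hXne : X ≠ 0 := by
    rw [hX, ← D.C_line hg]
    exact D.aff_ne (det_line hg _) _
  have e1 := D.hadd T R h _ _ _ (n1 c⁻¹) (n1 z⁻¹) hXne (by rw [hX]; exact D.secant hg hss)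
  rw [D.L_aff h, D.L_aff h, ← D.sum_line h hc, ← D.sum_line h hz] at e1
  have e2 : D.P (T + c • R) + D.P (T + z • R) = D.P (D.L T R X) := by
    rw [← e1]
    have : D.P T + D.P T = 0 := D.two_V _
    calc D.P (T + c • R) + D.P (T + z • R)
        = D.P (T + c • R) + D.P (T + z • R) + (D.P T + D.P T) := by rw [this, add_zero]
      _ = _ := by abel
  rw [D.secant h hcz] at e2
  have hLX : D.L T R X ≠ 0 := by
    intro e0
    obtain ⟨y, hy⟩ : ∃ y, det₂ X y ≠ 0 := by
      by_contra hcon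
      push Not at hcon
      refine hXne (Prod.ext ?_ ?_)
      · simpa [det₂] using hcon (0, 1)
      · simpa [det₂] using hcon (1, 0)
    have := D.det_L h X y
    rw [e0, det₂_zero_left] at this
    exact hy ((mul_eq_zero.1 this.symm).resolve_left (D.m_ne T R h))
  have hl : T + c • R + (c + z)⁻¹ • (D.C T R + (c * c) • R) ≠ 0 := by
    rw [← D.C_line h]; exact D.aff_ne (det_line h c) _
  have e3 := D.P_inj hl hLX e2
  rw [hX, D.C_eq hg, D.C_eq h] at e3
  simp only [map_add, D.L_smul' h, D.L_tf h] at e3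
  rw [show D.L T R (D.rp T R) = D.C T R from rfl, D.C_eq h] at e3
  have f1 := congrArg (fun v => det₂ v T) e3
  have f2 := congrArg (fun v => det₂ v R) e3
  simp only [det₂_add_left, det₂_smul_left, det₂_self, det_RT h, h, mul_zero, mul_one, add_zero,
    zero_add, ← hγ, ← hγ₂, ← hq₁, ← hq₂] at f1 f2
  have h2 : (2 : F) = 0 := CharTwo.two_eq_zero
  have hi : (c⁻¹ + z⁻¹)⁻¹ = c * z * (c + z)⁻¹ := by
    rw [show c⁻¹ + z⁻¹ = (c + z) * (c * z)⁻¹ by field_simp; ring, mul_inv_rev, inv_inv]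
  rw [hi] at f1 f2
  field_simp at f1 f2
  have g1 : γ * γ₂ = 1 := by
    have : (c + z) * (c * z) * (γ * γ₂ + 1) = 0 := by grind
    rcases mul_eq_zero.1 this with e' | e'
    · simp [hne, hc, hz] at e'
    · rwa [CharTwo.add_eq_zero] at e'
  grind

variable (hF : ∃ c z : F, c ≠ 0 ∧ z ≠ 0 ∧ c ≠ z)
include hF

theorem qr_mul_m : D.qr T * D.m T R = D.qr R := by
  have h2 : ∀ x : F, x + x = 0 := CharTwo.add_self_eq_zero
  have e := D.qr_rp (D.det_rp h) hF
  have hrp : D.rp (D.rp T R) R = T := by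
    simp only [rp]; rw [add_assoc, ← add_smul, h2, zero_smul, add_zero]
  rwa [hrp, D.m_rp h] at e

theorem qr_line (c : F) : D.qr (T + c • R) * (D.m T R + c * D.qr R + c * c) = D.qr R := by
  rw [← D.m_line' h c]; exact D.qr_mul_m (det_line h c) hF

theorem quad_ne (c : F) : D.m T R + c * D.qr R + c * c ≠ 0 := by
  rw [← D.m_line' h c]; exact D.m_ne _ _ (det_line h c)

omit h in
/-- Additivity. -/
theorem add_eq {r₁ r₂ : F × F} (hd : det₂ r₁ r₂ ≠ 0) :
    ∃ r₃, r₃ ≠ 0 ∧ D.P r₁ + D.P r₂ = D.P r₃ ∧ D.qr r₃ • r₃ = D.qr r₁ • r₁ + D.qr r₂ • r₂ := by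
  obtain ⟨z, hz⟩ : ∃ z, z = det₂ r₁ r₂ := ⟨_, rfl⟩
  have hz0 : z ≠ 0 := hz ▸ hd
  obtain ⟨R, hR⟩ : ∃ R, R = z⁻¹ • (r₁ + r₂) := ⟨_, rfl⟩
  have h : det₂ r₁ R = 1 := by
    rw [hR, det₂_smul_right, det₂_add_right, det₂_self, zero_add, ← hz, inv_mul_cancel₀ hz0]
  have hr₂ : r₂ = r₁ + z • R := by
    rw [hR, smul_smul, mul_inv_cancel₀ hz0, one_smul, ← add_assoc]
    have : r₁ + r₁ = 0 := by rw [← two_smul F, CharTwo.two_eq_zero, zero_smul]
    rw [this, zero_add]
  have hg := D.det_tf h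
  refine ⟨r₁ + z⁻¹ • D.C r₁ R, D.aff_ne h _, ?_, ?_⟩
  · rw [hr₂, add_comm, D.sum_line h hz0]
  have q0 := D.qr_mul_m h hF
  have q1 := D.qr_line h hF z
  have m0 := D.m_ne _ _ h
  have m1 := D.quad_ne h hF z
  have q2 := D.qr_rp h hF
  have q3 := D.qr_line hg hF z⁻¹
  have m2 := D.quad_ne hg hF z⁻¹
  have q4 := D.qr_mul_m hg hF
  have hx : D.tf r₁ R + z⁻¹ • D.rp r₁ R ≠ 0 :=
    left_ne_zero (y := D.rp r₁ R) (by rw [det_line hg]; exact one_ne_zero)
  have q5 := D.qr_L h hx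
  rw [D.L_aff h] at q5
  have htf : D.qr (D.tf r₁ R) = D.qr R := by
    have hsw : det₂ R (D.rp r₁ R) = 1 := by rw [det₂_comm]; exact D.det_rp h
    have e := D.qr_rp hsw hF
    have e' := D.qr_mul_m hsw hF
    rw [show D.rp R (D.rp r₁ R) = D.tf r₁ R from rfl] at e
    exact mul_right_cancel₀ (D.m_ne _ _ hsw) (e.trans e'.symm)
  obtain ⟨A, hA⟩ : ∃ A, A = D.qr (r₁ + z⁻¹ • D.C r₁ R) := ⟨_, rfl⟩
  rw [← hA] at q5 ⊢
  rw [hr₂, D.C_eq h]
  rw [htf] at q4
  refine eq_of_det₂ h ?_ ?_ <;>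
    simp only [det₂_add_left, det₂_smul_left, det₂_self, det_RT h, h, mul_zero, mul_one, add_zero,
      zero_add] <;>
    field_simp at q0 q1 q2 q3 q4 q5 m2 ⊢ <;> grind

end LData

end Cfsg.Agent.SuzukiRankOne.Unitary
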