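import Cfsg.Agent.Lib.SuzukiRankOne.Unitary.Plane
/-!
# The transvections attached to the line datum

`φ` takes values in an abelian group without involutions and satisfies
`φ (tr R (qr R) x) = φ R ^ 2 / φ x`.  If `φ` is not constant then the transvections generate a
group with exactly one transvection at each centre; hence `qr` is invariant and the map
`S ↦ det₂ S R` on `{qr = 1}` is at most two to one.
-/

set_option autoImplicit false

namespace Cfsg.Agent.SuzukiRankOne.Unitary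

variable {F : Type*} [Field F] [CharP F 2]

/-- The transvection with centre `R` and parameter `b`. -/
def tr (R : F × F) (b : F) (x : F × F) : F × F := x + (b * det₂ x R) • R

theorem tr_add (R : F × F) (b : F) (x y : F × F) : tr R b (x + y) = tr R b x + tr R b y := by
  simp only [tr, det₂_add_left, mul_add, add_smul]; abel

theorem tr_smul (R : F × F) (b a : F) (x : F × F) : tr R b (a • x) = a • tr R b x := by
  simp only [tr, det₂_smul_left, smul_add, smul_smul]; ring_nf

theorem tr_tr (R : F × F) (b c : F) (x : F × F) : tr R b (tr R c x) = tr R (b + c) x := by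
  simp only [tr, det₂_add_left, det₂_smul_left, det₂_self, mul_zero, add_zero, add_mul, add_smul]
  abel

theorem tr_zero (R x : F × F) : tr R 0 x = x := by simp [tr]

theorem tr_self (R : F × F) (b : F) : tr R b R = R := by simp [tr, det₂_self]

theorem tr_invol (R : F × F) (b : F) (x : F × F) : tr R b (tr R b x) = x := by
  rw [tr_tr, CharTwo.add_self_eq_zero, tr_zero]

theorem det₂_tr (R : F × F) (b : F) (x y : F × F) : det₂ (tr R b x) (tr R b y) = det₂ x y := by
  simp only [tr, det₂_add_left, det₂_add_right, det₂_smul_left, det₂_smul_right, det₂_self,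
    det₂_comm R y]
  linear_combination (b * det₂ x R * det₂ y R) * CharTwo.two_eq_zero (R := F)

theorem tr_ne_zero {R x : F × F} {b : F} (hx : x ≠ 0) : tr R b x ≠ 0 := fun e => hx (by
  have := tr_invol R b x; rw [e] at this; simpa [tr, det₂_zero_left] using this.symm)

theorem tr_smul_centre (R : F × F) (b a : F) : tr (a • R) b = tr R (a * a * b) := by
  funext x; simp only [tr, det₂_smul_right, smul_smul]; ring_nf

theorem exists_det_ne {x : F × F} (hx : x ≠ 0) : ∃ y, det₂ x y ≠ 0 := by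
  by_contra hcon
  push Not at hcon
  refine hx (Prod.ext ?_ ?_)
  · simpa [det₂] using hcon (0, 1)
  · simpa [det₂] using hcon (1, 0)

theorem eq_smul_of_det₂ {x R : F × F} (hR : R ≠ 0) (h : det₂ x R = 0) : ∃ a : F, x = a • R := by
  obtain ⟨y, hy⟩ := exists_det_ne hR
  have h1 : det₂ ((det₂ R y)⁻¹ • y) R = 1 := by
    rw [det₂_smul_left, det₂_comm y R, inv_mul_cancel₀ hy]
  refine ⟨det₂ x ((det₂ R y)⁻¹ • y), ?_⟩
  conv_lhs => rw [eq_comb h1 x, h, zero_smul, zero_add]

theorem tr_centre {A B : F × F} {a b : F} (hA : A ≠ 0) (ha : a ≠ 0) (h : tr A a = tr B b) :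
    det₂ A B = 0 := by
  obtain ⟨y, hy⟩ := exists_det_ne hA
  have e1 := congrFun h A
  simp only [tr, det₂_self, mul_zero, zero_smul, add_zero, left_eq_add] at e1
  rcases smul_eq_zero.1 e1 with e | e
  · rcases mul_eq_zero.1 e with e' | e'
    · exfalso
      have e2 := congrFun h y
      simp only [tr, e', zero_mul, zero_smul, add_zero, add_eq_left, smul_eq_zero, mul_eq_zero] at e2
      rcases e2 with (e2 | e2) | e2
      · exact ha e2
      · exact hy (by rw [det₂_comm]; exact e2)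
      · exact hA e2
    · exact e'
  · rw [e, det₂_zero_right]

/-- A set of vectors closed under scalars and under one transvection at each centre. -/
theorem orbit_all [Fintype F] (b : F × F → F) (hb : ∀ R, R ≠ 0 → b R ≠ 0)
    (hF : 2 ≤ Fintype.card F) (Y : Set (F × F)) (hne : Y.Nonempty) (h0 : (0 : F × F) ∉ Y)
    (hsc : ∀ (a : F) x, a ≠ 0 → x ∈ Y → a • x ∈ Y)
    (hinv : ∀ R, R ≠ 0 → ∀ x ∈ Y, tr R (b R) x ∈ Y) : ∀ x, x ≠ 0 → x ∈ Y := by
  classical
  intro x hx
  by_contra hxY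
  obtain ⟨y, hy⟩ := hne
  have hy0 : y ≠ 0 := fun e => h0 (e ▸ hy)
  let P : Finset (F × F) := Finset.univ.filter fun v => v ∈ Y
  have key : ∀ R, R ≠ 0 → ((P.card : ZMod 2)) = ((P.filter fun v => det₂ v R = 0).card : ZMod 2) := by
    intro R hR
    rw [← Finset.card_filter_add_card_filter_not (s := P) (fun v => det₂ v R = 0), Nat.cast_add,
      add_eq_left, Finset.card_eq_sum_ones, Nat.cast_sum]
    refine Finset.sum_involution (fun v _ => tr R (b R) v) (fun v _ => by simp; decide) ?_ ?_ ?_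
    · intro v hv _ e
      simp only [Finset.mem_filter] at hv
      simp only [tr, add_eq_left, smul_eq_zero, mul_eq_zero] at e
      rcases e with (e | e) | e
      · exact hb R hR e
      · exact hv.2 e
      · exact hR e
    · intro v hv
      simp only [Finset.mem_filter, P, Finset.mem_univ, true_and] at hv ⊢
      refine ⟨hinv R hR v hv.1, ?_⟩
      rw [tr, det₂_add_left, det₂_smul_left, det₂_self, mul_zero, add_zero]
      exact hv.2
    · exact fun v _ => tr_invol R _ v
  have hy1 : (P.filter fun v => det₂ v y = 0) = (Finset.univ.erase (0 : F)).image (· • y) := by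
    ext v
    simp only [P, Finset.mem_filter, Finset.mem_univ, true_and, Finset.mem_image, Finset.mem_erase, and_true]
    constructor
    · rintro ⟨hv, hd⟩
      obtain ⟨a, rfl⟩ := eq_smul_of_det₂ hy0 hd
      exact ⟨a, fun e => h0 (by simpa [e] using hv), rfl⟩
    · rintro ⟨a, ha, rfl⟩
      exact ⟨hsc a y ha hy, by rw [det₂_smul_left, det₂_self, mul_zero]⟩
  have hx1 : (P.filter fun v => det₂ v x = 0) = ∅ := by
    refine Finset.filter_eq_empty_iff.2 fun v hv hd => ?_
    simp only [P, Finset.mem_filter, Finset.mem_univ, true_and] at hv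
    obtain ⟨a, rfl⟩ := eq_smul_of_det₂ hx hd
    have ha : a ≠ 0 := fun e => h0 (by simpa [e] using hv)
    exact hxY (by simpa [smul_smul, inv_mul_cancel₀ ha] using hsc a⁻¹ _ (inv_ne_zero ha) hv)
  have e := (key y hy0).symm.trans (key x hx)
  rw [hy1, hx1, Finset.card_image_of_injective _ (smul_left_injective F hy0),
    Finset.card_erase_of_mem (Finset.mem_univ _), Finset.card_univ, Finset.card_empty,
    Nat.cast_zero, ZMod.natCast_eq_zero_iff_even] at e
  obtain ⟨m, -, hm⟩ := FiniteField.card F 2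
  have he : Even (Fintype.card F) := by
    rw [hm, Nat.even_pow]; exact ⟨even_two, m.pos.ne'⟩
  obtain ⟨i, hi⟩ := e; obtain ⟨j, hj⟩ := he; omega

/-- The hypothesis: `qr` and `φ`. -/
structure Refl (F : Type*) [Field F] (A : Type*) [CommGroup A] where
  qr : F × F → F
  qr_ne : ∀ R, R ≠ 0 → qr R ≠ 0
  qr_smul : ∀ (a : F) (R : F × F), a ≠ 0 → R ≠ 0 → qr (a • R) * (a * a) = qr R
  φ : F × F → A
  φ_smul : ∀ (a : F) (x : F × F), a ≠ 0 → x ≠ 0 → φ (a • x) = φ x
  φ_tr : ∀ R, R ≠ 0 → ∀ x, x ≠ 0 → φ (tr R (qr R) x) = φ R ^ 2 / φ x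
  no_two : ∀ x y : F × F, x ≠ 0 → y ≠ 0 → φ x ^ 2 = φ y ^ 2 → φ x = φ y

namespace Refl

variable {A : Type*} [CommGroup A] (D : Refl F A)

/-- The generated group, as a predicate on functions. -/
inductive Gen : ((F × F) → (F × F)) → Prop
  | one : Gen id
  | cons {R : F × F} (hR : R ≠ 0) {g : (F × F) → (F × F)} : Gen g → Gen (tr R (D.qr R) ∘ g)

variable {D}

theorem gen_tr {R : F × F} (hR : R ≠ 0) : D.Gen (tr R (D.qr R)) := Gen.cons hR Gen.one

theorem Gen.comp {g g' : (F × F) → (F × F)} (hg : D.Gen g) (hg' : D.Gen g') : D.Gen (g ∘ g') := by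
  induction hg with
  | one => exact hg'
  | cons hR _ ih => exact Gen.cons hR ih

theorem Gen.exists_inv {g : (F × F) → (F × F)} (hg : D.Gen g) :
    ∃ g', D.Gen g' ∧ (∀ x, g' (g x) = x) ∧ ∀ x, g (g' x) = x := by
  induction hg with
  | one => exact ⟨id, Gen.one, fun _ => rfl, fun _ => rfl⟩
  | @cons R hR g _ ih =>
    obtain ⟨g', hg', h1, h2⟩ := ih
    exact ⟨g' ∘ tr R (D.qr R), hg'.comp (gen_tr hR), fun x => by simp [tr_invol, h1],
      fun x => by simp [h2, tr_invol]⟩

theorem Gen.map_add {g : (F × F) → (F × F)} (hg : D.Gen g) (x y : F × F) : g (x + y) = g x + g y := by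
  induction hg with
  | one => rfl
  | cons _ _ ih => simp only [Function.comp_apply, ih, tr_add]

theorem Gen.map_smul {g : (F × F) → (F × F)} (hg : D.Gen g) (a : F) (x : F × F) :
    g (a • x) = a • g x := by
  induction hg with
  | one => rfl
  | cons _ _ ih => simp only [Function.comp_apply, ih, tr_smul]

theorem Gen.det {g : (F × F) → (F × F)} (hg : D.Gen g) (x y : F × F) :
    det₂ (g x) (g y) = det₂ x y := by
  induction hg with
  | one => rfl
  | cons _ _ ih => simp only [Function.comp_apply, det₂_tr, ih]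

theorem Gen.ne_zero {g : (F × F) → (F × F)} (hg : D.Gen g) {x : F × F} (hx : x ≠ 0) : g x ≠ 0 := by
  induction hg with
  | one => exact hx
  | cons _ _ ih => exact tr_ne_zero ih

theorem Gen.affine {g : (F × F) → (F × F)} (hg : D.Gen g) :
    ∃ c : A, (∀ x, x ≠ 0 → D.φ (g x) = c * D.φ x) ∨ ∀ x, x ≠ 0 → D.φ (g x) = c / D.φ x := by
  induction hg with
  | one => exact ⟨1, Or.inl fun x _ => (one_mul _).symm⟩
  | @cons R hR g hg ih =>
    obtain ⟨c, h | h⟩ := ih
    · exact ⟨D.φ R ^ 2 / c, Or.inr fun x hx => by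
        rw [Function.comp_apply, D.φ_tr R hR _ (hg.ne_zero hx), h x hx, div_div]⟩
    · exact ⟨D.φ R ^ 2 / c, Or.inl fun x hx => by
        rw [Function.comp_apply, D.φ_tr R hR _ (hg.ne_zero hx), h x hx, div_div_eq_mul_div,
          div_mul_eq_mul_div]⟩

theorem Gen.conj_tr {g g' : (F × F) → (F × F)} (hg : D.Gen g) (h2 : ∀ x, g (g' x) = x)
    (R : F × F) (b : F) : g ∘ tr R b ∘ g' = tr (g R) b := by
  funext x
  have e : det₂ (g' x) R = det₂ x (g R) := by rw [← hg.det, h2]
  simp only [Function.comp_apply, tr, hg.map_add, hg.map_smul, h2, e]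

variable [Fintype F]

theorem const_of_shift {R : F × F} (hR : R ≠ 0) {b : F} (hb : b ≠ 0) (hg : D.Gen (tr R b))
    (hφ : ∀ x, x ≠ 0 → D.φ (tr R b x) = D.φ x) (x : F × F) (hx : x ≠ 0) : D.φ x = D.φ R := by
  classical
  have h2 : 2 ≤ Fintype.card F := Fintype.one_lt_card
  -- the group is transitive
  have htrans : ∀ S, S ≠ 0 → ∃ (a : F) (g : (F × F) → (F × F)), a ≠ 0 ∧ D.Gen g ∧ S = a • g R := by
    intro S hS
    refine orbit_all D.qr D.qr_ne h2 {S | ∃ (a : F) (g : (F × F) → (F × F)), a ≠ 0 ∧ D.Gen g ∧ S = a • g R}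
      ⟨R, 1, id, one_ne_zero, Gen.one, (one_smul F R).symm⟩ ?_ ?_ ?_ S hS
    · rintro ⟨a, g, ha, hg', e⟩
      exact hg'.ne_zero hR ((smul_eq_zero.1 e.symm).resolve_left ha)
    · rintro c _ hc ⟨a, g, ha, hg', rfl⟩
      exact ⟨c * a, g, mul_ne_zero hc ha, hg', smul_smul _ _ _⟩
    · rintro T hT _ ⟨a, g, ha, hg', rfl⟩
      exact ⟨a, _, ha, Gen.cons hT hg', tr_smul _ _ _ _⟩
  -- a shift-free transvection at every centre
  have hall : ∀ S, S ≠ 0 → ∃ c : F, c ≠ 0 ∧ ∀ y, y ≠ 0 → D.φ (tr S c y) = D.φ y := by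
    intro S hS
    obtain ⟨a, g, ha, hg', rfl⟩ := htrans S hS
    obtain ⟨g', hg'', h1, h2'⟩ := hg'.exists_inv
    refine ⟨b / (a * a), div_ne_zero hb (mul_ne_zero ha ha), fun y hy => ?_⟩
    rw [tr_smul_centre, mul_div_cancel₀ _ (mul_ne_zero ha ha), ← hg'.conj_tr h2']
    simp only [Function.comp_apply]
    obtain ⟨c, hc | hc⟩ := hg'.affine
    · rw [hc _ (tr_ne_zero (hg''.ne_zero hy)), hφ _ (hg''.ne_zero hy), ← hc _ (hg''.ne_zero hy), h2']
    · rw [hc _ (tr_ne_zero (hg''.ne_zero hy)), hφ _ (hg''.ne_zero hy), ← hc _ (hg''.ne_zero hy), h2']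
  choose! c hc0 hc using hall
  exact (orbit_all c hc0 h2 {y | y ≠ 0 ∧ D.φ y = D.φ R} ⟨R, hR, rfl⟩ (fun h => h.1 rfl)
    (fun a y ha hy => ⟨smul_ne_zero ha hy.1, (D.φ_smul a y ha hy.1).trans hy.2⟩)
    (fun S hS y hy => ⟨tr_ne_zero hy.1, (hc S hS y hy.1).trans hy.2⟩) x hx).2

variable (hnc : ∃ x y, x ≠ 0 ∧ y ≠ 0 ∧ D.φ x ≠ D.φ y)
include hnc

theorem no_shift {R : F × F} (hR : R ≠ 0) {b : F} (hb : b ≠ 0) (hg : D.Gen (tr R b))
    (hφ : ∀ x, x ≠ 0 → D.φ (tr R b x) = D.φ x) : False := by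
  obtain ⟨x, y, hx, hy, hne⟩ := hnc
  exact hne ((const_of_shift hR hb hg hφ x hx).trans (const_of_shift hR hb hg hφ y hy).symm)

theorem tr_unique {R : F × F} (hR : R ≠ 0) {b : F} (hb : b ≠ 0) (hg : D.Gen (tr R b)) :
    b = D.qr R := by
  obtain ⟨c, h | h⟩ := hg.affine
  · exfalso
    refine no_shift hnc hR hb hg fun x hx => ?_
    have e := h _ (tr_ne_zero hx (R := R) (b := b))
    rw [tr_invol, h x hx, ← mul_assoc, eq_comm, mul_eq_right, ← pow_two] at e
    refine D.no_two _ _ (tr_ne_zero hx) hx ?_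
    rw [h x hx, mul_pow, e, one_mul]
  · by_contra hne
    have hc : c = D.φ R ^ 2 := by
      have e := h R hR
      rw [tr_self, eq_div_iff_mul_eq', ← pow_two] at e
      exact e.symm
    have hne' : D.qr R + b ≠ 0 := fun e => hne (CharTwo.add_eq_zero.1 e).symm
    refine no_shift hnc hR hne' ?_ fun x hx => ?_
    · rw [show tr R (D.qr R + b) = tr R (D.qr R) ∘ tr R b from funext fun x => (tr_tr R _ _ x).symm]
      exact Gen.cons hR hg
    · rw [← tr_tr, D.φ_tr R hR _ (tr_ne_zero hx), h x hx, hc, div_div_cancel]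

theorem qr_map {g : (F × F) → (F × F)} (hg : D.Gen g) {R : F × F} (hR : R ≠ 0) :
    D.qr (g R) = D.qr R := by
  obtain ⟨g', hg', -, h2⟩ := hg.exists_inv
  refine (tr_unique hnc (hg.ne_zero hR) (D.qr_ne R hR) ?_).symm
  rw [← hg.conj_tr h2]
  exact hg.comp ((gen_tr hR).comp hg')

omit [Fintype F] hnc in
theorem norm_unique {a : F} {x : F × F} (hx : x ≠ 0) (ha : a ≠ 0) (e : D.qr (a • x) = D.qr x) : a = 1 := by
  have h := D.qr_smul a x ha hx
  rw [e, mul_eq_left₀ (D.qr_ne x hx), ← pow_two] at h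
  have : (a + 1) ^ 2 = 0 := by rw [CharTwo.add_sq, h, one_pow, CharTwo.add_self_eq_zero]
  exact CharTwo.add_eq_zero.1 (pow_eq_zero_iff two_ne_zero |>.1 this)

omit [Fintype F] hnc in
theorem tr_line {A B : F × F} (hA : A ≠ 0) (hB : B ≠ 0) (h : det₂ A B = 0) :
    tr A (D.qr A) = tr B (D.qr B) := by
  obtain ⟨a, rfl⟩ := eq_smul_of_det₂ hB h
  have ha : a ≠ 0 := fun e => hA (by rw [e, zero_smul])
  rw [tr_smul_centre, mul_comm, D.qr_smul a B ha hB]

omit [Fintype F] hnc in
theorem tr_ne_id {R : F × F} (hR : R ≠ 0) : tr R (D.qr R) ≠ id := by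
  intro e
  obtain ⟨y, hy⟩ := exists_det_ne hR
  have e1 := congrFun e y
  simp only [tr, id_eq, add_eq_left, smul_eq_zero, mul_eq_zero] at e1
  rcases e1 with (e1 | e1) | e1
  · exact D.qr_ne R hR e1
  · exact hy (by rw [det₂_comm]; exact e1)
  · exact hR e1

theorem no_prod {A B C : F × F} (hA : A ≠ 0) (hB : B ≠ 0) (hC : C ≠ 0) :
    tr A (D.qr A) ∘ tr B (D.qr B) ≠ tr C (D.qr C) := by
  intro e
  have eA : tr A (D.qr A) = tr C (D.qr C) ∘ tr B (D.qr B) := by
    rw [← e]; funext x; simp [tr_invol]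
  have hcomm : tr C (D.qr C) ∘ tr B (D.qr B) ∘ tr C (D.qr C) = tr B (D.qr B) := by
    funext x
    have h2 := tr_invol A (D.qr A) (tr B (D.qr B) x)
    rw [eA] at h2
    simp only [Function.comp_apply, tr_invol] at h2 ⊢
    exact h2
  rw [(gen_tr hC).conj_tr (fun x => tr_invol C _ x)] at hcomm
  have h1 := tr_centre (tr_ne_zero hB) (D.qr_ne B hB) hcomm
  rw [tr, det₂_add_left, det₂_smul_left, det₂_self, zero_add, mul_assoc, mul_eq_zero, mul_eq_zero] at h1
  have h0 : det₂ B C = 0 := by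
    rcases h1 with h1 | h1 | h1
    · exact absurd h1 (D.qr_ne C hC)
    · exact h1
    · rw [det₂_comm]; exact h1
  rw [← tr_line hB hC h0] at eA
  exact tr_ne_id hA (eA.trans (funext fun x => tr_invol B _ x))

theorem fixes {g : (F × F) → (F × F)} (hg : D.Gen g) {R : F × F} (hR : R ≠ 0) (h : g R = R) :
    g = id ∨ g = tr R (D.qr R) := by
  obtain ⟨y, hy⟩ := exists_det_ne hR
  obtain ⟨T, hT⟩ : ∃ T, T = (det₂ R y)⁻¹ • y := ⟨_, rfl⟩
  have h1 : det₂ T R = 1 := by rw [hT, det₂_smul_left, det₂_comm y R, inv_mul_cancel₀ hy]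
  obtain ⟨b, hb⟩ := eq_smul_of_det₂ hR (x := g T + T) (by
    have e := hg.det T R
    rw [h] at e
    rw [det₂_add_left, e, CharTwo.add_self_eq_zero])
  have hgT : g T = T + b • R := by
    rw [← hb, add_comm (g T), ← add_assoc, ← two_smul F T, CharTwo.two_eq_zero, zero_smul, zero_add]
  have hgb : g = tr R b := funext fun x => by
    conv_lhs => rw [eq_comb h1 x]
    rw [hg.map_add, hg.map_smul, hg.map_smul, h, hgT, tr]
    conv_rhs => arg 1; rw [eq_comb h1 x]
    rw [smul_add, smul_smul, mul_comm b]; abel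
  subst hgb
  by_cases hb0 : b = 0
  · exact Or.inl (funext fun x => by rw [hb0, tr_zero]; rfl)
  · exact Or.inr (by rw [tr_unique hnc hR hb0 hg])

theorem classify {g : (F × F) → (F × F)} (hg : D.Gen g) {R : F × F} (hR : R ≠ 0)
    (hR1 : D.qr R = 1) : ∃ S, S ≠ 0 ∧ (g = tr S (D.qr S) ∨ g = tr S (D.qr S) ∘ tr R (D.qr R)) := by
  classical
  let X := {S : F × F // S ≠ 0 ∧ D.qr S = 1}
  let f : X → X := fun S => ⟨tr S.1 (D.qr S.1) R, tr_ne_zero hR, (qr_map hnc (gen_tr S.2.1) hR).trans hR1⟩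
  have hf : Function.Injective f := by
    intro S S' e
    have e' : tr S.1 (D.qr S.1) R = tr S'.1 (D.qr S'.1) R := congrArg Subtype.val e
    have hfix : (tr S'.1 (D.qr S'.1) ∘ tr S.1 (D.qr S.1)) R = R := by
      simp only [Function.comp_apply, e', tr_invol]
    rcases fixes hnc (Gen.cons S'.2.1 (gen_tr S.2.1)) hR hfix with hid | hπ
    · have : tr S'.1 (D.qr S'.1) = tr S.1 (D.qr S.1) := funext fun x => by
        have := congrFun hid (tr S.1 (D.qr S.1) x)
        simpa [tr_invol] using this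
      obtain ⟨a, ha⟩ := eq_smul_of_det₂ S'.2.1 (x := S.1) (by
        rw [det₂_comm]; exact tr_centre S'.2.1 (D.qr_ne _ S'.2.1) this)
      have ha0 : a ≠ 0 := fun e0 => S.2.1 (by rw [ha, e0, zero_smul])
      have : a = 1 := norm_unique S'.2.1 ha0 (by rw [← ha, S.2.2, S'.2.2])
      exact Subtype.ext (by rw [ha, this, one_smul])
    · exact absurd hπ (no_prod hnc S'.2.1 S.2.1 hR)
  obtain ⟨S, hS⟩ := (Finite.injective_iff_surjective.1 hf)
    ⟨g R, hg.ne_zero hR, (qr_map hnc hg hR).trans hR1⟩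
  have hS' : tr S.1 (D.qr S.1) R = g R := congrArg Subtype.val hS
  refine ⟨S.1, S.2.1, ?_⟩
  have hfix : (tr S.1 (D.qr S.1) ∘ g) R = R := by
    simp only [Function.comp_apply, ← hS', tr_invol]
  rcases fixes hnc (Gen.cons S.2.1 hg) hR hfix with e | e
  · exact Or.inl (funext fun x => by
      simpa [tr_invol] using congrArg (tr S.1 (D.qr S.1)) (congrFun e x))
  · exact Or.inr (funext fun x => by
      simpa [tr_invol] using congrArg (tr S.1 (D.qr S.1)) (congrFun e x))

/-- The key count. -/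
theorem det_fibre {R S S' : F × F} (hR : R ≠ 0) (hS : S ≠ 0) (hS' : S' ≠ 0) (hR1 : D.qr R = 1)
    (hS1 : D.qr S = 1) (hS'1 : D.qr S' = 1) (hd : det₂ S' R = det₂ S R) (hd0 : det₂ S R ≠ 0) :
    S' = S ∨ S' = S + det₂ S R • R := by
  obtain ⟨k, hk⟩ := eq_smul_of_det₂ hR (x := S' + S) (by
    rw [det₂_add_left, hd, CharTwo.add_self_eq_zero])
  have hS'e : S' = S + k • R := by
    rw [← hk, add_comm S', ← add_assoc, ← two_smul F S, CharTwo.two_eq_zero, zero_smul, zero_add]
  set p := tr R (D.qr R) with hp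
  set pS := tr S (D.qr S) with hpS
  set pS' := tr S' (D.qr S') with hpS'
  have hg : D.Gen (pS ∘ p ∘ pS') := (gen_tr hS).comp ((gen_tr hR).comp (gen_tr hS'))
  have hsym : pS ∘ p ∘ pS' = pS' ∘ p ∘ pS := by
    obtain ⟨W, hW, e | e⟩ := classify hnc hg hR hR1
    · funext x
      have h1 : (pS ∘ p ∘ pS') ((pS' ∘ p ∘ pS) x) = x := by
        simp [hp, hpS, hpS', tr_invol]
      have h2 := congrArg (pS ∘ p ∘ pS') h1
      rw [e] at h2
      simp only [Function.comp_apply, tr_invol] at h2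
      exact (h2.trans (congrFun e x).symm).symm
    · exfalso
      refine no_prod hnc hS (tr_ne_zero (R := R) (b := D.qr R) hS') hW ?_
      rw [qr_map hnc (gen_tr hR) hS', ← (gen_tr hR).conj_tr (fun x => tr_invol R _ x)]
      funext x
      have := congrFun e (p x)
      simp only [Function.comp_apply, hp, tr_invol] at this ⊢
      exact this
  have e := congrFun hsym R
  simp only [Function.comp_apply, hp, hpS, hpS', hR1, hS1, hS'1, tr, one_mul] at e
  rw [hS'e] at e
  simp only [det₂_add_left, det₂_add_right, det₂_smul_left, det₂_smul_right, det₂_self,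
    det₂_comm R S] at e
  obtain ⟨d, hdd⟩ : ∃ d, d = det₂ S R := ⟨_, rfl⟩
  rw [← hdd] at e hd0 ⊢
  have f1 := congrArg (fun v => det₂ v S) e
  simp only [det₂_add_left, det₂_smul_left, det₂_self, det₂_comm R S, ← hdd] at f1
  have h2 : (2 : F) = 0 := CharTwo.two_eq_zero
  have hk' : d * d * d * k * (k + d) = 0 := by grind
  rcases mul_eq_zero.1 hk' with e' | e'
  · left; rw [hS'e, (mul_eq_zero.1 e').resolve_left (by simp [hd0]), zero_smul, add_zero]
  · right; rw [hS'e, CharTwo.add_eq_zero.1 e']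

end Refl

end Cfsg.Agent.SuzukiRankOne.Unitary
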